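import Cfsg.Agent.BHZ.Exc.CovIIA
import Cfsg.Agent.BHZ.Exc.CovIA
import Cfsg.Agent.BHZ.Exc.DecA

/-!
# S4806, exceptional groups (helper25): case II

* `conn6` : connected centralizers in the universal group of type `E₆` (the argument takes place in `E₇`);
* `triv_of_cert7`, `CK7`, `CKA` : the table of the centralizers of the elements of order `3`;
* `boxCovII`.
-/

set_option autoImplicit false
set_option synthInstance.maxSize 4000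

namespace Cfsg.Agent.BHZ.Exc

open CoxeterSystem Cfsg Cfsg.Lie Cfsg.Lie.ChevalleyDatum
open Cfsg.Agent.ChevalleyStructure Cfsg.Agent.ChevalleyStructure.Elts Cfsg.Agent.ChevalleyStructure.CoxeterGeom
  Cfsg.Agent.ChevalleyStructure.CoxeterGeomTypes
open Cfsg.Agent.Tits.Roots Cfsg.Agent.Tits.Core Cfsg.Agent.Nodes Cfsg.Agent.Nodes.Reps Cfsg.Agent.Nodes.BNOf
  Cfsg.Agent.Nodes.RGDChev Cfsg.Agent.Nodes.Bruhat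
open Cfsg.Agent.KFacts.RgdField Cfsg.Agent.KFacts.RgdChevCoord
open Cfsg.Agent.BpExc Cfsg.Agent.BpExc.TorCent Cfsg.Agent.BpExc.TorChev Cfsg.Agent.BpExc.Tow
  Cfsg.Agent.BpExc.TowChev Cfsg.Agent.BpExc.Fr Cfsg.Agent.BpExc.LangFr
open Cfsg.Agent.H469.Exc Cfsg.Agent.H795.SetCent Cfsg.Agent.H129.TorusChar Cfsg.Agent.DS.Ex Cfsg.Agent.DS.Nt
open scoped commutatorElement
open Cfsg.Agent.H46.Gen (AFr Rt Pr rt_iff)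
open Cfsg.Agent.H931.KC (Kac bb psi al ok_E7)
open Cfsg.Agent.H92.NE (bl bl_rep)
open Cfsg.Agent.BHZ.Exc.CovI Cfsg.Agent.BHZ.Exc.TY Cfsg.Agent.BHZ.Exc.AA

namespace CovII

variable {r : ℕ} [Fact r.Prime]

/-! ### connected centralizers -/

/-- the invariant form of `E₇` -/
def B7 : Fin 7 → Fin 7 → ℤ := ![![2, 0, -1, 0, 0, 0, 0], ![0, 2, 0, -1, 0, 0, 0], ![-1, 0, 2, -1, 0, 0, 0],
  ![0, -1, -1, 2, -1, 0, 0], ![0, 0, 0, -1, 2, -1, 0], ![0, 0, 0, 0, -1, 2, -1], ![0, 0, 0, 0, 0, -1, 2]]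

theorem tab_rot : ∀ s : Fin chevE7.nroots, (∀ i : Fin 6, bl B7 (vec chevE7 7 s) (ex7 (al chevE6 6 (rho (some i)))) =
    bl B7 (sr 6) (ex7 (al chevE6 6 (some i)))) →
    ∀ m, vec chevE7 7 s m = (sr 6 + ex7 ![2, 2, 3, 4, 3, 2] : Fin 7 → ℤ) m := by
  decide +kernel

theorem rot_ne {v : CoxeterMatrix.E₆.Group}
    (hv : ∀ i, rep CoxeterMatrix.E₆.toCoxeterSystem hpE6.isCartan v (al chevE6 6 i) = al chevE6 6 (rho i))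
    {k a : St6 r} (hk : RP hpE6 r v (th6 r k)) (ha : th6 r a ∈ TT chevE6 (KK r)) (hc : k * a = a * k) :
    cX hpE6 (th6 r a) ![2, 2, 3, 4, 3, 2] = 1 := by
  obtain ⟨w, h1, h2⟩ := je7.rp hk
  obtain ⟨s, hs, e⟩ := (isRoot_iff hpE7 CoxeterMatrix.E₇.toCoxeterSystem _).1
    ((isRoot_sr CoxeterMatrix.E₇.toCoxeterSystem hpE7.isCartan 6).act w)
  have h3 := funext (tab_rot ⟨s, hs⟩ fun i => by
    show bl B7 (vec chevE7 7 s) _ = _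
    rw [e, ← hv, ← h2]
    exact bl_rep hpE7 ok_E7.1 w _ _)
  have h4 := h1.cX_of_comm (je7.tor ha).1 (by rw [← map_mul, hc, map_mul]) (sr 6)
  have hm := isMC_cX hpE7 (je7.tor ha).1
  rw [← e, show vec chevE7 7 s = _ from h3, hm.add, (je7.tor ha).2] at h4
  exact mul_left_cancel₀ (hm.ne_zero _) (h4.trans (mul_one _).symm)

theorem rot_ne' {v : CoxeterMatrix.E₆.Group} (hv : Rot v) {k a : St6 r} (hk : RP hpE6 r v (th6 r k))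
    (ha : th6 r a ∈ TT chevE6 (KK r)) (hc : k * a = a * k) : cX hpE6 (th6 r a) ![2, 2, 3, 4, 3, 2] = 1 := by
  rcases hv with hv | hv
  · exact rot_ne hv hk ha hc
  · refine rot_ne (v := v⁻¹) (k := k⁻¹) (fun i => by rw [← hv, rep_inv_apply]) (by rw [map_inv]; exact hk.inv) ha ?_
    calc k⁻¹ * a = k⁻¹ * (a * k) * k⁻¹ := by group
      _ = a * k⁻¹ := by rw [← hc]; group

theorem conn6 (hr : r ≠ 3) (a x : St6 r) (ha : th6 r a ∈ TT chevE6 (KK r)) (h3 : th6 r a ^ 3 = 1) (hx : x * a = a * x) :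
    th6 r x ∈ DZ hpE6 r {th6 r a} := by
  by_contra hn
  have := fin6
  have C := cov0_six hr
  have hc : r.Coprime 3 := (Nat.coprime_primes Fact.out Nat.prime_three).2 hr
  obtain ⟨ζ, hζ⟩ := exists_prim (p := r) Nat.prime_three hr.symm
  obtain ⟨m, hm, y, hy, hy1, k, hk, -, e⟩ := form6 ha (by rw [← map_mul, hx, map_mul]) hn
  obtain ⟨w, hrot, h⟩ := pp6 hr hζ ha h3 hy hy1
  obtain ⟨m', hm', rfl⟩ := exists_Mh hpE6 C hc (fun _ => Ps_root) hm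
  have h1 : m' * a = a * m' := T_comm_Mh C hc ha (fun _ => Ps_root) (fun _ h => ((mem_Ps_one ha).1 h).2) hm'
  have h2 : th6 r (m'⁻¹ * x) = k := by rw [map_mul, map_inv, e, inv_mul_cancel_left]
  obtain ⟨n₀, hn₀⟩ := exists_RP hpE6 r w
  obtain ⟨n, rfl⟩ := C.surj n₀
  have e1 : th6 r (n⁻¹ * a * n) = (th6 r n)⁻¹ * th6 r a * (th6 r n)⁻¹⁻¹ := by rw [map_mul, map_mul, map_inv, inv_inv]
  have h4 := rot_ne' hrot (k := n⁻¹ * (m'⁻¹ * x) * n) (a := n⁻¹ * a * n)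
    (by rw [map_mul, map_mul, map_inv, h2]; exact (hn₀.inv.mul hk).mul hn₀) (by rw [e1]; exact hn₀.inv.conj_mem ha) (by
      calc n⁻¹ * (m'⁻¹ * x) * n * (n⁻¹ * a * n) = n⁻¹ * m'⁻¹ * (x * a) * n := by group
        _ = n⁻¹ * m'⁻¹ * (a * m') * m'⁻¹ * x * n := by rw [hx]; group
        _ = _ := by rw [← h1]; group)
  have h5 := hn₀.inv.cX ha (rep CoxeterMatrix.E₆.toCoxeterSystem hpE6.isCartan w ![2, 2, 3, 4, 3, 2])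
  rw [rep_inv_apply, ← e1, h4] at h5
  rcases h with h | h <;> rw [h, eq_comm, hζ.zpow_eq_one_iff_dvd] at h5 <;> exact absurd h5 (by decide)

/-! ### the table -/

theorem triv_of_cert7 (hr : r ≠ 3) {S : Set (Fin 6 → ℤ)}
    (hS : ∀ a ∈ S, IsRoot CoxeterMatrix.E₆.toCoxeterSystem hpE6.isCartan a) (h : Cert chevE7 7 3 (ex7 '' S)) :
    Triv hpE6 3 (th6 r) S := by
  intro c hc hT h1 n hn
  refine j7_inj ((eq_one_of_cert (hp := hpE7) Nat.prime_three ?_ h (je7.mem_Sup hr hS hc) (je7.tor hT).1 ?_ (n := n)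
    ?_).trans (map_one _).symm)
  · rintro _ ⟨a, ha, rfl⟩
    exact (je7 (r := r)).isRoot (hS a ha)
  · rintro _ ⟨a, ha, rfl⟩
    rw [(je7.tor hT).2]
    exact h1 a ha
  · rw [← map_pow, hn, map_one]

/-- the certificate for `Triv` -/
def CK7 (c : Fin 6 → ℕ) (W G : Fin 7 → Fin 7 → ℤ) (K : Fin 7 → ℤ) (C : Fin 7 → Fin 7 → ℤ) (d : ℤ) : Prop :=
  (∀ j : Fin 7, (∃ s : Fin chevE6.nroots, (∀ m, W j m = ex7 (vec chevE6 6 s) m) ∧ (3 : ℤ) ∣ bb c (vec chevE6 6 s)) ∨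
    ((∀ s : Fin chevE6.nroots, (3 : ℤ) ∣ bb c (vec chevE6 6 s) → psi (G j) (ex7 (vec chevE6 6 s)) = 0) ∧
      ∀ m, W j m = lvl chevE7 7 (psi (G j)) (K j) m)) ∧
  (∀ i m, ∑ j, C i j * W j m = d * (sr i : Fin 7 → ℤ) m) ∧ ¬ (3 : ℤ) ∣ d

/-- the certificate for the type `A₅` -/
def CKA (c : Fin 6 → ℕ) (ev : Fin 6 → Fin 6 → ℤ) : Prop :=
  (∀ s : Fin chevE6.nroots, (3 : ℤ) ∣ bb c (vec chevE6 6 s) → ∃ i j, i ≠ j ∧ ∀ m, vec chevE6 6 s m = ev i m - ev j m) ∧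
  (∀ i j, i ≠ j → (3 : ℤ) ∣ bb c (ev i - ev j) ∧ ∃ s : Fin chevE6.nroots, ∀ m, vec chevE6 6 s m = ev i m - ev j m) ∧
  (∀ i j p, i ≠ j → j ≠ p → i ≠ p → bl B6 (ev i - ev j) (ev j - ev p) = -1) ∧
  ∀ i j, i ≠ j → ∀ p, j ≠ p → i ≠ p → ∀ q, p ≠ q → i ≠ q → j ≠ q → bl B6 (ev i - ev j) (ev p - ev q) = 0

theorem SK_root {c : Fin 6 → ℕ} : ∀ a ∈ SK chevE6 6 3 c, IsRoot CoxeterMatrix.E₆.toCoxeterSystem hpE6.isCartan a :=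
  fun _ ha => (rt_iff hpE6 _).1 ha.1

theorem CK7.triv (hr : r ≠ 3) {c : Fin 6 → ℕ} {W G : Fin 7 → Fin 7 → ℤ} {K : Fin 7 → ℤ} {C : Fin 7 → Fin 7 → ℤ} {d : ℤ}
    (h : CK7 c W G K C d) : Triv hpE6 3 (th6 r) (SK chevE6 6 3 c) := by
  refine triv_of_cert7 hr SK_root fun H h1 h2 h3 i => ?_
  have hW : ∀ j, W j ∈ H := fun j => by
    rcases h.1 j with ⟨s, e, hs⟩ | ⟨h4, e⟩
    · rw [show W j = _ from funext e]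
      exact h1 _ ⟨_, ⟨⟨s, s.2, rfl⟩, hs⟩, rfl⟩
    · rw [show W j = _ from funext e]
      refine h3 _ ?_ _
      rintro _ ⟨_, ⟨⟨s, hs, rfl⟩, h5⟩, rfl⟩
      exact h4 ⟨s, hs⟩ h5
  refine h2 d _ h.2.2 ?_
  have e : d • (sr i : Fin 7 → ℤ) = ∑ j, C i j • W j := by
    funext m
    rw [Finset.sum_apply]
    exact (h.2.1 i m).symm
  rw [e]
  exact sum_mem fun j _ => H.zsmul_mem (hW j) _

theorem triv_empty : Triv hpE6 3 (th6 r) ∅ := fun c hc _ _ _ _ => by rwa [Mh_empty, Subgroup.mem_bot] at hc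

theorem pr_of_bl {a b : Fin 6 → ℤ} (ha : Rt chevE6 6 a) (hb : Rt chevE6 6 b) (hs : Rt chevE6 6 (a + b))
    (h : bl B6 a b = -1) : Pr chevE6 6 a b := by
  have key : ∀ m n : ℤ, Rt chevE6 6 (m • a + n • b) → m * m * 2 + 2 * m * n * (-1) + n * n * 2 = 2 := fun m n h0 => by
    have h1 := bl_rt h0
    rwa [bl_comb, bl_rt ha, bl_rt hb, h] at h1
  refine ⟨ha, hb, hs, fun h => ?_, fun h => ?_, fun h => ?_⟩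
  · have h1 := key (-1) 1 (by convert h using 1; module)
    omega
  · have h1 := key 2 1 (by convert h using 1; module)
    omega
  · have h1 := key 1 2 (by convert h using 1; module)
    omega

theorem CKA.dec {c : Fin 6 → ℕ} {ev : Fin 6 → Fin 6 → ℤ} (h : CKA c ev) :
    Dec chevE6 6 3 (Triv hpE6 3 (th6 r)) (SK chevE6 6 3 c) := by
  have hr : ∀ i j, i ≠ j → Rt chevE6 6 (ev i - ev j) := fun i j hij => by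
    obtain ⟨-, s, hs⟩ := h.2.1 i j hij
    exact ⟨s, s.2, funext hs⟩
  have h1 : SK chevE6 6 3 c ⊆ Rts ev := by
    rintro _ ⟨⟨s, hs, rfl⟩, h1⟩
    obtain ⟨i, j, hij, e⟩ := h.1 ⟨s, hs⟩ h1
    exact ⟨i, j, hij, funext e⟩
  refine .step _ 5 ev ⟨hr, fun i j p h1 h2 h3 => pr_of_bl (hr i j h1) (hr j p h2) ?_ (h.2.2.1 i j p h1 h2 h3),
    fun i j p q h1 h2 h3 h4 h5 h6 => so_of_bl (hr i j h1) (hr p q h2) (h.2.2.2 i j h1 p h3 h5 q h2 h4 h6)⟩ (by norm_num)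
    (fun _ => rfl) ⟨?_, fun a _ b hb hn => absurd (h1 hb) hn⟩ (.base _ ?_)
  · rw [sub_add_sub_cancel]
    exact hr i p h3
  · rintro _ ⟨i, j, hij, rfl⟩
    exact ⟨hr i j hij, (h.2.1 i j hij).1⟩
  · rw [Set.sdiff_eq_empty.2 h1]
    exact triv_empty

theorem Ps_eq_SK {ζ : KK r} (hζ : IsPrimitiveRoot ζ 3) {t : YY chevE6 r} (ht : t ∈ TT chevE6 (KK r)) {c : Fin 6 → ℕ}
    (h : ∀ x, cX hpE6 t x = ζ ^ bb c x) : Ps hpE6 r {t} = SK chevE6 6 3 c := by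
  ext a
  rw [mem_Ps_one ht, h, hζ.zpow_eq_one_iff_dvd, ← rt_iff hpE6]
  rfl

theorem bb6 (c : Fin 6 → ℕ) (x : Fin 6 → ℤ) :
    bb c x = x 0 * c 0 + x 1 * c 1 + x 2 * c 2 + x 3 * c 3 + x 4 * c 4 + x 5 * c 5 := by
  show ∑ i, x i * (c i : ℤ) = _
  rw [Fin.sum_univ_six]

theorem decA6 (hr : r ≠ 3) : Dec chevE6 6 3 (Triv hpE6 3 (th6 r)) (SK chevE6 6 3 ![0, 0, 0, 1, 0, 0]) := by
  obtain ⟨ζ, hζ⟩ := exists_prim (p := r) Nat.prime_three hr.symm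
  obtain ⟨t, ht, h⟩ := exists_tor' hpE6 (isMC_zpow (hζ.ne_zero three_ne_zero) (bb ![0, 0, 0, 1, 0, 0]))
  rw [← Ps_eq_SK hζ ht h]
  refine dec_mono (S₀ := Set.univ) (fun S _ e => ?_) (boxDecA r ζ t ⟨hζ, ht, fun x => ?_⟩) (Set.subset_univ _)
  · rw [e]
    exact triv_empty
  · rw [h, bb6]
    simp

theorem ck0 : CK7 ![0, 0, 1, 0, 0, 0]
    ![![1, 0, 0, 0, 0, 0, 0], ![0, 1, 0, 0, 0, 0, 0], ![0, 0, 0, 1, 0, 0, 0], ![0, 0, 0, 0, 1, 0, 0],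
      ![0, 0, 0, 0, 0, 1, 0], ![-10, -13, -20, -26, -19, -12, -5], ![-3, -4, -6, -8, -6, -4, -2]]
    ![![0, 0, 0, 0, 0, 0, 0], ![0, 0, 0, 0, 0, 0, 0], ![0, 0, 0, 0, 0, 0, 0], ![0, 0, 0, 0, 0, 0, 0],
      ![0, 0, 0, 0, 0, 0, 0], ![0, 0, -1, 0, 0, 0, -1], ![0, 0, -1, 0, 0, 0, 0]]
    ![0, 0, 0, 0, 0, 1, 3]
    ![![10, 0, 0, 0, 0, 0, 0], ![0, 10, 0, 0, 0, 0, 0], ![-5, -6, -12, -8, -4, -2, 5], ![0, 0, 10, 0, 0, 0, 0],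
      ![0, 0, 0, 10, 0, 0, 0], ![0, 0, 0, 0, 10, 0, 0], ![0, -2, -4, -6, -8, 6, -20]] 10 := by
  unfold CK7
  decide +kernel

theorem ck1 : CK7 ![0, 0, 0, 0, 1, 0]
    ![![1, 0, 0, 0, 0, 0, 0], ![0, 1, 0, 0, 0, 0, 0], ![0, 0, 1, 0, 0, 0, 0], ![0, 0, 0, 1, 0, 0, 0],
      ![0, 0, 0, 0, 0, 1, 0], ![-8, -12, -16, -24, -20, -15, -10], ![-6, -9, -12, -18, -15, -10, -5]]
    ![![0, 0, 0, 0, 0, 0, 0], ![0, 0, 0, 0, 0, 0, 0], ![0, 0, 0, 0, 0, 0, 0], ![0, 0, 0, 0, 0, 0, 0],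
      ![0, 0, 0, 0, 0, 0, 0], ![0, 0, 0, 0, -1, 0, -1], ![0, 0, 0, 0, -1, 0, 0]]
    ![0, 0, 0, 0, 0, 3, 3]
    ![![10, 0, 0, 0, 0, 0, 0], ![0, 10, 0, 0, 0, 0, 0], ![0, 0, 10, 0, 0, 0, 0], ![0, 0, 0, 10, 0, 0, 0],
      ![-4, -6, -8, -12, -5, 1, -2], ![0, 0, 0, 0, 10, 0, 0], ![0, 0, 0, 0, -5, -3, 4]] 10 := by
  unfold CK7
  decide +kernel

theorem ck2 : CK7 ![1, 1, 0, 0, 0, 0]
    ![![0, 0, 1, 0, 0, 0, 0], ![0, 0, 0, 1, 0, 0, 0], ![0, 0, 0, 0, 1, 0, 0], ![0, 0, 0, 0, 0, 1, 0],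
      ![-1, -2, -2, -3, -2, -1, 0], ![8, 2, 8, 8, 6, 4, 2], ![3, 2, 4, 5, 4, 3, 2]]
    ![![0, 0, 0, 0, 0, 0, 0], ![0, 0, 0, 0, 0, 0, 0], ![0, 0, 0, 0, 0, 0, 0], ![0, 0, 0, 0, 0, 0, 0],
      ![0, 0, 0, 0, 0, 0, 0], ![2, -1, 0, 0, 0, 0, 0], ![2, -1, 0, 0, 0, 0, 1]]
    ![0, 0, 0, 0, 0, 2, 3]
    ![![-8, -6, -4, -2, 0, 2, -2], ![-6, -12, -8, -4, -5, -1, 1], ![10, 0, 0, 0, 0, 0, 0], ![0, 10, 0, 0, 0, 0, 0],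
      ![0, 0, 10, 0, 0, 0, 0], ![0, 0, 0, 10, 0, 0, 0], ![-2, -4, -6, -8, 5, -2, 7]] 10 := by
  unfold CK7
  decide +kernel

theorem ck3 : CK7 ![1, 0, 0, 0, 1, 0]
    ![![0, 1, 0, 0, 0, 0, 0], ![0, 0, 1, 0, 0, 0, 0], ![0, 0, 0, 1, 0, 0, 0], ![0, 0, 0, 0, 0, 1, 0],
      ![-1, -2, -2, -3, -2, -1, 0], ![0, -2, -2, -4, -4, -3, -2], ![4, -2, 0, -4, -6, -4, -2]]
    ![![0, 0, 0, 0, 0, 0, 0], ![0, 0, 0, 0, 0, 0, 0], ![0, 0, 0, 0, 0, 0, 0], ![0, 0, 0, 0, 0, 0, 0],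
      ![0, 0, 0, 0, 0, 0, 0], ![2, 0, 0, 0, -1, 0, -1], ![2, 0, 0, 0, -1, 0, 0]]
    ![0, 0, 0, 0, 0, 3, 2]
    ![![-4, -8, -6, 0, -2, -2, 2], ![10, 0, 0, 0, 0, 0, 0], ![0, 10, 0, 0, 0, 0, 0], ![0, 0, 10, 0, 0, 0, 0],
      ![-8, -6, -12, -5, -4, 1, -1], ![0, 0, 0, 10, 0, 0, 0], ![6, 2, 4, -5, 8, -7, 2]] 10 := by
  unfold CK7
  decide +kernel

theorem ck4 : CK7 ![0, 1, 0, 0, 0, 1]
    ![![1, 0, 0, 0, 0, 0, 0], ![0, 0, 1, 0, 0, 0, 0], ![0, 0, 0, 1, 0, 0, 0], ![0, 0, 0, 0, 1, 0, 0],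
      ![-1, -2, -2, -3, -2, -1, 0], ![-7, -10, -14, -21, -18, -15, -10], ![-4, -5, -8, -12, -11, -10, -5]]
    ![![0, 0, 0, 0, 0, 0, 0], ![0, 0, 0, 0, 0, 0, 0], ![0, 0, 0, 0, 0, 0, 0], ![0, 0, 0, 0, 0, 0, 0],
      ![0, 0, 0, 0, 0, 0, 0], ![0, 1, 0, 0, 0, -2, -1], ![0, 1, 0, 0, 0, -2, 0]]
    ![0, 0, 0, 0, 0, 3, 3]
    ![![10, 0, 0, 0, 0, 0, 0], ![-4, -8, -12, -6, -5, -1, 2], ![0, 10, 0, 0, 0, 0, 0], ![0, 0, 10, 0, 0, 0, 0],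
      ![0, 0, 0, 10, 0, 0, 0], ![-2, -4, -6, -8, 0, 2, -4], ![0, 0, 0, 0, 5, -3, 4]] 10 := by
  unfold CK7
  decide +kernel

theorem ck5 : CK7 ![0, 0, 1, 0, 0, 1]
    ![![1, 0, 0, 0, 0, 0, 0], ![0, 1, 0, 0, 0, 0, 0], ![0, 0, 0, 1, 0, 0, 0], ![0, 0, 0, 0, 1, 0, 0],
      ![-1, -2, -2, -3, -2, -1, 0], ![-2, -5, -4, -10, -11, -12, -5], ![-1, -2, -2, -4, -4, -4, -2]]
    ![![0, 0, 0, 0, 0, 0, 0], ![0, 0, 0, 0, 0, 0, 0], ![0, 0, 0, 0, 0, 0, 0], ![0, 0, 0, 0, 0, 0, 0],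
      ![0, 0, 0, 0, 0, 0, 0], ![0, 0, 1, 0, 0, -2, -1], ![0, 0, 1, 0, 0, -2, 0]]
    ![0, 0, 0, 0, 0, 1, 3]
    ![![10, 0, 0, 0, 0, 0, 0], ![0, 10, 0, 0, 0, 0, 0], ![-5, -8, -12, -6, -4, 2, -5], ![0, 0, 10, 0, 0, 0, 0],
      ![0, 0, 0, 10, 0, 0, 0], ![0, -4, -6, -8, -2, -4, 10], ![0, 6, 4, 2, 8, 6, -20]] 10 := by
  unfold CK7
  decide +kernel

theorem ck6 : CK7 ![1, 0, 0, 0, 0, 0]
    ![![0, 1, 0, 0, 0, 0, 0], ![0, 0, 1, 0, 0, 0, 0], ![0, 0, 0, 1, 0, 0, 0], ![0, 0, 0, 0, 1, 0, 0],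
      ![0, 0, 0, 0, 0, 1, 0], ![-16, -17, -25, -34, -26, -18, -10], ![-2, -2, -3, -4, -3, -2, -1]]
    ![![0, 0, 0, 0, 0, 0, 0], ![0, 0, 0, 0, 0, 0, 0], ![0, 0, 0, 0, 0, 0, 0], ![0, 0, 0, 0, 0, 0, 0],
      ![0, 0, 0, 0, 0, 0, 0], ![-1, 0, 0, 0, 0, 0, -1], ![-1, 0, 0, 0, 0, 0, 0]]
    ![0, 0, 0, 0, 0, 1, 2]
    ![![-3, -5, -6, -4, -2, 1, -10], ![4, 0, 0, 0, 0, 0, 0], ![0, 4, 0, 0, 0, 0, 0], ![0, 0, 4, 0, 0, 0, 0],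
      ![0, 0, 0, 4, 0, 0, 0], ![0, 0, 0, 0, 4, 0, 0], ![-2, -2, -4, -4, -4, -2, 16]] 4 := by
  unfold CK7
  decide +kernel

theorem ck7 : CK7 ![2, 0, 0, 0, 0, 0]
    ![![0, 1, 0, 0, 0, 0, 0], ![0, 0, 1, 0, 0, 0, 0], ![0, 0, 0, 1, 0, 0, 0], ![0, 0, 0, 0, 1, 0, 0],
      ![0, 0, 0, 0, 0, 1, 0], ![-16, -17, -25, -34, -26, -18, -10], ![-2, -2, -3, -4, -3, -2, -1]]
    ![![0, 0, 0, 0, 0, 0, 0], ![0, 0, 0, 0, 0, 0, 0], ![0, 0, 0, 0, 0, 0, 0], ![0, 0, 0, 0, 0, 0, 0],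
      ![0, 0, 0, 0, 0, 0, 0], ![-1, 0, 0, 0, 0, 0, -1], ![-1, 0, 0, 0, 0, 0, 0]]
    ![0, 0, 0, 0, 0, 1, 2]
    ![![-3, -5, -6, -4, -2, 1, -10], ![4, 0, 0, 0, 0, 0, 0], ![0, 4, 0, 0, 0, 0, 0], ![0, 0, 4, 0, 0, 0, 0],
      ![0, 0, 0, 4, 0, 0, 0], ![0, 0, 0, 0, 4, 0, 0], ![-2, -2, -4, -4, -4, -2, 16]] 4 := by
  unfold CK7
  decide +kernel

theorem ck8 : CK7 ![0, 0, 0, 0, 0, 1]
    ![![1, 0, 0, 0, 0, 0, 0], ![0, 1, 0, 0, 0, 0, 0], ![0, 0, 1, 0, 0, 0, 0], ![0, 0, 0, 1, 0, 0, 0],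
      ![0, 0, 0, 0, 1, 0, 0], ![-8, -12, -16, -24, -20, -16, -1], ![-10, -15, -20, -30, -25, -20, -10]]
    ![![0, 0, 0, 0, 0, 0, 0], ![0, 0, 0, 0, 0, 0, 0], ![0, 0, 0, 0, 0, 0, 0], ![0, 0, 0, 0, 0, 0, 0],
      ![0, 0, 0, 0, 0, 0, 0], ![0, 0, 0, 0, 0, -1, -1], ![0, 0, 0, 0, 0, -1, 0]]
    ![0, 0, 0, 0, 0, 1, 2]
    ![![140, 0, 0, 0, 0, 0, 0], ![0, 140, 0, 0, 0, 0, 0], ![0, 0, 140, 0, 0, 0, 0], ![0, 0, 0, 140, 0, 0, 0],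
      ![0, 0, 0, 0, 140, 0, 0], ![-70, -105, -140, -210, -175, -10, 1], ![0, 0, 0, 0, 0, 20, -16]] 140 := by
  unfold CK7
  decide +kernel

theorem ck9 : CK7 ![0, 0, 0, 0, 0, 2]
    ![![1, 0, 0, 0, 0, 0, 0], ![0, 1, 0, 0, 0, 0, 0], ![0, 0, 1, 0, 0, 0, 0], ![0, 0, 0, 1, 0, 0, 0],
      ![0, 0, 0, 0, 1, 0, 0], ![-8, -12, -16, -24, -20, -16, -1], ![-10, -15, -20, -30, -25, -20, -10]]
    ![![0, 0, 0, 0, 0, 0, 0], ![0, 0, 0, 0, 0, 0, 0], ![0, 0, 0, 0, 0, 0, 0], ![0, 0, 0, 0, 0, 0, 0],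
      ![0, 0, 0, 0, 0, 0, 0], ![0, 0, 0, 0, 0, -1, -1], ![0, 0, 0, 0, 0, -1, 0]]
    ![0, 0, 0, 0, 0, 1, 2]
    ![![140, 0, 0, 0, 0, 0, 0], ![0, 140, 0, 0, 0, 0, 0], ![0, 0, 140, 0, 0, 0, 0], ![0, 0, 0, 140, 0, 0, 0],
      ![0, 0, 0, 0, 140, 0, 0], ![-70, -105, -140, -210, -175, -10, 1], ![0, 0, 0, 0, 0, 20, -16]] 140 := by
  unfold CK7
  decide +kernel

theorem ck10 : CK7 ![1, 0, 0, 0, 0, 2]
    ![![0, 1, 0, 0, 0, 0, 0], ![0, 0, 1, 0, 0, 0, 0], ![0, 0, 0, 1, 0, 0, 0], ![0, 0, 0, 0, 1, 0, 0],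
      ![-1, -2, -2, -3, -2, -1, 0], ![-2, -10, -11, -20, -19, -18, -10], ![0, -1, -1, -2, -2, -2, -1]]
    ![![0, 0, 0, 0, 0, 0, 0], ![0, 0, 0, 0, 0, 0, 0], ![0, 0, 0, 0, 0, 0, 0], ![0, 0, 0, 0, 0, 0, 0],
      ![0, 0, 0, 0, 0, 0, 0], ![1, 0, 0, 0, 0, -1, -1], ![1, 0, 0, 0, 0, -1, 0]]
    ![0, 0, 0, 0, 0, 1, 2]
    ![![-4, -5, -6, -3, -2, -1, 10], ![4, 0, 0, 0, 0, 0, 0], ![0, 4, 0, 0, 0, 0, 0], ![0, 0, 4, 0, 0, 0, 0],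
      ![0, 0, 0, 4, 0, 0, 0], ![-4, -3, -6, -5, -2, 1, -10], ![4, 2, 4, 2, 4, -2, 16]] 4 := by
  unfold CK7
  decide +kernel

theorem ck11 : CK7 ![2, 0, 0, 0, 0, 1]
    ![![0, 1, 0, 0, 0, 0, 0], ![0, 0, 1, 0, 0, 0, 0], ![0, 0, 0, 1, 0, 0, 0], ![0, 0, 0, 0, 1, 0, 0],
      ![-1, -2, -2, -3, -2, -1, 0], ![-2, -10, -11, -20, -19, -18, -10], ![0, -1, -1, -2, -2, -2, -1]]
    ![![0, 0, 0, 0, 0, 0, 0], ![0, 0, 0, 0, 0, 0, 0], ![0, 0, 0, 0, 0, 0, 0], ![0, 0, 0, 0, 0, 0, 0],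
      ![0, 0, 0, 0, 0, 0, 0], ![1, 0, 0, 0, 0, -1, -1], ![1, 0, 0, 0, 0, -1, 0]]
    ![0, 0, 0, 0, 0, 1, 2]
    ![![-4, -5, -6, -3, -2, -1, 10], ![4, 0, 0, 0, 0, 0, 0], ![0, 4, 0, 0, 0, 0, 0], ![0, 0, 4, 0, 0, 0, 0],
      ![0, 0, 0, 4, 0, 0, 0], ![-4, -3, -6, -5, -2, 1, -10], ![4, 2, 4, 2, 4, -2, 16]] 4 := by
  unfold CK7
  decide +kernel

theorem ck12 : CK7 ![1, 0, 0, 0, 0, 1]
    ![![0, 1, 0, 0, 0, 0, 0], ![0, 0, 1, 0, 0, 0, 0], ![0, 0, 0, 1, 0, 0, 0], ![0, 0, 0, 0, 1, 0, 0],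
      ![-16, -17, -25, -34, -26, -18, -9], ![-16, -17, -25, -34, -26, -18, -10], ![-2, -2, -3, -4, -3, -2, -1]]
    ![![0, 0, 0, 0, 0, 0, 0], ![0, 0, 0, 0, 0, 0, 0], ![0, 0, 0, 0, 0, 0, 0], ![0, 0, 0, 0, 0, 0, 0],
      ![-1, 0, 0, 0, 0, -1, 0], ![-1, 0, 0, 0, 0, 0, -1], ![-1, 0, 0, 0, 0, 0, 0]]
    ![0, 0, 0, 0, 2, 1, 2]
    ![![-1, -2, -2, -1, 1, 0, -9], ![2, 0, 0, 0, 0, 0, 0], ![0, 2, 0, 0, 0, 0, 0], ![0, 0, 2, 0, 0, 0, 0],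
      ![0, 0, 0, 2, 0, 0, 0], ![-1, -1, -2, -2, -2, 1, 8], ![0, 0, 0, 0, 2, -2, 0]] 2 := by
  unfold CK7
  decide +kernel

theorem ca0 : CKA ![0, 1, 0, 0, 0, 0]
    ![![1, 0, 1, 1, 1, 1], ![0, 0, 1, 1, 1, 1], ![0, 0, 0, 1, 1, 1], ![0, 0, 0, 0, 1, 1], ![0, 0, 0, 0, 0, 1],
      ![0, 0, 0, 0, 0, 0]] := by
  unfold CKA
  decide +kernel

theorem ca1 : CKA ![1, 0, 1, 0, 0, 0]
    ![![-1, -1, -2, -2, -1, 0], ![0, 1, 0, 1, 1, 1], ![0, 0, 0, 1, 1, 1], ![0, 0, 0, 0, 1, 1], ![0, 0, 0, 0, 0, 1],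
      ![0, 0, 0, 0, 0, 0]] := by
  unfold CKA
  decide +kernel

theorem ca2 : CKA ![0, 0, 0, 0, 1, 1]
    ![![0, -1, -1, -2, -2, -1], ![1, 1, 1, 1, 0, 0], ![1, 0, 1, 1, 0, 0], ![1, 0, 1, 0, 0, 0], ![1, 0, 0, 0, 0, 0],
      ![0, 0, 0, 0, 0, 0]] := by
  unfold CKA
  decide +kernel

theorem kac_tab : ∀ a0 ≤ 3, ∀ a1 ≤ 1, ∀ a2 ≤ 1, ∀ a3 ≤ 1, ∀ a4 ≤ 1, ∀ a5 ≤ 3,
    a0 + 2 * a1 + 2 * a2 + 3 * a3 + 2 * a4 + a5 ≤ 3 → (∀ i, 3 ∣ (![a0, a1, a2, a3, a4, a5] : Fin 6 → ℕ) i) ∨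
    (![a0, a1, a2, a3, a4, a5] : Fin 6 → ℕ) ∈ ([![0, 0, 1, 0, 0, 0], ![0, 0, 0, 0, 1, 0], ![1, 1, 0, 0, 0, 0],
      ![1, 0, 0, 0, 1, 0], ![0, 1, 0, 0, 0, 1], ![0, 0, 1, 0, 0, 1], ![1, 0, 0, 0, 0, 0], ![2, 0, 0, 0, 0, 0],
      ![0, 0, 0, 0, 0, 1], ![0, 0, 0, 0, 0, 2], ![1, 0, 0, 0, 0, 2], ![2, 0, 0, 0, 0, 1], ![1, 0, 0, 0, 0, 1],
      ![0, 1, 0, 0, 0, 0], ![1, 0, 1, 0, 0, 0], ![0, 0, 0, 0, 1, 1], ![0, 0, 0, 1, 0, 0]] : List (Fin 6 → ℕ)) := by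
  decide +kernel

theorem dec6 (hr : r ≠ 3) (t : YY chevE6 r) (ht : t ∈ TT chevE6 (KK r)) (h3 : t ^ 3 = 1) (h1 : t ≠ 1) :
    Dec chevE6 6 3 (Triv hpE6 3 (th6 r)) (Ps hpE6 r {t}) := by
  have := fin6
  obtain ⟨ζ, hζ⟩ := exists_prim (p := r) Nat.prime_three hr.symm
  obtain ⟨w, c, c0, K, h, -⟩ := H931.KC.exists_kac_pos hpE6 three_pos hζ ht h3
  have h4 : (c0 : ℤ) + (c 0 + 2 * c 1 + 2 * c 2 + 3 * c 3 + 2 * c 4 + c 5) = 3 := by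
    have h5 := K.sum
    rw [hrE6, Fin.sum_univ_six] at h5
    simpa using h5
  have e : c = ![c 0, c 1, c 2, c 3, c 4, c 5] := by
    funext i
    fin_cases i <;> rfl
  have h5 := kac_tab (c 0) (by omega) (c 1) (by omega) (c 2) (by omega) (c 3) (by omega) (c 4) (by omega) (c 5) (by omega)
    (by omega)
  rw [← e] at h5
  rcases h5 with h5 | h5
  · refine absurd (cX_inj hpE6 ht (one_mem _) fun i => ?_) h1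
    rw [cX_one, ← rep_apply_inv CoxeterMatrix.E₆.toCoxeterSystem hpE6.isCartan w (sr i), h, hζ.zpow_eq_one_iff_dvd]
    show _ ∣ ∑ j, _ * (c j : ℤ)
    exact Finset.dvd_sum fun j _ => Dvd.dvd.mul_left (Int.natCast_dvd_natCast.2 (h5 j)) _
  refine dec_of_kac (cov0_six hr).surj hζ ht h ?_
  simp only [List.mem_cons, List.not_mem_nil, or_false] at h5
  rcases h5 with rfl | rfl | rfl | rfl | rfl | rfl | rfl | rfl | rfl | rfl | rfl | rfl | rfl | rfl | rfl | rfl | rfl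
  exacts [.base _ (ck0.triv hr), .base _ (ck1.triv hr), .base _ (ck2.triv hr), .base _ (ck3.triv hr),
    .base _ (ck4.triv hr), .base _ (ck5.triv hr), .base _ (ck6.triv hr), .base _ (ck7.triv hr), .base _ (ck8.triv hr),
    .base _ (ck9.triv hr), .base _ (ck10.triv hr), .base _ (ck11.triv hr), .base _ (ck12.triv hr), ca0.dec, ca1.dec,
    ca2.dec, decA6 hr]

end CovII

open CovII

/-- **[CovII]** -/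
theorem boxCovII : BoxCovII := by
  intro r _ hr
  obtain ⟨z, h1, h2⟩ := exists_z hr
  refine ⟨z, ⟨cov0_six hr, tcomm6, fun z hz => root6 z (by rw [hz]; exact one_mem _) three_pos, conn6 hr,
    fun t ht h3 h4 => Or.inl (dec6 hr t ht h3 h4)⟩, h1, h2, fun ζ t h => ?_⟩
  rw [Ps_eq_SK h.1 h.2.1 (c := ![1, 0, 0, 0, 0, 1]) fun x => by rw [h.2.2, bb6]; simp]
  exact ck12.triv hr

end Cfsg.Agent.BHZ.Exc
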