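import Cfsg.Agent.BHZ.Exc.St6
import Cfsg.Agent.H28.GenF.Std

/-!
# S4806, exceptional groups: the fixed points in the universal group of type `E₆` (helper37)

`Mod σ S` : the finite group `S` inside the fixed points of a standard Frobenius map; `G0 σL` : the subgroup generated by
the fixed `r`-elements; `full_std`, `full` : all fixed points of `σL` lie in `G0 σL`.
-/

set_option autoImplicit false
set_option linter.unusedSectionVars false

namespace Cfsg.Agent.BHZ.Exc.Six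

open CoxeterSystem Cfsg Cfsg.Lie Cfsg.Lie.ChevalleyDatum
open Cfsg.Agent.ChevalleyStructure Cfsg.Agent.ChevalleyStructure.Elts Cfsg.Agent.ChevalleyStructure.CoxeterGeom
  Cfsg.Agent.ChevalleyStructure.CoxeterGeomTypes Cfsg.Agent.ChevalleyStructure.StBasic
open Cfsg.Agent.Tits.Roots Cfsg.Agent.Nodes Cfsg.Agent.Nodes.BNOf Cfsg.Agent.Nodes.RGDChev Cfsg.Agent.Nodes.OppDec
open Cfsg.Agent.KFacts.RgdChevCoord
open Cfsg.Agent.BpExc Cfsg.Agent.BpExc.Fr Cfsg.Agent.BpExc.LangFr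
open Cfsg.Agent.H469.Exc Cfsg.Agent.DS.Ex Cfsg.Agent.DS.Nt
open Cfsg.Agent.H720.TwFr (permE rho6 sig6)
open Cfsg.Agent.H59.ESixCover (IsPair)

variable {r : ℕ} [hr : Fact r.Prime]

/-- the finite group inside the fixed points -/
structure Mod (σ : MulAut (YY chevE6 r)) (S : Type) [Group S] where
  /-- the embedding -/
  ι : S →* YY chevE6 r
  inj : Function.Injective ι
  fix : ∀ a, σ (ι a) = ι a
  split : ∀ y, σ y = y → ∃ a t, t ∈ TT chevE6 (KK r) ∧ y = ι a * t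
  cube : ∀ y, σ y = y → y ^ 3 ∈ ι.range
  gen : ∀ N : Subgroup S,
    (∀ a, ι a ∈ RGD.Sup (XX chevE6 6 (KK r)) (RGD.Pos CoxeterMatrix.E₆.toCoxeterSystem hpE6.isCartan) → a ∈ N) →
    (∀ a, ι a ∈ RGD.Sup (XX chevE6 6 (KK r)) (Neg CoxeterMatrix.E₆.toCoxeterSystem hpE6.isCartan) → a ∈ N) → N = ⊤

theorem mod_untw (F : Type) [Field F] [Fintype F] [CharP F r] {e : ℕ} (he : 0 < e) (hF : Nat.card F = r ^ e) :
    Nonempty (Mod (FamUntw.phi chevE6 (KK r) r e) ↥(chevE6.group F)) := by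
  obtain ⟨f⟩ := RowsUntw.exists_emb r F
  have hq : Fintype.card F = r ^ e := by rw [← hF, Nat.card_eq_fintype_card]
  obtain ⟨m, h1, h2, -, h4⟩ := H28.GenF.mdata_std' (r := r) hpE6 F H129.TorusChar.invC_E6 (by norm_num)
    (Or.inr Nat.prime_three) f he hF
  refine ⟨⟨m.ι, m.inj, fun a => by rw [← h2, m.fix], fun y hy => ?_, fun y hy => ?_, m.gen⟩⟩
  · rw [h1]
    refine H129.TorusUntw.fix_split hpE6 f hq ?_
    apply Subtype.ext
    rw [H129.TorusUntw.coe_phi]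
    refine Eq.trans ?_ (congrArg Subtype.val hy)
    apply Units.ext
    ext i j
    exact (iterateFrobenius_def r e _).trans (FamField.frb_apply _ r e _).symm
  · obtain ⟨c, hc⟩ : m.dd ∣ 3 := h4 ▸ Nat.gcd_dvd_left _ _
    rw [hc, pow_mul]
    exact pow_mem (m.pow_dd y (by rw [h2]; exact hy)) c

theorem mod_tw (K : Type) [Field K] [Fintype K] [CharP K r] {e q : ℕ} (he : 0 < e) (hq : q = r ^ e)
    (hK : Fintype.card K = q ^ 2) : Nonempty (Mod (sig6 (KK r) r e) ↥(twistedE6 K q)) := by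
  obtain ⟨f⟩ := RowsUntw.exists_emb r K
  have hq' : IsPrimePow q := (isPrimePow_nat_iff _).2 ⟨r, e, hr.out, he, hq.symm⟩
  have hφ : ∀ t : KK r, iterateFrobenius (KK r) r e t = t ^ q := fun t => by rw [iterateFrobenius_def, hq]
  refine ⟨⟨H720.TwFr.em6 q f, FamTw.Six.em_injective f, H720.TwFr.em6_fix f r he hq hK, fun y hy => ?_,
    fun y hy => ?_, H316.U6.gen_of_words hpE6 f (fun _ => rfl) (H316.U6.wordsE6 q)⟩⟩
  · obtain ⟨x, hx, t, ht, e1⟩ := EmbInst.twE6_split (f := f) hq' hK hφ y.2 (by rw [← H720.TwFr.coe_sig6, hy])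
    exact ⟨⟨x, hx⟩, ⟨t, diagonal_le_group hpE6.inList _ ht⟩, ht, Subtype.ext e1⟩
  · obtain ⟨c, hc⟩ : Nat.gcd 3 (q + 1) ∣ 3 := Nat.gcd_dvd_left _ _
    have h1 := pow_mem (H720.TwFr.desc6 f r (locFin r) he hq hK hy) c
    rwa [← pow_mul, ← hc] at h1

theorem pelt_pos {y : YY chevE6 r}
    (hy : y ∈ RGD.Sup (XX chevE6 6 (KK r)) (RGD.Pos CoxeterMatrix.E₆.toCoxeterSystem hpE6.isCartan)) :
    ∃ n : ℕ, y ^ r ^ n = 1 := by
  have := finW hpE6
  rw [← XLe hpE6 r] at hy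
  obtain ⟨E, hE⟩ := (tw hpE6 r).mem_Sup.1 hy
  obtain ⟨n, hn⟩ := ((tw hpE6 r).rgd E).isPGroup_Upos ⟨y, hE⟩
  exact ⟨n, congrArg Subtype.val hn⟩

theorem pelt_neg {y : YY chevE6 r}
    (hy : y ∈ RGD.Sup (XX chevE6 6 (KK r)) (Neg CoxeterMatrix.E₆.toCoxeterSystem hpE6.isCartan)) :
    ∃ n : ℕ, y ^ r ^ n = 1 := by
  have := finW hpE6
  rw [← XLe hpE6 r] at hy
  obtain ⟨E, hE⟩ := (tw hpE6 r).mem_Sup.1 hy
  obtain ⟨n, hn⟩ := KFacts.RgdAut.isPGroup_UN ((tw hpE6 r).rgd E) ⟨y, hE⟩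
  exact ⟨n, congrArg Subtype.val hn⟩

/-- the subgroup generated by the fixed `r`-elements -/
def G0 (σL : MulAut (St r)) : Subgroup (St r) := Subgroup.closure {u | σL u = u ∧ ∃ n : ℕ, u ^ r ^ n = 1}

theorem G0_fix {σL : MulAut (St r)} {u : St r} (hu : u ∈ G0 σL) : σL u = u := by
  have h : G0 σL ≤ σL.toMonoidHom.eqLocus (MonoidHom.id _) := (Subgroup.closure_le _).2 fun x hx => hx.1
  exact h hu

theorem mem_G0 {σL : MulAut (St r)} {u : St r} (h : σL u = u) (h' : u ^ r = 1) : u ∈ G0 σL :=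
  Subgroup.subset_closure ⟨h, 1, by rwa [pow_one]⟩

theorem pairA : IsPair (chevE6.simple (0 : Fin 6)) (chevE6.simple (5 : Fin 6))
    (chevE6.neg (chevE6.simple (0 : Fin 6))) (chevE6.neg (chevE6.simple (5 : Fin 6))) := by
  constructor <;> decide +kernel

theorem pairA' : IsPair (chevE6.neg (chevE6.simple (0 : Fin 6))) (chevE6.neg (chevE6.simple (5 : Fin 6)))
    (chevE6.simple (0 : Fin 6)) (chevE6.simple (5 : Fin 6)) := by
  constructor <;> decide +kernel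

theorem pairB : IsPair (chevE6.simple (2 : Fin 6)) (chevE6.simple (4 : Fin 6))
    (chevE6.neg (chevE6.simple (2 : Fin 6))) (chevE6.neg (chevE6.simple (4 : Fin 6))) := by
  constructor <;> decide +kernel

theorem pairB' : IsPair (chevE6.neg (chevE6.simple (2 : Fin 6))) (chevE6.neg (chevE6.simple (4 : Fin 6)))
    (chevE6.simple (2 : Fin 6)) (chevE6.simple (4 : Fin 6)) := by
  constructor <;> decide +kernel

variable {e : ℕ} {π : Equiv.Perm (Fin 6)} {σ : MulAut (YY chevE6 r)} {σL : MulAut (St r)}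

section Lift

variable (h3 : r ≠ 3) (hL : ∀ x, th r (σL x) = σ (th r x))

include h3 hL

/-- fixed `r`-elements lift to fixed `r`-elements -/
theorem exists_fixed_lift {y : YY chevE6 r} (hy : σ y = y) {n : ℕ} (hn : y ^ r ^ n = 1) :
    ∃ u, σL u = u ∧ u ^ r ^ n = 1 ∧ th r u = y := by
  obtain ⟨x, hx, hx'⟩ := lift_exists (th_surj r) th_expo hn (cop3 h3 n)
  exact ⟨x, lift_eq th_cent th_expo (by rw [hL, hx, hy]) (by rw [← map_pow, hx', map_one]) hx' (cop3 h3 n), hx', hx⟩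

theorem Mod.exists_G0 {S : Type} [Group S] (m : Mod σ S) (a : S) : ∃ u ∈ G0 σL, th r u = m.ι a := by
  have key : ∀ a, (∃ n : ℕ, m.ι a ^ r ^ n = 1) → a ∈ ((G0 σL).map (th r)).comap m.ι := by
    rintro a ⟨n, hn⟩
    obtain ⟨u, h1, h2, h4⟩ := exists_fixed_lift h3 hL (m.fix a) hn
    exact ⟨u, Subgroup.subset_closure ⟨h1, n, h2⟩, h4⟩
  have h1 := m.gen _ (fun a ha => key a (pelt_pos ha)) fun a ha => key a (pelt_neg ha)
  have h2 : a ∈ ((G0 σL).map (th r)).comap m.ι := by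
    rw [h1]
    exact Subgroup.mem_top a
  exact h2

variable (h : IsStd r e π σ)

include h

theorem stn_mem {i : Fin 6} (hi : π i = i) {t : KK r} (ht : t ^ r ^ e = t) :
    stn chevE6 (chevE6.simple i) t ∈ G0 σL := by
  have h1 : chevE6.stGen (KK r) (chevE6.simple i) t ∈ G0 σL :=
    mem_G0 (by rw [lift_pos h3 h hL, hi, ht]) (stGen_pow _ _)
  have h2 : chevE6.stGen (KK r) (chevE6.neg (chevE6.simple i)) (-t⁻¹) ∈ G0 σL :=
    mem_G0 (by rw [lift_neg h3 h hL, hi, ← iterateFrobenius_def, map_neg, map_inv₀, iterateFrobenius_def, ht])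
      (stGen_pow _ _)
  rw [stn_eq]
  exact mul_mem (mul_mem h1 h2) h1

theorem single_mem {i : Fin 6} (hi : π i = i) {t : (KK r)ˣ} (ht : t ^ r ^ e = t) :
    Ph r (Pi.mulSingle i t) ∈ G0 σL := by
  rw [Ph_single, sth_eq]
  exact mul_mem (stn_mem h3 hL h hi (congrArg Units.val ht)) (inv_mem (stn_mem h3 hL h hi (one_pow _)))

theorem pair_mem {i j : Fin 6} (hi : π i = j) (hj : π j = i)
    (P : IsPair (chevE6.simple i) (chevE6.simple j) (chevE6.neg (chevE6.simple i)) (chevE6.neg (chevE6.simple j)))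
    (P' : IsPair (chevE6.neg (chevE6.simple i)) (chevE6.neg (chevE6.simple j)) (chevE6.simple i) (chevE6.simple j))
    {s t : (KK r)ˣ} (hs : s ^ r ^ e = t) (ht : t ^ r ^ e = s) :
    Ph r (Pi.mulSingle i s) * Ph r (Pi.mulSingle j t) ∈ G0 σL := by
  obtain ⟨φ, hφ⟩ : ∃ φ : KK r →+* KK r, ∀ a, φ a = a ^ r ^ e :=
    ⟨iterateFrobenius (KK r) r e, fun a => iterateFrobenius_def r e a⟩
  have h1 : ∀ a, φ (φ a) = a → H59.ESixCover.tw (KK r) φ (chevE6.simple i) (chevE6.simple j) a ∈ G0 σL := by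
    intro a ha
    refine mem_G0 ?_ (P.tw_pow_p r a)
    unfold H59.ESixCover.tw
    rw [map_mul, lift_pos h3 h hL, lift_pos h3 h hL, hi, hj, ← hφ, ← hφ, ha]
    exact (P.comm _ (by simp) _ (by simp) _ _).eq.symm
  have h2 : ∀ a, φ (φ a) = a →
      H59.ESixCover.tw (KK r) φ (chevE6.neg (chevE6.simple i)) (chevE6.neg (chevE6.simple j)) a ∈ G0 σL := by
    intro a ha
    refine mem_G0 ?_ (P'.tw_pow_p r a)
    unfold H59.ESixCover.tw
    rw [map_mul, lift_neg h3 h hL, lift_neg h3 h hL, hi, hj, ← hφ, ← hφ, ha]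
    exact (P'.comm _ (by simp) _ (by simp) _ _).eq.symm
  have h4 : φ (s : KK r) = t := by rw [hφ, ← hs, Units.val_pow_eq_pow_val]
  have h5 : φ (φ (s : KK r)) = s := by rw [h4, hφ, ← ht, Units.val_pow_eq_pow_val]
  have h6 : ∀ a, φ (φ a) = a → φ (φ (-a⁻¹)) = -a⁻¹ := fun a ha => by
    rw [map_neg, map_neg, map_inv₀, map_inv₀, ha]
  have h7 : φ (φ 1) = 1 := by rw [map_one, map_one]
  rw [Ph_single, Ph_single, ← h4, P.sth_mul']
  exact mul_mem (mul_mem (mul_mem (h1 _ h5) (h2 _ (h6 _ h5))) (h1 _ h5))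
    (inv_mem (mul_mem (mul_mem (h1 _ h7) (h2 _ (h6 _ h7))) (h1 _ h7)))

theorem Ph_mem {t : Fin 6 → (KK r)ˣ} (ht : σL (Ph r t) = Ph r t) : Ph r t ∈ G0 σL := by
  rw [lift_Ph h3 h hL] at ht
  have h1 : ∀ i, t i ^ r ^ e = t (π i) := fun i => by
    have h2 := congrFun (Ph_inj ht) (π i)
    rwa [π.symm_apply_apply] at h2
  have h2 : Ph r t = Ph r (Pi.mulSingle 1 (t 1)) * Ph r (Pi.mulSingle 3 (t 3)) *
      (Ph r (Pi.mulSingle 0 (t 0)) * Ph r (Pi.mulSingle 5 (t 5))) *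
      (Ph r (Pi.mulSingle 2 (t 2)) * Ph r (Pi.mulSingle 4 (t 4))) := by
    rw [← map_mul, ← map_mul, ← map_mul, ← map_mul, ← map_mul]
    congr 1
    funext i
    fin_cases i <;> simp
  rw [h2]
  have hπ : π = 1 ∨ π = rho6 := h.imp And.left And.left
  rcases hπ with hπ | hπ
  · have h4 : ∀ i, Ph r (Pi.mulSingle i (t i)) ∈ G0 σL := fun i =>
      single_mem h3 hL h (by rw [hπ]; rfl) (by rw [h1, hπ]; rfl)
    exact mul_mem (mul_mem (mul_mem (h4 1) (h4 3)) (mul_mem (h4 0) (h4 5))) (mul_mem (h4 2) (h4 4))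
  · refine mul_mem (mul_mem (mul_mem (single_mem h3 hL h ?_ ?_) (single_mem h3 hL h ?_ ?_))
      (pair_mem h3 hL h ?_ ?_ pairA pairA' ?_ ?_)) (pair_mem h3 hL h ?_ ?_ pairB pairB' ?_ ?_)
    all_goals first | (rw [h1, hπ]; rfl) | (rw [hπ]; rfl)

theorem Mod.full {S : Type} [Group S] (m : Mod σ S) {x : St r} (hx : σL x = x) : x ∈ G0 σL := by
  obtain ⟨a, t, ht, e1⟩ := m.split (th r x) (by rw [← hL, hx])
  obtain ⟨u, hu, e2⟩ := m.exists_G0 h3 hL a
  obtain ⟨s, hs⟩ := mem_range_Ph (m := u⁻¹ * x) (by rw [map_mul, map_inv, e1, e2, inv_mul_cancel_left]; exact ht)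
  have h1 : Ph r s ∈ G0 σL := Ph_mem h3 hL h (by rw [hs, map_mul, map_inv, G0_fix hu, hx])
  have h2 := mul_mem hu h1
  rwa [hs, mul_inv_cancel_left] at h2

theorem full_std (he : 0 < e) {x : St r} (hx : σL x = x) : x ∈ G0 σL := by
  rcases h with ⟨h1, h2⟩ | ⟨h1, h2⟩
  · have := Fintype.ofFinite (GaloisField r e)
    obtain ⟨m⟩ := mod_untw (r := r) (GaloisField r e) he (GaloisField.card r e he.ne')
    rw [← h2] at m
    exact m.full h3 hL (Or.inl ⟨h1, h2⟩) hx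
  · have := Fintype.ofFinite (GaloisField r (e * 2))
    obtain ⟨m⟩ := mod_tw (r := r) (GaloisField r (e * 2)) he rfl (by
      rw [← Nat.card_eq_fintype_card, GaloisField.card r (e * 2) (by omega), pow_mul])
    rw [← h2] at m
    exact m.full h3 hL (Or.inr ⟨h1, h2⟩) hx

end Lift

/-- every Frobenius map is conjugate to a standard one -/
theorem exists_conj_std {g : (Fin 6 → ℤ) ≃+ (Fin 6 → ℤ)} (he : 0 < e) (hσ : IsFrob r e σ)
    (F : Fr CoxeterMatrix.E₆.toCoxeterSystem hpE6.isCartan (TT chevE6 (KK r)) (XX chevE6 6 (KK r)) σ g) :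
    ∃ (π : Equiv.Perm (Fin 6)) (σ0 : MulAut (YY chevE6 r)) (w : YY chevE6 r), IsStd r e π σ0 ∧
      ∀ x, σ x = w⁻¹ * σ0 (w * x * w⁻¹) * w := by
  obtain ⟨π, σ0, v, k, h0, -, h1, -⟩ := exists_nf F.root (Frm.of_fr hσ F)
  obtain ⟨w, hw⟩ := lang_all hpE6 _ he h0.frob h0.fr 1 (σ0 k)
  rw [map_one, one_mul] at hw
  refine ⟨π, σ0, w, h0, fun x => ?_⟩
  rw [h1, MulAut.mul_apply, MulAut.conj_apply, map_mul, map_mul, map_inv, hw, map_mul, map_mul, map_inv]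
  group

/-- **The fixed points are generated by `r`-elements.** -/
theorem full (h3 : r ≠ 3) {g : (Fin 6 → ℤ) ≃+ (Fin 6 → ℤ)} (he : 0 < e) (hσ : IsFrob r e σ)
    (F : Fr CoxeterMatrix.E₆.toCoxeterSystem hpE6.isCartan (TT chevE6 (KK r)) (XX chevE6 6 (KK r)) σ g)
    (hL : ∀ x, th r (σL x) = σ (th r x)) {x : St r} (hx : σL x = x) : x ∈ G0 σL := by
  obtain ⟨π, σ0, w, h0, hw⟩ := exists_conj_std he hσ F
  obtain ⟨y, rfl⟩ := th_surj r w
  obtain ⟨τ, hτ⟩ : ∃ τ : MulAut (St r), ∀ u, τ u = y * σL (y⁻¹ * u * y) * y⁻¹ :=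
    ⟨MulAut.conj y * σL * MulAut.conj y⁻¹, fun u => by
      rw [MulAut.mul_apply, MulAut.mul_apply, MulAut.conj_apply, MulAut.conj_apply, inv_inv]⟩
  have h1 : ∀ u, th r (τ u) = σ0 (th r u) := by
    intro u
    have h2 : th r y * th r (y⁻¹ * u * y) * (th r y)⁻¹ = th r u := by
      rw [map_mul, map_mul, map_inv]
      group
    rw [hτ, map_mul, map_mul, map_inv, hL, hw, h2]
    group
  have h2 : y * x * y⁻¹ ∈ G0 τ := full_std h3 h1 h0 he (by
    have h4 : y⁻¹ * (y * x * y⁻¹) * y = x := by group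
    rw [hτ, h4, hx])
  have h4 : G0 τ ≤ (G0 σL).comap (MulAut.conj y⁻¹).toMonoidHom := by
    refine (Subgroup.closure_le _).2 ?_
    rintro u ⟨hu, n, hn⟩
    refine Subgroup.subset_closure ⟨?_, n, ?_⟩
    · show σL (y⁻¹ * u * y⁻¹⁻¹) = y⁻¹ * u * y⁻¹⁻¹
      rw [hτ] at hu
      rw [inv_inv]
      calc σL (y⁻¹ * u * y) = y⁻¹ * (y * σL (y⁻¹ * u * y) * y⁻¹) * y := by group
        _ = _ := by rw [hu]
    · rw [← map_pow, hn, map_one]
  have h5 : y⁻¹ * (y * x * y⁻¹) * y⁻¹⁻¹ ∈ G0 σL := h4 h2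
  have h6 : y⁻¹ * (y * x * y⁻¹) * y⁻¹⁻¹ = x := by group
  rwa [h6] at h5

end Cfsg.Agent.BHZ.Exc.Six
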