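import Cfsg.Agent.BHZ.Exc.Iface

/-!
# S4806, exceptional groups: the elements of order `3` of `E₆` with a disconnected centralizer (helper34)

`boxTY1`, `boxTY2`.
-/

set_option autoImplicit false
set_option linter.unusedSectionVars false
set_option maxRecDepth 100000

namespace Cfsg.Agent.BHZ.Exc

open CoxeterSystem Cfsg Cfsg.Lie Cfsg.Lie.ChevalleyDatum
open Cfsg.Agent.ChevalleyStructure Cfsg.Agent.ChevalleyStructure.Elts Cfsg.Agent.ChevalleyStructure.CoxeterGeom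
  Cfsg.Agent.ChevalleyStructure.CoxeterGeomTypes
open Cfsg.Agent.Tits.Roots Cfsg.Agent.Tits.Core Cfsg.Agent.Nodes Cfsg.Agent.Nodes.Reps Cfsg.Agent.Nodes.BNOf
  Cfsg.Agent.Nodes.RGDChev Cfsg.Agent.Nodes.Bruhat
open Cfsg.Agent.KFacts.RgdField Cfsg.Agent.KFacts.RgdChevCoord
open Cfsg.Agent.BpExc Cfsg.Agent.BpExc.TorCent Cfsg.Agent.BpExc.TorChev Cfsg.Agent.BpExc.Tow
  Cfsg.Agent.BpExc.TowChev Cfsg.Agent.BpExc.Fr Cfsg.Agent.BpExc.LangFr
open Cfsg.Agent.H469.Exc Cfsg.Agent.H795.SetCent Cfsg.Agent.H129.TorusChar Cfsg.Agent.DS.Ex Cfsg.Agent.DS.Nt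
open Cfsg.Agent.H46.Gen (AFr Rt xf)
open Cfsg.Agent.H321.Ker (cj stG stm sc)
open Cfsg.Agent.H931.KC (al)
open Cfsg.Agent.H665.NoPQ (HasDZ)
open scoped MatrixGroups
open Matrix.SpecialLinearGroup (transvection)

namespace TY

open Cfsg.Agent.H92.NE (bl FormOK bl_apply bl_root)
open Cfsg.Agent.H931.KC (mk ct bb Kac mk_perm bl_perm al_inj ok_E6 hr)

/-- the invariant form of `E₆` -/
def B6 : Fin 6 → Fin 6 → ℤ := ![![2, 0, -1, 0, 0, 0], ![0, 2, 0, -1, 0, 0], ![-1, 0, 2, -1, 0, 0],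
    ![0, -1, -1, 2, -1, 0], ![0, 0, 0, -1, 2, -1], ![0, 0, 0, 0, -1, 2]]

theorem okB6 : FormOK chevE6 6 B6 := ok_E6.1

theorem mk63 : ∀ j : Option (Fin 6), mk chevE6 6 j = mk chevE6 6 (some 3) → j = some 3 := by decide +kernel

theorem nb6 : ∀ j : Option (Fin 6), (bl B6 (al chevE6 6 none) (al chevE6 6 j) = -1 ↔ j = some 1) ∧
    (bl B6 (al chevE6 6 (some 0)) (al chevE6 6 j) = -1 ↔ j = some 2) ∧
    (bl B6 (al chevE6 6 (some 5)) (al chevE6 6 j) = -1 ↔ j = some 4) := by decide +kernel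

/-- a permutation of order `3` of the extended diagram -/
theorem perm_cases {π : Equiv.Perm (Option (Fin 6))} (hm : ∀ i, mk chevE6 6 (π i) = mk chevE6 6 i)
    (hb : ∀ i j, bl B6 (al chevE6 6 (π i)) (al chevE6 6 (π j)) = bl B6 (al chevE6 6 i) (al chevE6 6 j))
    (h4 : π none ≠ none) (h5 : π (π (π none)) = none) : (∀ i, π i = rho i) ∨ ∀ i, π (rho i) = i := by
  have h6 := mk6 _ (hm none)
  have h7 := mk6 _ ((hm (π none)).trans (hm none))
  have h8 : π (π none) ≠ none := fun h => h4 (by rw [h] at h5; exact h5)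
  have h9 : π (π none) ≠ π none := fun h => h4 (π.injective h)
  have h3 : π (some 3) = some 3 := mk63 _ (hm _)
  have b1 := (hb none (some 1)).trans ((nb6 _).1.2 rfl)
  have b2 := (hb (some 0) (some 2)).trans ((nb6 _).2.1.2 rfl)
  have b4 := (hb (some 5) (some 4)).trans ((nb6 _).2.2.2 rfl)
  rcases h6 with h6 | h6 | h6
  · exact absurd h6 h4
  · left
    rw [h6] at h5 h7 h8 h9 b1
    have h10 : π (some 0) = some 5 := (h7.resolve_left h8).resolve_left h9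
    rw [h10] at h5 b2
    rw [h5] at b4
    have c1 := (nb6 _).2.1.1 b1
    have c2 := (nb6 _).2.2.1 b2
    have c4 := (nb6 _).1.1 b4
    rintro (_ | i)
    · exact h6
    · fin_cases i
      · exact h10
      · exact c1
      · exact c2
      · exact h3
      · exact c4
      · exact h5
  · right
    rw [h6] at h5 h7 h8 h9 b1
    have h10 : π (some 5) = some 0 := (h7.resolve_left h8).resolve_right h9
    rw [h10] at h5 b4
    rw [h5] at b2
    have c1 := (nb6 _).2.2.1 b1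
    have c2 := (nb6 _).1.1 b2
    have c4 := (nb6 _).2.1.1 b4
    rintro (_ | i)
    · exact h5
    · fin_cases i
      · exact h10
      · exact c2
      · exact c4
      · exact h3
      · exact c1
      · exact h6

variable {r : ℕ} [Fact r.Prime]

theorem fin6 : Finite CoxeterMatrix.E₆.Group := finW hpE6

/-- the elements of `PP` have order dividing `3` -/
theorem pp_three [Finite CoxeterMatrix.E₆.Group] (hr3 : r ≠ 3) {t : YY chevE6 r} (ht : t ∈ TT chevE6 (KK r))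
    (ht3 : t ^ 3 = 1) {y : CoxeterMatrix.E₆.Group}
    (hy : y ∈ PP CoxeterMatrix.E₆.toCoxeterSystem hpE6.isCartan (ch hpE6) t) : y ^ 3 = 1 := by
  have h1 : (⟨y, hy⟩ : ↥(PP CoxeterMatrix.E₆.toCoxeterSystem hpE6.isCartan (ch hpE6) t)) ^ 3 = 1 := by
    rcases card_PP (hp := hpE6) (Or.inr (Or.inl rfl)) Nat.prime_three hr3.symm ht ht3 with h | ⟨h, -⟩
    · rw [(Nat.card_eq_one_iff_unique.1 h).1.elim (_ ^ 3) 1]
    · rw [← h]
      exact pow_card_eq_one'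
  exact congrArg Subtype.val h1

/-- the two classes and the rotation -/
theorem pp6 [Finite CoxeterMatrix.E₆.Group] (hr3 : r ≠ 3) {ζ : KK r} (hζ : IsPrimitiveRoot ζ 3) {t : YY chevE6 r}
    (ht : t ∈ TT chevE6 (KK r)) (ht3 : t ^ 3 = 1) {y : CoxeterMatrix.E₆.Group}
    (hy : y ∈ PP CoxeterMatrix.E₆.toCoxeterSystem hpE6.isCartan (ch hpE6) t) (hy1 : y ≠ 1) :
    ∃ w : CoxeterMatrix.E₆.Group, Rot (w⁻¹ * y * w) ∧
      ((∀ x, cX hpE6 t (rep CoxeterMatrix.E₆.toCoxeterSystem hpE6.isCartan w x) = ζ ^ x 3) ∨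
        ∀ x, cX hpE6 t (rep CoxeterMatrix.E₆.toCoxeterSystem hpE6.isCartan w x) = ζ ^ (x 0 + x 5)) := by
  have hy3 := pp_three hr3 ht ht3 hy
  obtain ⟨w, v, c, c0, π, K, h1, hv, h2, h3, h4⟩ := pp_diag (by norm_num) hζ ht ht3 hy hy1
  have hv3 : v ^ 3 = 1 := by
    have e : v = w⁻¹ * y * w⁻¹⁻¹ := by rw [hv, inv_inv]
    rw [e, conj_pow, hy3, mul_one, mul_inv_cancel]
  have h5 : π (π (π none)) = none := by
    refine al_inj hpE6 ?_
    rw [← h2, ← h2, ← h2, ← rep_mul_apply, ← rep_mul_apply, ← pow_three', hv3, map_one, Module.End.one_apply]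
  have h6 := perm_cases (mk_perm hpE6 h2) (bl_perm hpE6 h2 okB6) h4 h5
  have h12 : c 0 = c0 ∧ c 5 = c0 := by
    rcases h6 with h6 | h6
    · have a1 := h3 none
      have a2 := h3 (some 5)
      rw [h6] at a1 a2
      exact ⟨a1, a2.symm⟩
    · have a1 := h3 (rho none)
      have a2 := h3 (rho (some 5))
      rw [h6] at a1 a2
      exact ⟨a1.symm, a2⟩
  refine ⟨w, ?_, ?_⟩
  · rw [← hv]
    rcases h6 with h6 | h6
    · exact Or.inl fun i => by rw [h2, h6]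
    · exact Or.inr fun i => by rw [h2, h6]
  have hb : ∀ x, bb c x = x 0 * c 0 + x 1 * c 1 + x 2 * c 2 + x 3 * c 3 + x 4 * c 4 + x 5 * c 5 := fun x => by
    show ∑ i, x i * (c i : ℤ) = _
    rw [Fin.sum_univ_six]
  have h14 : (c0 : ℤ) + (c 0 + 2 * c 1 + 2 * c 2 + 3 * c 3 + 2 * c 4 + c 5) = 3 := by
    have h15 := K.sum
    rw [hrE6, Fin.sum_univ_six] at h15
    simpa using h15
  obtain ⟨h15, h16⟩ := h12
  by_cases h17 : c0 = 0
  · left
    have h18 : c 0 = 0 ∧ c 1 = 0 ∧ c 2 = 0 ∧ c 3 = 1 ∧ c 4 = 0 ∧ c 5 = 0 := by omega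
    intro x
    rw [h1, hb, h18.1, h18.2.1, h18.2.2.1, h18.2.2.2.1, h18.2.2.2.2.1, h18.2.2.2.2.2]
    simp
  · right
    have h18 : c 0 = 1 ∧ c 1 = 0 ∧ c 2 = 0 ∧ c 3 = 0 ∧ c 4 = 0 ∧ c 5 = 1 := by omega
    intro x
    rw [h1, hb, h18.1, h18.2.1, h18.2.2.1, h18.2.2.2.1, h18.2.2.2.2.1, h18.2.2.2.2.2]
    simp

/-- the form of an element outside the connected centralizer -/
theorem form6 [Finite CoxeterMatrix.E₆.Group] {t : YY chevE6 r} (ht : t ∈ TT chevE6 (KK r)) {b : YY chevE6 r}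
    (hb : b * t = t * b) (hn : b ∉ DZ hpE6 r {t}) : ∃ m ∈ Mz hpE6 r {t},
      ∃ y ∈ PP CoxeterMatrix.E₆.toCoxeterSystem hpE6.isCartan (ch hpE6) t, y ≠ 1 ∧ ∃ k, RP hpE6 r y k ∧
        k * t = t * k ∧ b = m * k := by
  obtain ⟨m, hm, w, hw, k, h1, h2, h3⟩ := form hpE6 (Set.finite_singleton t) (Set.singleton_subset_iff.2 ht)
    (c := b) fun s hs => by rw [hs, hb]
  refine ⟨m, hm, w, mem_PP_of_PPZ hw, fun h => hn ?_, k, h1, h2 t rfl, h3⟩
  rw [h] at h1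
  rw [h3]
  exact mul_mem (Mz_le_DZ hm) (T_le_DZ h1.mem_T)

theorem pow3_of_cX {ζ : KK r} (hζ : IsPrimitiveRoot ζ 3) {t : YY chevE6 r} (ht : t ∈ TT chevE6 (KK r))
    {f : (Fin 6 → ℤ) → ℤ} (h : ∀ x, cX hpE6 t x = ζ ^ f x) : t ^ 3 = 1 :=
  pow_eq_one_of_cX (hp := hpE6) ht fun x => by
    rw [h, ← zpow_natCast, ← zpow_mul, mul_comm, zpow_mul, zpow_natCast, hζ.pow_eq_one, one_zpow]

end TY

open TY

variable {r : ℕ} [Fact r.Prime]

theorem StdA.pow3 {ζ : KK r} {t : YY chevE6 r} (h : StdA ζ t) : t ^ 3 = 1 :=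
  pow3_of_cX h.1 h.2.1 (f := fun x => x 3) h.2.2

theorem StdD.pow3 {ζ : KK r} {t : YY chevE6 r} (h : StdD ζ t) : t ^ 3 = 1 :=
  pow3_of_cX h.1 h.2.1 (f := fun x => x 0 + x 5) h.2.2

theorem StdA.dd {ζ : KK r} {t : YY chevE6 r} (h : StdA ζ t) : dd r t = 24 :=
  (dd_tor_zpow hpE6 h.2.1 h.1 (f := fun x => x 3) h.2.2).trans (congrArg (6 + ·) nri_E6.2)

theorem StdD.dd {ζ : KK r} {t : YY chevE6 r} (h : StdD ζ t) : dd r t = 30 :=
  (dd_tor_zpow hpE6 h.2.1 h.1 (f := fun x => x 0 + x 5) h.2.2).trans (congrArg (6 + ·) nr05_E6)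

/-- **[TY1]** -/
theorem boxTY1 : BoxTY1 := by
  intro r _ hr3 t ht ht3 b hb hn
  have := fin6
  obtain ⟨ζ, hζ⟩ := exists_prim (p := r) Nat.prime_three hr3.symm
  obtain ⟨m, -, y, hy, hy1, -⟩ := form6 ht hb hn
  obtain ⟨w, -, h⟩ := pp6 hr3 hζ ht ht3 hy hy1
  obtain ⟨k, h1, h2⟩ := exists_move (hp := hpE6) ht w
  rcases h with h | h
  · exact Or.inl ⟨k, ζ, hζ, h1, fun x => by rw [h2, h]⟩
  · exact Or.inr ⟨k, ζ, hζ, h1, fun x => by rw [h2, h]⟩

/-- **[TY2]** -/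
theorem boxTY2 : BoxTY2 := by
  intro r _ hr3 ζ t hs b hb hn
  have := fin6
  have hζ : IsPrimitiveRoot ζ 3 := hs.elim (·.1) (·.1)
  have ht : t ∈ TT chevE6 (KK r) := hs.elim (·.2.1) (·.2.1)
  have ht3 : t ^ 3 = 1 := hs.elim StdA.pow3 StdD.pow3
  obtain ⟨m, hm, y, hy, hy1, k, hk, hkt, rfl⟩ := form6 ht hb hn
  obtain ⟨w, hrot, h⟩ := pp6 hr3 hζ ht ht3 hy hy1
  have hw : ∀ x, cX hpE6 t (rep CoxeterMatrix.E₆.toCoxeterSystem hpE6.isCartan w x) = cX hpE6 t x := by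
    rcases hs with hs | hs <;> rcases h with h | h
    · intro x
      rw [h, hs.2.2]
    · have h1 := (dd_of_kac (hp := hpE6) ht hζ (w := w) (f := fun x => x 0 + x 5) h).trans (congrArg (6 + ·) nr05_E6)
      rw [hs.dd] at h1
      omega
    · have h1 := (dd_of_kac (hp := hpE6) ht hζ (w := w) (f := fun x => x 3) h).trans (congrArg (6 + ·) nri_E6.2)
      rw [hs.dd] at h1
      omega
    · intro x
      rw [h, hs.2.2]
  obtain ⟨n, hn'⟩ := exists_RP hpE6 r w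
  have hnt : n * t = t * n := hn'.comm ht hw
  have hnt' : n⁻¹ * t = t * n⁻¹ := by
    calc n⁻¹ * t = n⁻¹ * (t * n) * n⁻¹ := by group
      _ = n⁻¹ * (n * t) * n⁻¹ := by rw [hnt]
      _ = t * n⁻¹ := by group
  have h1 := ((DZ_one hpE6 (Or.inr (Or.inl rfl)) Nat.prime_three hr3.symm ht ht3).1 k n⁻¹ hkt hnt').1
  obtain ⟨m', hm', s, hs', e⟩ := mem_DZ.1 (mul_mem (Mz_le_DZ hm) h1)
  have h2 := (RP.of_mem (hp := hpE6) hs').mul ((hn'.inv.mul hk).mul hn')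
  rw [one_mul] at h2
  refine ⟨m', hm', _, _, h2, hrot, ?_⟩
  rw [← mul_assoc, ← e]
  group

end Cfsg.Agent.BHZ.Exc
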