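import Cfsg.Agent.BHZ.Exc.AF

/-!
# S4806, exceptional groups, type `A₂³`: matrices and lifts (helper34)
-/

set_option autoImplicit false
set_option linter.unusedSectionVars false
set_option maxRecDepth 100000

namespace Cfsg.Agent.BHZ.Exc

open CoxeterSystem Cfsg Cfsg.Lie Cfsg.Lie.ChevalleyDatum
open Cfsg.Agent.ChevalleyStructure Cfsg.Agent.ChevalleyStructure.Elts Cfsg.Agent.ChevalleyStructure.CoxeterGeom
  Cfsg.Agent.ChevalleyStructure.CoxeterGeomTypes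
open Cfsg.Agent.Tits.Roots Cfsg.Agent.Tits.Core Cfsg.Agent.Nodes Cfsg.Agent.Nodes.Reps Cfsg.Agent.Nodes.BNOf
  Cfsg.Agent.Nodes.RGDChev Cfsg.Agent.Nodes.Bruhat
open Cfsg.Agent.KFacts.RgdField Cfsg.Agent.KFacts.RgdChevCoord
open Cfsg.Agent.BpExc Cfsg.Agent.BpExc.TorCent Cfsg.Agent.BpExc.TorChev Cfsg.Agent.BpExc.Tow
  Cfsg.Agent.BpExc.TowChev Cfsg.Agent.BpExc.Fr Cfsg.Agent.BpExc.LangFr
open Cfsg.Agent.H469.Exc Cfsg.Agent.H795.SetCent Cfsg.Agent.H129.TorusChar Cfsg.Agent.DS.Ex Cfsg.Agent.DS.Nt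
open Cfsg.Agent.H46.Gen (AFr Rt xf)
open Cfsg.Agent.H321.Ker (cj stG stm sc)
open Cfsg.Agent.H931.KC (al)
open Cfsg.Agent.H665.NoPQ (HasDZ)
open scoped MatrixGroups
open Matrix.SpecialLinearGroup (transvection)

namespace AA

open Cfsg.Agent.H321.Ker (toGL_inj' toGL_stm stG_false stG_true toGL_cj toGL_mem fr it fr_sc it_sc it_it det_it
  conj_mem_SL sc_comm sc_mul sc_one sc_inv sc_mem sc_coe mem_scalars_iff_sc mem_SL_iff fr_apply)
open Matrix.SpecialLinearGroup (toGL)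

variable {r : ℕ} [Fact r.Prime]

/-! ### matrices -/

theorem exists_toGL {g : GL (Fin 3) (KK r)} (hg : g ∈ Geo.specialLinear (Fin 3) (KK r)) : ∃ m : S3 r, toGL m = g :=
  ⟨⟨g.1, mem_SL_iff.1 hg⟩, Units.ext rfl⟩

theorem cj_toGL (g m : S3 r) : cj (toGL g) m = g * m * g⁻¹ :=
  toGL_inj' (by rw [toGL_cj, map_mul, map_mul, map_inv])

theorem fr_surj (e : ℕ) (m : S3 r) : ∃ m' : S3 r, fr r e (toGL m') = toGL m := by
  refine ⟨Matrix.SpecialLinearGroup.map ((iterateFrobeniusEquiv (KK r) r e).symm : KK r →+* KK r) m, ?_⟩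
  ext i j
  rw [fr_apply]
  exact (iterateFrobeniusEquiv (KK r) r e).apply_symm_apply _

theorem stm_surj (e : ℕ) (Dm : GL (Fin 3) (KK r)) (uni : Bool) : Function.Surjective (stm r e Dm uni) := by
  intro m
  have h1 := conj_mem_SL Dm⁻¹ (toGL_mem m)
  cases uni
  · obtain ⟨m0, h0⟩ := exists_toGL h1
    obtain ⟨m', h'⟩ := fr_surj e m0
    exact ⟨m', toGL_inj' (by rw [toGL_stm, stG_false, h', h0]; group)⟩
  · obtain ⟨m0, h0⟩ := exists_toGL (det_it h1)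
    obtain ⟨m', h'⟩ := fr_surj e m0
    exact ⟨m', toGL_inj' (by rw [toGL_stm, stG_true, h', h0, it_it]; group)⟩

theorem stG_sc (e : ℕ) (Dm : GL (Fin 3) (KK r)) (uni : Bool) (z : (KK r)ˣ) :
    ∃ w, stG r e Dm uni (sc 3 z) = sc 3 w := by
  cases uni
  · exact ⟨_, by rw [stG_false, fr_sc, ← sc_comm, mul_inv_cancel_right]⟩
  · exact ⟨_, by rw [stG_true, fr_sc, it_sc, ← sc_comm, mul_inv_cancel_right]⟩

theorem center_iff {g : S3 r} : g ∈ Subgroup.center (S3 r) ↔ toGL g ∈ Geo.scalars (Fin 3) (KK r) := by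
  constructor
  · intro h
    obtain ⟨c, hc, e⟩ := Matrix.SpecialLinearGroup.mem_center_iff.1 h
    have h0 : c ≠ 0 := fun h0 => by simp [h0] at hc
    refine (Geo.mem_scalars_iff _).2 ⟨Units.mk0 c h0, ?_⟩
    show (g : Matrix (Fin 3) (Fin 3) (KK r)) = c • 1
    rw [← e, Matrix.scalar_apply, Matrix.smul_one_eq_diagonal]
  · intro h
    obtain ⟨z, hz⟩ := mem_scalars_iff_sc.1 h
    exact Subgroup.mem_center_iff.2 fun m => toGL_inj' (by rw [map_mul, map_mul, hz, sc_comm])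

theorem det_sc (z : (KK r)ˣ) : (sc 3 z : Matrix (Fin 3) (Fin 3) (KK r)).det = (z : KK r) ^ 3 := by
  rw [sc_coe, Matrix.det_smul, Matrix.det_one, Fintype.card_fin, mul_one]

theorem exists_decomp (x : GL (Fin 3) (KK r)) : ∃ (g : S3 r) (z : (KK r)ˣ), x = toGL g * sc 3 z := by
  obtain ⟨w, hw⟩ := H321.Ker.exists_root (m := 3) (by norm_num) (Matrix.GeneralLinearGroup.det x)
  obtain ⟨g, hg⟩ := exists_toGL (g := x * sc 3 w⁻¹) (mem_SL_iff.2 (by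
    rw [Units.val_mul, Matrix.det_mul, det_sc, ← Units.val_pow_eq_pow_val, inv_pow, hw]
    exact Units.mul_inv (Matrix.GeneralLinearGroup.det x)))
  exact ⟨g, w, by rw [hg, sc_inv, inv_mul_cancel_right]⟩

/-- extension from `SL₃` to `GL₃` -/
theorem exists_ext {L : Type*} [Group L] (δ : S3 r →* L) (hδ : ∀ g ∈ Subgroup.center (S3 r), δ g = 1) :
    ∃ Δ : GL (Fin 3) (KK r) →* L, ∀ (g : S3 r) (z : (KK r)ˣ), Δ (toGL g * sc 3 z) = δ g := by
  choose n s hn using exists_decomp (r := r)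
  have key : ∀ (g : S3 r) (z : (KK r)ˣ), δ (n (toGL g * sc 3 z)) = δ g := fun g z => by
    have h1 : g⁻¹ * n (toGL g * sc 3 z) ∈ Subgroup.center (S3 r) := by
      rw [center_iff, map_mul, map_inv, eq_mul_inv_of_mul_eq (hn (toGL g * sc 3 z)).symm, mul_assoc,
        inv_mul_cancel_left]
      exact mul_mem (sc_mem _) (inv_mem (sc_mem _))
    have h2 := hδ _ h1
    rw [map_mul, map_inv, inv_mul_eq_one] at h2
    exact h2.symm
  refine ⟨MonoidHom.mk' (fun x => δ (n x)) fun x y => ?_, key⟩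
  have e : x * y = toGL (n x * n y) * sc 3 (s x * s y) := by
    conv_lhs => rw [hn x, hn y]
    rw [map_mul, sc_mul, mul_assoc, mul_assoc, ← mul_assoc (sc 3 (s x)), sc_comm (s x), mul_assoc]
  rw [e, key, map_mul]

theorem exists_omega (hr3 : r ≠ 3) : ∃ (ω : (KK r)ˣ) (g : S3 r), ω ≠ 1 ∧ ω ^ 3 = 1 ∧ toGL g = sc 3 ω := by
  obtain ⟨ζ, hζ⟩ := exists_prim (p := r) Nat.prime_three hr3.symm
  have h0 : ζ ≠ 0 := hζ.ne_zero (by norm_num)
  obtain ⟨g, hg⟩ := exists_toGL (g := sc 3 (Units.mk0 ζ h0)) (mem_SL_iff.2 (by rw [det_sc]; exact hζ.pow_eq_one))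
  exact ⟨Units.mk0 ζ h0, g, fun h => hζ.ne_one (by norm_num) (congrArg Units.val h), Units.ext hζ.pow_eq_one, hg⟩

/-! ### lifts -/

variable {ζ : KK r} {t b : YY chevE6 r} {φ : S3 r →* YY chevE6 r} {L : Type} [Group L] {θ : L →* YY chevE6 r}
  {φ' : S3 r →* L} {B : L}

theorem act_lift (C : Cov0 3 θ) (h : ∀ m, θ (φ' m) = φ m) {x : L} {g : S3 r} (a : Act φ (θ x) g) : Act φ' x g :=
  fun m => lift_conj (φ := φ) C le_rfl h (MulAut.conj x).toMonoidHom (MulAut.conj g).toMonoidHom (fun u => by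
    show θ (x * φ' u * x⁻¹) = φ (g * u * g⁻¹)
    rw [map_mul, map_mul, map_inv, h, a]) m

theorem Tri.lift (T : Tri φ b) (C : Cov0 3 θ) (h : ∀ m, θ (φ' m) = φ m) (hB : θ B = b) (h3 : b ^ 3 = 1) :
    Tri φ' B where
  c1 m m' := ((act_lift C h (x := B * φ' m' * B⁻¹) (act_of_comm fun u => by
    rw [map_mul, map_mul, map_inv, h, hB, T.c1])).of_center (one_mem _) m).symm
  c2 m m' := ((act_lift C h (x := B⁻¹ * φ' m' * B) (act_of_comm fun u => by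
    rw [map_mul, map_mul, map_inv, h, hB, T.c2])).of_center (one_mem _) m).symm
  b3 := C.cent (by rw [MonoidHom.mem_ker, map_pow, hB, h3])

theorem θ_δ (T : Tri φ b) (T' : Tri φ' B) (h : ∀ m, θ (φ' m) = φ m) (hB : θ B = b) (g : S3 r) :
    θ (T'.δ g) = T.δ g := by
  rw [T.δ_apply, T'.δ_apply]
  unfold tri
  simp only [map_mul, map_inv, h, hB]

theorem AS.δ_center (A : AS ζ t b φ) (T' : Tri φ' B) (C : Cov0 3 θ) (h : ∀ m, θ (φ' m) = φ m) (hB : θ B = b)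
    {g : S3 r} (hg : g ∈ Subgroup.center (S3 r)) : T'.δ g = 1 := by
  have h1 : θ ((φ' g)⁻¹ * (B * φ' g * B⁻¹)) = 1 := by
    obtain ⟨i, hi⟩ := A.center_mem hg
    have hi' : t ^ i = φ g := hi
    rw [map_mul, map_mul, map_mul, map_inv, map_inv, h, hB, ← hi', (Commute.zpow_right A.bt i).eq]
    group
  exact T'.δ_eq_one (C.cent h1) (C.expo _ h1) (cpow3 hg) (by group)

theorem AS.center_of_δ (A : AS ζ t b φ) {g : S3 r} (h : A.tri.δ g = 1) : g ∈ Subgroup.center (S3 r) :=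
  (A.tri.act0 g g g).center A.ne fun m => by rw [← A.tri.δ_apply, h, one_mul, mul_one]

theorem sig_lift (T' : Tri φ' B) (C : Cov0 3 θ) (h : ∀ m, θ (φ' m) = φ m) (hB : θ B = b) {σ : MulAut (YY chevE6 r)}
    {σL : MulAut L} (hl : ∀ x, θ (σL x) = σ (θ x)) (hb : σ b = b) {k : ℕ} {τ : S3 r →* S3 r}
    (hσ : ∀ m, σ (φ m) = b ^ k * φ (τ m) * (b ^ k)⁻¹) (g : S3 r) : σL (T'.δ g) = T'.δ (τ g) := by
  have h1 : θ (B⁻¹ * σL B) = 1 := by rw [map_mul, map_inv, hl, hB, hb, inv_mul_cancel]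
  refine T'.map_δ (α := σL.toMonoidHom) (C.cent h1) (by show σL B = _; group) (k := k) (fun m => ?_) g
  have h2 := lift_conj (φ := φ) C le_rfl h ((MulAut.conj (B ^ k)⁻¹).toMonoidHom.comp σL.toMonoidHom) τ (fun u => by
    show θ ((B ^ k)⁻¹ * σL (φ' u) * (B ^ k)⁻¹⁻¹) = _
    rw [map_mul, map_mul, map_inv, map_inv, map_inv, map_pow, hl, h, hB, hσ]
    group) m
  have h3 : (B ^ k)⁻¹ * σL (φ' m) * (B ^ k)⁻¹⁻¹ = φ' (τ m) := h2
  show σL (φ' m) = _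
  rw [← h3]
  group

/-- the action of a fixed point on the next component -/
theorem act_sig {σ : MulAut (YY chevE6 r)} {k : ℕ} {τ : S3 r →* S3 r} (hτ : Function.Surjective τ)
    (hσ : ∀ m, σ (φ m) = b ^ k * φ (τ m) * (b ^ k)⁻¹) {y : YY chevE6 r} (hy : σ y = y) {g : S3 r} (a : Act φ y g) :
    Act φ ((b ^ k)⁻¹ * y * b ^ k) (τ g) := fun m => by
  obtain ⟨m, rfl⟩ := hτ m
  have e := congrArg σ (a m)
  rw [map_mul, map_mul, map_inv, hy, hσ, hσ] at e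
  rw [← map_inv, ← map_mul, ← map_mul]
  calc (b ^ k)⁻¹ * y * b ^ k * φ (τ m) * ((b ^ k)⁻¹ * y * b ^ k)⁻¹
      = (b ^ k)⁻¹ * (y * (b ^ k * φ (τ m) * (b ^ k)⁻¹) * y⁻¹) * b ^ k := by group
    _ = _ := by rw [e]; group

theorem exists_AS (h : StdA ζ t) (hb : R1 t b) (h3 : b ^ 3 = 1) : ∃ φ, AS ζ t b φ := by
  obtain ⟨φ, hφ⟩ := exists_frame_hom hpE6 r (afr6 0) le_rfl
  exact ⟨φ, h, hb, h3, hφ⟩

theorem AS.exists_lift (A : AS ζ t b φ) (hr3 : r ≠ 3) (C : Cov0 3 θ) : ∃ φ' : S3 r →* L, ∀ m, θ (φ' m) = φ m := by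
  obtain ⟨φ', h, -⟩ := exists_lift_frame (afr6 0) A.fr C
    ((Nat.coprime_primes Fact.out Nat.prime_three).2 hr3) le_rfl
  exact ⟨φ', h⟩

end AA

end Cfsg.Agent.BHZ.Exc
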