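import Cfsg.Agent.DL.Ex.Split
import Cfsg.Agent.DL.St.Main
import Cfsg.Agent.H379.GG.PGL
import Cfsg.Agent.H321.Ker.AlgTr

/-!
# The Deligne-Lusztig datum of `GL₃` with the standard or the twisted Frobenius map
-/

set_option autoImplicit false

namespace Cfsg.Agent.BHZ.Exc.ND

open Matrix CoxeterSystem Cfsg.Agent.ChevalleyStructure.CoxeterGeom Cfsg.Agent.Tits.Roots
open Cfsg.Agent.Nodes.Reps Cfsg.Agent.Nodes.BNOf Cfsg.Agent.Nodes.RGDLib Cfsg.Agent.Nodes.Bruhat
open Cfsg.Agent.Nodes Cfsg.Agent.Nodes.RootsA Cfsg.Agent.DL Cfsg.Agent.DL.Ex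
open Cfsg.Agent.LieRecognition.BNCox (cA)
open Cfsg.Agent.TitsThree.KSideA (tv tv_of_ne tv_add tv_zero)
open Cfsg.Agent.H379.GG (dg dg_val dg_inv_val dg_conj mono_conj range_toGL)
open Cfsg.Agent.H321.Ker (fr it stG ex sc)
open Matrix.SpecialLinearGroup (toGL)

variable {k : Type} [Field k]

open Classical in
/-- the pair of indices of a root -/
noncomputable def pa (a : Fin 2 → ℤ) : Fin 3 × Fin 3 :=
  if h : ∃ z : Fin 3 × Fin 3, z.1 ≠ z.2 ∧ a = rtA z.1 z.2 then h.choose else (0, 0)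

theorem pa_rtA {a b : Fin 3} (hab : a ≠ b) : pa (rtA (n := 2) a b) = (a, b) := by
  have h : ∃ z : Fin 3 × Fin 3, z.1 ≠ z.2 ∧ rtA (n := 2) a b = rtA z.1 z.2 := ⟨(a, b), hab, rfl⟩
  rw [pa, dif_pos h]
  obtain ⟨h1, h2⟩ := rtA_inj hab h.choose_spec.2
  exact Prod.ext h1.symm h2.symm

/-- the root elements -/
noncomputable def xm (a : Fin 2 → ℤ) (u : k) : GL (Fin 3) k := toGL (tv (pa a).1 (pa a).2 u)

theorem xm_rtA {a b : Fin 3} (hab : a ≠ b) (u : k) : xm (rtA (n := 2) a b) u = toGL (tv a b u) := by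
  rw [xm, pa_rtA hab]

/-- roots as characters -/
def wtA : (Fin 2 → ℤ) →+ (Fin 3 → ℤ) where
  toFun a := ![a 0, a 1 - a 0, -a 1]
  map_zero' := by
    funext i
    fin_cases i <;> simp
  map_add' a b := by
    funext i
    fin_cases i <;> simp <;> ring

theorem wtA_rtA (a b : Fin 3) : wtA (rtA (n := 2) a b) = Pi.single a 1 - Pi.single b 1 := by
  revert a b
  decide

theorem chr_wtA (a b : Fin 3) (c : Fin 3 → kˣ) : chr (wtA (rtA (n := 2) a b)) c = c a * (c b)⁻¹ := by
  rw [wtA_rtA, Ex.chr_sub, Ex.chr_single, Ex.chr_single, zpow_one, zpow_one]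

theorem dg_inj : Function.Injective (dg 2 k) := by
  intro c d h
  funext i
  have h1 := congrArg (fun g : GL (Fin 3) k => g.1 i i) h
  simp only [dg_val, diagonal_apply_eq] at h1
  exact Units.ext h1

theorem coe_tv {a b : Fin 3} (hab : a ≠ b) (u : k) :
    (toGL (tv a b u) : GL (Fin 3) k).1 = 1 + single a b u := RGDTypeA.tv_val hab u

theorem ex_tv (F₀ : Subfield k) (a b : Fin 3) (u : F₀) :
    ex 3 F₀ (toGL (tv a b u)) = toGL (tv a b (u : k)) := by
  by_cases hab : a = b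
  · rw [tv, tv, dif_neg (not_not.2 hab), dif_neg (not_not.2 hab), map_one, map_one, map_one]
  · apply Units.ext
    ext i j
    rw [H321.Ker.ex_apply, coe_tv hab, coe_tv hab, Matrix.add_apply, Matrix.add_apply, Matrix.one_apply,
      Matrix.one_apply, single_apply, single_apply]
    split_ifs <;> simp

theorem ex_ns (F₀ : Subfield k) (i : Fin 2) :
    ex 3 F₀ (toGL (RGDTypeA.ns 2 F₀ i)) = toGL (RGDTypeA.ns 2 k i) := by
  rw [RGDTypeA.ns, RGDTypeA.ns, RGDTypeA.nn, RGDTypeA.nn, map_mul, map_mul, map_mul, map_mul, map_mul, map_mul,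
    ex_tv, ex_tv]
  simp

variable (r : ℕ) [Fact r.Prime] [CharP k r]

theorem fr_tv (e : ℕ) {a b : Fin 3} (hab : a ≠ b) (u : k) :
    fr r e (toGL (tv a b u)) = toGL (tv a b (u ^ r ^ e)) := by
  rw [tv_of_ne hab, tv_of_ne hab]
  exact H321.Ker.fr_transvection r e hab u

theorem fr_dg (e : ℕ) (c : Fin 3 → kˣ) : fr r e (dg 2 k c) = dg 2 k (c ^ r ^ e) := by
  apply Units.ext
  ext i j
  rw [H321.Ker.fr_apply, dg_val, dg_val, diagonal_apply, diagonal_apply]
  split_ifs
  · rw [Pi.pow_apply, Units.val_pow_eq_pow_val]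
  · exact zero_pow (pow_ne_zero _ (Fact.out : r.Prime).ne_zero)

omit [Fact r.Prime] [CharP k r] in
theorem it_dg (c : Fin 3 → kˣ) : it (dg 2 k c) = dg 2 k c⁻¹ := by
  apply Units.ext
  rw [H321.Ker.it_coe, dg_inv_val, dg_val, diagonal_transpose]
  rfl

theorem ex_mem_lev (e : ℕ) (g : GL (Fin 3) (levF r k e)) :
    ex 3 (levF r k e) g ∈ lev r (MonoidHom.id (GL (Fin 3) k)) e := by
  apply Units.ext
  ext i j
  exact mem_levF.1 (g.1 i j).2

theorem rgd_level {e : ℕ} (he : 0 < e) :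
    RGD (cA 2).toCoxeterSystem (isCartan 2) r ((dg 2 k).range ⊓ lev r (MonoidHom.id (GL (Fin 3) k)) e)
      (fun i => toGL (RGDTypeA.ns 2 k i))
      (fun a => (RGDTypeA.X k a).map toGL ⊓ lev r (MonoidHom.id (GL (Fin 3) k)) e) := by
  have := finite_levF (p := r) (k := k) he
  have : CharP (levF r k e) r := (levF r k e).subtype.charP Subtype.val_injective r
  have R0 := rgd_map_of_injective (RGDTypeA.rgd (cA 2).toCoxeterSystem (isCartan 2) (F := levF r k e) (p := r))
    ((ex 3 (levF r k e)).comp toGL) (H321.Ker.ex_inj.comp SpecialLinearGroup.toGL_injective)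
  rw [show (fun i => ((ex 3 (levF r k e)).comp toGL) (RGDTypeA.ns 2 (levF r k e) i)) =
    fun i => toGL (RGDTypeA.ns 2 k i) from funext fun i => ex_ns _ i] at R0
  refine rgd_lev (fun _ _ h => h) he dg_inj (fun t ht => ht) R0 ?_ ?_ ?_ ?_ ?_
  · rintro _ ⟨y, hy, rfl⟩
    refine ⟨?_, ex_mem_lev r e _⟩
    have hy' := RGDTypeA.mem_T.1 hy
    refine ⟨fun i => Units.mk0 ((y.1 i i : levF r k e) : k) (by simpa using hy'.apply_ne_zero i), ?_⟩
    apply Units.ext
    ext i j
    rw [dg_val, diagonal_apply, MonoidHom.comp_apply, H321.Ker.ex_apply]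
    split_ifs with hij
    · subst hij
      rfl
    · have h1 : y.1 i j = 0 := by
        by_contra h0
        exact hij (hy' i j h0)
      change _ = ((y.1 i j : levF r k e) : k)
      rw [h1]
      rfl
  · intro x hx
    obtain ⟨a, b, hab, rfl⟩ := exists_of_isRoot _ _ hx
    rw [RGDTypeA.X_rtA hab, RGDTypeA.X_rtA hab]
    apply le_antisymm
    · rintro _ ⟨_, ⟨u, rfl⟩, rfl⟩
      exact ⟨⟨_, ⟨u, rfl⟩, (ex_tv _ a b u).symm⟩, ex_mem_lev r e _⟩
    · rintro _ ⟨⟨_, ⟨u, rfl⟩, rfl⟩, h2⟩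
      have h3 : fr r e (toGL (tv a b u)) = toGL (tv a b u) := h2
      rw [fr_tv r e hab] at h3
      exact ⟨_, ⟨⟨u, mem_levF.2 (RGDTypeA.tv_inj hab (SpecialLinearGroup.toGL_injective h3))⟩, rfl⟩, ex_tv _ a b _⟩
  · intro i
    rw [← ex_ns (levF r k e)]
    exact ex_mem_lev r e _
  · rintro i _ ⟨d, rfl⟩
    exact ⟨_, (mono_conj (RGDTypeA.mono_ns i) d).symm⟩
  · rintro x hx _ ⟨d, rfl⟩ u hu
    obtain ⟨a, b, hab, rfl⟩ := exists_of_isRoot _ _ hx
    rw [RGDTypeA.X_rtA hab] at hu ⊢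
    obtain ⟨_, ⟨u, rfl⟩, rfl⟩ := hu
    exact ⟨_, ⟨_, rfl⟩, (dg_conj d hab u).symm⟩

omit [Fact r.Prime] [CharP k r] in
theorem GG_top : GG (cA 2).toCoxeterSystem (isCartan 2) (dg 2 k).range (fun a => (RGDTypeA.X k a).map toGL) = ⊤ := by
  have h0 := RGDTypeA.G1_map (cA 2).toCoxeterSystem (isCartan 2) (RGDTypeA.X k)
    (toGL : SpecialLinearGroup (Fin 3) k →* GL (Fin 3) k)
  rw [RGDTypeA.G1_eq_top, ← MonoidHom.range_eq_map] at h0
  have h1 : GG (cA 2).toCoxeterSystem (isCartan 2) (dg 2 k).range (fun a => (RGDTypeA.X k a).map toGL) =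
      (dg 2 k).range ⊔ (toGL : SpecialLinearGroup (Fin 3) k →* GL (Fin 3) k).range := by
    rw [← h0]
    rfl
  rw [h1, eq_top_iff]
  intro g _
  let c : kˣ := GeneralLinearGroup.det g
  have h2 : GeneralLinearGroup.det (dg 2 k (Pi.mulSingle 0 c)) = c := by
    apply Units.ext
    change (dg 2 k (Pi.mulSingle 0 c)).1.det = c
    rw [dg_val, det_diagonal, Finset.prod_eq_single 0]
    · rw [Pi.mulSingle_eq_same]
    · intro j _ hj
      rw [Pi.mulSingle_eq_of_ne hj, Units.val_one]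
    · intro h3
      exact absurd (Finset.mem_univ _) h3
  have h3 : (dg 2 k (Pi.mulSingle 0 c))⁻¹ * g ∈ (toGL : SpecialLinearGroup (Fin 3) k →* GL (Fin 3) k).range := by
    rw [range_toGL (n := 2), MonoidHom.mem_ker, map_mul, map_inv, h2, inv_mul_cancel]
  rw [← mul_inv_cancel_left (dg 2 k (Pi.mulSingle 0 c)) g]
  exact mul_mem (Subgroup.mem_sup_left ⟨_, rfl⟩) (Subgroup.mem_sup_right h3)

variable [IsAlgClosed k] (e : ℕ)

theorem fr_bijective : Function.Bijective (fr r e : GL (Fin 3) k → GL (Fin 3) k) := by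
  refine Function.bijective_iff_has_inverse.2
    ⟨GeneralLinearGroup.map (iterateFrobeniusEquiv k r e).symm.toRingHom, fun g => ?_, fun g => ?_⟩
  · apply Units.ext
    ext i j
    exact (iterateFrobeniusEquiv k r e).symm_apply_apply _
  · apply Units.ext
    ext i j
    exact (iterateFrobeniusEquiv k r e).apply_symm_apply _

omit [IsAlgClosed k] in
theorem stG_one_false (g : GL (Fin 3) k) : stG r e 1 false g = fr r e g := by
  rw [H321.Ker.stG_false, one_mul, inv_one, mul_one]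

omit [IsAlgClosed k] in
theorem stG_one_true (g : GL (Fin 3) k) : stG r e 1 true g = it (fr r e g) := by
  rw [H321.Ker.stG_true, one_mul, inv_one, mul_one]

theorem stG_bijective (uni : Bool) : Function.Bijective (stG r e (1 : GL (Fin 3) k) uni) := by
  cases uni
  · rw [show (stG r e (1 : GL (Fin 3) k) false : _ → _) = fr r e from funext (stG_one_false r e)]
    exact fr_bijective r e
  · rw [show (stG r e (1 : GL (Fin 3) k) true : _ → _) = it ∘ fr r e from funext (stG_one_true r e)]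
    exact (Function.Involutive.bijective H321.Ker.it_it).comp (fr_bijective r e)

/-- the Frobenius automorphism -/
noncomputable def FA (uni : Bool) : MulAut (GL (Fin 3) k) := MulEquiv.ofBijective _ (stG_bijective r e uni)

theorem FA_apply (uni : Bool) (g : GL (Fin 3) k) : FA r e uni g = stG r e 1 uni g := rfl

/-- the exponent on the torus -/
def sg (uni : Bool) : ℤ := if uni then -(r : ℤ) ^ e else (r : ℤ) ^ e

theorem FA_dg (uni : Bool) (c : Fin 3 → kˣ) : FA r e uni (dg 2 k c) = dg 2 k (c ^ sg r e uni) := by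
  cases uni
  · rw [FA_apply, stG_one_false, fr_dg, sg, if_neg Bool.false_ne_true, ← Nat.cast_pow, zpow_natCast]
  · rw [FA_apply, stG_one_true, fr_dg, it_dg, sg, if_pos rfl, _root_.zpow_neg, ← Nat.cast_pow, zpow_natCast]

theorem FA_sq (uni : Bool) (g : GL (Fin 3) k) : FA r e uni (FA r e uni g) = fr r (e + e) g := by
  cases uni
  · rw [FA_apply, FA_apply, stG_one_false, stG_one_false, H321.Ker.fr_fr]
  · rw [FA_apply, FA_apply, stG_one_true, stG_one_true, ← H321.Ker.it_fr, H321.Ker.it_it, H321.Ker.fr_fr]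

variable {e}

/-- **The datum.** -/
noncomputable def dat (hk : ∀ a : k, ∃ m, 0 < m ∧ a ^ r ^ m = a) (he : 0 < e) (uni : Bool) :
    Datum r (MonoidHom.id (GL (Fin 3) k)) (FA r e uni) ⊤ where
  amb := ⟨hk, fun _ _ h => h, 2, e + e, two_pos, by omega, fun y => FA_sq r e uni y⟩
  I := Fin 2
  W := (cA 2).Group
  fW := finite_W (cA 2).toCoxeterSystem (isCartan 2)
  M := cA 2
  cs := (cA 2).toCoxeterSystem
  A := AA 2
  h := isCartan 2
  R := Fin 3
  τ := dg 2 k
  τ_inj := dg_inj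
  T := (dg 2 k).range
  mem_T _ := Iff.rfl
  X a := (RGDTypeA.X k a).map toGL
  x := xm
  mem_X x hx y := by
    obtain ⟨a, b, hab, rfl⟩ := exists_of_isRoot _ _ hx
    rw [RGDTypeA.X_rtA hab]
    constructor
    · rintro ⟨_, ⟨u, rfl⟩, rfl⟩
      exact ⟨u, xm_rtA hab u⟩
    · rintro ⟨u, rfl⟩
      exact ⟨_, ⟨u, rfl⟩, (xm_rtA hab u).symm⟩
  x_inj x hx u v h := by
    obtain ⟨a, b, hab, rfl⟩ := exists_of_isRoot _ _ hx
    rw [xm_rtA hab, xm_rtA hab] at h
    exact RGDTypeA.tv_inj hab (SpecialLinearGroup.toGL_injective h)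
  x_add x _ u v := by rw [xm, xm, xm, tv_add, map_mul]
  n i := toGL (RGDTypeA.ns 2 k i)
  wt := wtA
  cw i := wtA (sr i)
  pair i a := by
    fin_cases i <;> simp [wtA, pairing, AA, sr, Fin.sum_univ_succ] <;> ring
  tor x hx c u := by
    obtain ⟨a, b, hab, rfl⟩ := exists_of_isRoot _ _ hx
    rw [xm_rtA hab, xm_rtA hab, dg_conj c hab, chr_wtA, Units.val_mul, mul_right_comm]
  refl i c := by
    rw [mono_conj (RGDTypeA.mono_ns i) c, ← rtA_sr, chr_wtA, wtA_rtA]
    congr 1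
    funext j
    fin_cases i <;> fin_cases j <;> simp [coch_apply, Equiv.swap_apply_def]
  rgd := ⟨1, one_pos, fun m hm => rgd_level r (by omega)⟩
  G_eq := GG_top
  polyx x hx i j := by
    obtain ⟨a, b, hab, rfl⟩ := exists_of_isRoot _ _ hx
    refine ⟨Polynomial.C ((1 : Matrix (Fin 3) (Fin 3) k) i j) + if a = i ∧ b = j then Polynomial.X else 0,
      fun u => ?_⟩
    rw [xm_rtA hab, MonoidHom.id_apply, coe_tv hab, Matrix.add_apply, single_apply]
    split_ifs <;> simp
  diag := ⟨1, fun i => Pi.single i 1, fun c => by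
    rw [inv_one, one_mul, mul_one, MonoidHom.id_apply, dg_val]
    simp only [Ex.chr_single, zpow_one]⟩
  g a := if uni then -a else a
  ex _ := e
  g_root a ha := by
    split_ifs
    · exact ha.neg
    · exact ha
  F_x x hx := by
    obtain ⟨a, b, hab, rfl⟩ := exists_of_isRoot _ _ hx
    cases uni
    · refine ⟨1, one_ne_zero, fun u => ?_⟩
      rw [if_neg Bool.false_ne_true, xm_rtA hab, xm_rtA hab, FA_apply, stG_one_false, fr_tv r e hab, one_mul]
    · refine ⟨-1, neg_ne_zero.2 one_ne_zero, fun u => ?_⟩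
      rw [if_pos rfl, rtA_neg, xm_rtA hab, xm_rtA hab.symm, FA_apply, stG_one_true, fr_tv r e hab, tv_of_ne hab,
        H321.Ker.it_transvection, tv_of_ne hab.symm, neg_one_mul]
  Mx := diagonal fun _ => sg r e uni
  F_τ c := by
    rw [FA_dg]
    congr 1
    funext i
    have h1 : diagonal (fun _ : Fin 3 => sg r e uni) i = Pi.single i (sg r e uni) := by
      funext j
      rw [diagonal_apply, Pi.single_apply]
      exact if_congr eq_comm rfl rfl
    rw [mon_apply, h1, Ex.chr_single, Pi.pow_apply]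

end Cfsg.Agent.BHZ.Exc.ND
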