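import Cfsg.Agent.BHZ.Exc.AY

/-!
# S4806, exceptional groups, type `A₂³`: the frame homomorphism (helper34)
-/

set_option autoImplicit false
set_option linter.unusedSectionVars false
set_option maxRecDepth 100000

namespace Cfsg.Agent.BHZ.Exc

open CoxeterSystem Cfsg Cfsg.Lie Cfsg.Lie.ChevalleyDatum
open Cfsg.Agent.ChevalleyStructure Cfsg.Agent.ChevalleyStructure.Elts Cfsg.Agent.ChevalleyStructure.CoxeterGeom
  Cfsg.Agent.ChevalleyStructure.CoxeterGeomTypes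
open Cfsg.Agent.Tits.Roots Cfsg.Agent.Tits.Core Cfsg.Agent.Nodes Cfsg.Agent.Nodes.Reps Cfsg.Agent.Nodes.BNOf
  Cfsg.Agent.Nodes.RGDChev Cfsg.Agent.Nodes.Bruhat
open Cfsg.Agent.KFacts.RgdField Cfsg.Agent.KFacts.RgdChevCoord
open Cfsg.Agent.BpExc Cfsg.Agent.BpExc.TorCent Cfsg.Agent.BpExc.TorChev Cfsg.Agent.BpExc.Tow
  Cfsg.Agent.BpExc.TowChev Cfsg.Agent.BpExc.Fr Cfsg.Agent.BpExc.LangFr
open Cfsg.Agent.H469.Exc Cfsg.Agent.H795.SetCent Cfsg.Agent.H129.TorusChar Cfsg.Agent.DS.Ex Cfsg.Agent.DS.Nt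
open Cfsg.Agent.H46.Gen (AFr Rt xf)
open Cfsg.Agent.H321.Ker (cj stG stm sc)
open Cfsg.Agent.H931.KC (al)
open Cfsg.Agent.H665.NoPQ (HasDZ)
open scoped MatrixGroups
open Matrix.SpecialLinearGroup (transvection)

namespace AA

open TY
open Cfsg.Agent.H321.Ker (ker_le_center toGL_inj' toGL_stm stG_false stG_true)
open Cfsg.Agent.H321.Mono (fm_sigma)
open Cfsg.Agent.H46.Gen (rt_iff)
open Cfsg.Agent.H92.NE (bl)
open Matrix.SpecialLinearGroup (toGL)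

variable {r : ℕ} [Fact r.Prime] {ζ : KK r} {t b : YY chevE6 r} {φ : S3 r →* YY chevE6 r}

/-- the setting in the adjoint group -/
structure AS (ζ : KK r) (t b : YY chevE6 r) (φ : S3 r →* YY chevE6 r) : Prop where
  std : StdA ζ t
  r1 : R1 t b
  b3 : b ^ 3 = 1
  fr : ∀ i j (hij : i ≠ j) s, φ (transvection hij s) = xf hpE6 (ev6 0) i j s

namespace AS

variable (A : AS ζ t b φ)
include A

theorem ne : ∃ g, φ g ≠ 1 := frame_ne (afr6 0) A.fr (by norm_num)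

theorem range : φ.range = MJ r 0 := frame_range (afr6 0) A.fr (by norm_num)

theorem mem0 (m : S3 r) : φ m ∈ MJ r 0 := A.range ▸ ⟨m, rfl⟩

theorem mem1 (m : S3 r) : b * φ m * b⁻¹ ∈ MJ r 1 := (A.r1.conj A.std 0 _).2 (A.mem0 m)

theorem mem2 (m : S3 r) : b⁻¹ * φ m * b ∈ MJ r 2 := by
  refine (A.r1.conj A.std 2 _).1 ?_
  have e : b * (b⁻¹ * φ m * b) * b⁻¹ = φ m := by group
  rw [e]
  exact A.mem0 m

theorem tri : Tri φ b where
  c1 m m' := MJ_comm (by decide) (A.mem0 m) (A.mem1 m')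
  c2 m m' := MJ_comm (by decide) (A.mem0 m) (A.mem2 m')
  b3 := by
    rw [A.b3]
    exact one_mem _

theorem bt : b * t = t * b := A.r1.comm A.std

theorem inner {y : YY chevE6 r} (hy : y ∈ DZ hpE6 r {t}) : ∃ g, Act φ y g :=
  exists_inner (afr6 0) A.fr le_rfl (comp6 A.std 0) hy

theorem conjD {c y : YY chevE6 r} (hc : c * t = t * c) (hy : y ∈ DZ hpE6 r {t}) : c * y * c⁻¹ ∈ DZ hpE6 r {t} :=
  conj_mem_DZ (Set.finite_singleton t) (Set.singleton_subset_iff.2 A.std.2.1) (fun s hs => by rw [hs, hc]) hy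

theorem conj1 {y : YY chevE6 r} (hy : y ∈ DZ hpE6 r {t}) : b⁻¹ * y * b ∈ DZ hpE6 r {t} := by
  have h := A.conjD (Commute.inv_left A.bt).eq hy
  rwa [inv_inv] at h

theorem conj2 {y : YY chevE6 r} (hy : y ∈ DZ hpE6 r {t}) : b * y * b⁻¹ ∈ DZ hpE6 r {t} := A.conjD A.bt hy

theorem commD {y : YY chevE6 r} (hy : y ∈ DZ hpE6 r {t}) : y * t = t * y :=
  DZ_comm (Set.singleton_subset_iff.2 A.std.2.1) hy rfl

theorem t_comm {j : Fin 3} {y : YY chevE6 r} (hy : y ∈ MJ r j) : y * t = t * y :=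
  A.commD (Mz_le_DZ (MJ_le A.std j hy))

theorem tri_mem (g0 g1 g2 : S3 r) : AA.tri φ b g0 g1 g2 ∈ DZ hpE6 r {t} :=
  Mz_le_DZ (mul_mem (mul_mem (MJ_le A.std 0 (A.mem0 g0)) (MJ_le A.std 1 (A.mem1 g1))) (MJ_le A.std 2 (A.mem2 g2)))

/-- an element which acts trivially on the three components is a power of `t` -/
theorem cent {c : YY chevE6 r} (hc : c * t = t * c) {g0 g1 g2 : S3 r} (a0 : Act φ c g0) (a1 : Act φ (b⁻¹ * c * b) g1)
    (a2 : Act φ (b * c * b⁻¹) g2) (h0 : g0 ∈ Subgroup.center (S3 r)) (h1 : g1 ∈ Subgroup.center (S3 r))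
    (h2 : g2 ∈ Subgroup.center (S3 r)) : c ∈ Subgroup.zpowers t := by
  refine cent_MJ A.std hc fun j y hy => ?_
  fin_cases j
  · obtain ⟨m, rfl⟩ : y ∈ φ.range := A.range ▸ hy
    exact a0.of_center h0 m
  · have h3 : b⁻¹ * y * b ∈ φ.range := by
      rw [A.range]
      refine (A.r1.conj A.std 0 _).1 ?_
      have e : b * (b⁻¹ * y * b) * b⁻¹ = y := by group
      rw [e]
      exact hy
    obtain ⟨m, hm⟩ := h3
    have e := a1.of_center h1 m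
    rw [hm] at e
    calc c * y = b * (b⁻¹ * c * b * (b⁻¹ * y * b)) * b⁻¹ := by group
      _ = b * (b⁻¹ * y * b * (b⁻¹ * c * b)) * b⁻¹ := by rw [e]
      _ = y * c := by group
  · have h3 : b * y * b⁻¹ ∈ φ.range := by
      rw [A.range]
      exact (A.r1.conj A.std 2 _).2 hy
    obtain ⟨m, hm⟩ := h3
    have e := a2.of_center h2 m
    rw [hm] at e
    calc c * y = b⁻¹ * (b * c * b⁻¹ * (b * y * b⁻¹)) * b := by group
      _ = b⁻¹ * (b * y * b⁻¹ * (b * c * b⁻¹)) * b := by rw [e]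
      _ = y * c := by group

theorem center_mem {g : S3 r} (hg : g ∈ Subgroup.center (S3 r)) : φ g ∈ Subgroup.zpowers t := by
  have e : AA.tri φ b g 1 1 = φ g := by
    unfold AA.tri
    rw [map_one]
    group
  rw [← e]
  exact A.cent (A.commD (A.tri_mem _ _ _)) (A.tri.act0 _ _ _) (A.tri.act1 _ _ _) (A.tri.act2 _ _ _) hg (one_mem _)
    (one_mem _)

/-- the decomposition -/
theorem decomp {y : YY chevE6 r} (hy : y ∈ DZ hpE6 r {t}) {g0 g1 g2 : S3 r} (a0 : Act φ y g0)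
    (a1 : Act φ (b⁻¹ * y * b) g1) (a2 : Act φ (b * y * b⁻¹) g2) :
    (AA.tri φ b g0 g1 g2)⁻¹ * y ∈ Subgroup.zpowers t := by
  refine A.cent (A.commD (mul_mem (inv_mem (A.tri_mem _ _ _)) hy)) ((A.tri.act0 g0 g1 g2).inv.mul a0) (g1 := g1⁻¹ * g1)
    (g2 := g2⁻¹ * g2) ?_ ?_ (by rw [inv_mul_cancel]; exact one_mem _) (by rw [inv_mul_cancel]; exact one_mem _)
    (by rw [inv_mul_cancel]; exact one_mem _)
  · convert (A.tri.act1 g0 g1 g2).inv.mul a1 using 1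
    group
  · convert (A.tri.act2 g0 g1 g2).inv.mul a2 using 1
    group

theorem t_ne : t ≠ 1 := fun h => by
  have h1 := A.std.2.2 (sr 3)
  rw [h, cX_one, sr_self, zpow_one] at h1
  exact A.std.1.ne_one (by norm_num) h1.symm

theorem inj : Function.Injective φ := by
  rw [injective_iff_map_eq_one]
  intro g hg
  by_contra h1
  have hc : g ∈ Subgroup.center (S3 r) := ker_le_center le_rfl A.ne hg
  have h2 : ∀ g' ∈ Subgroup.center (S3 r), φ g' = 1 := fun g' hg' => by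
    obtain ⟨i, rfl⟩ := center_cyc hc h1 hg'
    rw [map_pow, hg, one_pow]
  obtain ⟨s, hs, e⟩ := exists_root' hpE6 A.std.2.1 (n := 3) (by norm_num)
  have hD : s ∈ DZ hpE6 r {t} := T_le_DZ hs
  obtain ⟨g0, a0⟩ := A.inner hD
  obtain ⟨g1, a1⟩ := A.inner (A.conj1 hD)
  obtain ⟨g2, a2⟩ := A.inner (A.conj2 hD)
  have ht : ∀ m, t * φ m = φ m * t := fun m => (A.t_comm (A.mem0 m)).symm
  have c0 := (a0.pow 3).center A.ne (by rw [e]; exact ht)
  have c1 := (a1.pow 3).center A.ne (by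
    have e1 : (b⁻¹ * s * b) ^ 3 = t := by
      have e2 : b⁻¹ * s * b = b⁻¹ * s * b⁻¹⁻¹ := by rw [inv_inv]
      rw [e2, conj_pow, e, (Commute.inv_left A.bt).eq, mul_inv_cancel_right]
    rw [e1]
    exact ht)
  have c2 := (a2.pow 3).center A.ne (by
    rw [conj_pow, e, A.bt, mul_inv_cancel_right]
    exact ht)
  obtain ⟨i, hi⟩ := A.decomp hD a0 a1 a2
  have h3 : AA.tri φ b g0 g1 g2 ^ 3 = 1 := by
    rw [A.tri.pow]
    unfold AA.tri
    rw [h2 _ c0, h2 _ c1, h2 _ c2]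
    group
  have h4 : s = AA.tri φ b g0 g1 g2 * t ^ i := by
    have h5 : t ^ i = _ := hi
    rw [h5, mul_inv_cancel_left]
  refine A.t_ne ?_
  have h6 : Commute (AA.tri φ b g0 g1 g2) (t ^ i) := Commute.zpow_right (A.commD (A.tri_mem _ _ _)) i
  rw [← e, h4, h6.mul_pow, h3, ← zpow_natCast, ← zpow_mul, mul_comm i, zpow_mul, zpow_natCast, A.std.pow3, one_zpow,
    mul_one]

end AS

theorem exists_perm3 : ∀ i j k : Fin 3, i ≠ j → j ≠ k → i ≠ k → ∃ π : Equiv.Perm (Fin 3), π 0 = i ∧ π 1 = j ∧ π 2 = k := by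
  decide

/-- an automorphism of the lattice which preserves the roots of the centralizer -/
theorem frame_image (h : StdA ζ t) (γ : (Fin 6 → ℤ) ≃+ (Fin 6 → ℤ)) (hγ : ∀ a ∈ Ps hpE6 r {t}, γ a ∈ Ps hpE6 r {t}) :
    ∃ (j : Fin 3) (π : Equiv.Perm (Fin 3)), (∀ i i', γ (ev6 0 i - ev6 0 i') = ev6 j (π i) - ev6 j (π i')) ∨
      ∀ i i', γ (ev6 0 i - ev6 0 i') = ev6 j (π i') - ev6 j (π i) := by
  obtain ⟨j, i, i', h1, e1⟩ := (mem_PsA h).1 (hγ _ (sub6 h 0 ⟨0, 1, by decide, rfl⟩))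
  obtain ⟨j', k, k', h2, e2⟩ := (mem_PsA h).1 (hγ _ (sub6 h 0 ⟨1, 2, by decide, rfl⟩))
  have h3 := bl_rt ((rt_iff hpE6 _).2 (Ps_root (hγ _ (sub6 h 0 ⟨0, 2, by decide, rfl⟩))))
  have e3 : γ (ev6 0 0 - ev6 0 2) = (1 : ℤ) • (ev6 j i - ev6 j i') + (1 : ℤ) • (ev6 j' k - ev6 j' k') := by
    rw [one_smul, one_smul, ← e1, ← e2, ← map_add, sub_add_sub_cancel]
  rw [e3, bl_comb, bl_rt (rt6 j h1), bl_rt (rt6 j' h2)] at h3
  obtain ⟨rfl, h4⟩ := chk4 j j' i i' k k' h1 h2 (by omega)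
  have key : ∀ (f : Fin 3 → Fin 6 → ℤ), γ (ev6 0 0 - ev6 0 1) = f 0 - f 1 → γ (ev6 0 1 - ev6 0 2) = f 1 - f 2 →
      ∀ i i', γ (ev6 0 i - ev6 0 i') = f i - f i' := by
    intro f a1 a2
    have a3 : ∀ i, γ (ev6 0 i - ev6 0 1) = f i - f 1 := fun i => by
      fin_cases i
      · exact a1
      · show γ (ev6 0 1 - ev6 0 1) = f 1 - f 1
        rw [sub_self, sub_self, map_zero]
      · show γ (ev6 0 2 - ev6 0 1) = f 2 - f 1
        rw [← neg_sub, map_neg, a2, neg_sub]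
    intro i i'
    rw [← sub_sub_sub_cancel_right (ev6 0 i) (ev6 0 i') (ev6 0 1), map_sub, a3, a3, sub_sub_sub_cancel_right]
  rcases h4 with ⟨rfl, h4⟩ | ⟨rfl, h4⟩
  · obtain ⟨π, p0, p1, p2⟩ := exists_perm3 i i' k' h1 h2 h4
    exact ⟨j', π, Or.inl (key (fun i => ev6 j' (π i)) (by rw [e1, p0, p1]) (by rw [e2, p1, p2]))⟩
  · obtain ⟨π, p0, p1, p2⟩ := exists_perm3 i' i k h1.symm h2.symm h4
    refine ⟨j', π, Or.inr fun a a' => ?_⟩
    rw [key (fun i => -ev6 j' (π i)) (by rw [e1, p0, p1, neg_sub_neg]) (by rw [e2, p1, p2, neg_sub_neg]), neg_sub_neg]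

theorem conj_stm (e : ℕ) (Dm : GL (Fin 3) (KK r)) (uni : Bool) (h m : S3 r) :
    h * stm r e Dm uni m * h⁻¹ = stm r e (toGL h * Dm) uni m := by
  refine toGL_inj' ?_
  rw [map_mul, map_mul, map_inv, toGL_stm, toGL_stm]
  cases uni
  · rw [stG_false, stG_false]
    group
  · rw [stG_true, stG_true]
    group

theorem Rot1.ev_pow {v : CoxeterMatrix.E₆.Group} (h : Rot1 v) (j i : Fin 3) :
    rep CoxeterMatrix.E₆.toCoxeterSystem hpE6.isCartan (v ^ (j : ℕ)) (ev6 0 i) = ev6 j i := by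
  fin_cases j
  · show rep _ _ (v ^ 0) _ = _
    rw [pow_zero, map_one]
    rfl
  · show rep _ _ (v ^ 1) _ = _
    rw [pow_one, h.ev]
    rfl
  · show rep _ _ (v ^ 2) _ = _
    rw [pow_two, rep_mul_apply, h.ev, h.ev]
    rfl

/-- **the action of the Frobenius automorphism** -/
theorem AS.sig (A : AS ζ t b φ) {e : ℕ} {σ : MulAut (YY chevE6 r)} {γ : (Fin 6 → ℤ) ≃+ (Fin 6 → ℤ)} (hσ : IsFrob r e σ)
    (F : Fr CoxeterMatrix.E₆.toCoxeterSystem hpE6.isCartan (TT chevE6 (KK r)) (XX chevE6 6 (KK r)) σ γ)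
    (ht : σ t = t) : ∃ (k : ℕ) (Dm : GL (Fin 3) (KK r)) (uni : Bool),
      ∀ m, σ (φ m) = b ^ k * φ (stm r e Dm uni m) * (b ^ k)⁻¹ := by
  have hZ : ({t} : Set (YY chevE6 r)) ⊆ TT chevE6 (KK r) := Set.singleton_subset_iff.2 A.std.2.1
  obtain ⟨j, π, hπ⟩ := frame_image A.std γ fun a ha => (fr_mem_Ps F A.std.2.1 ht a).2 ha
  obtain ⟨m0, hm0, v, k, hk, hv, hkt, hb⟩ := A.r1
  have hinv : ∀ i, rep CoxeterMatrix.E₆.toCoxeterSystem hpE6.isCartan (v ^ (j : ℕ))⁻¹ (ev6 j i) = ev6 0 i := fun i => by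
    rw [← hv.ev_pow j i, rep_inv_apply]
  obtain ⟨Dm, uni, h1⟩ := fm_sigma (afr6 0) A.fr (hσ.conj_mul (k ^ (j : ℕ))⁻¹) ((hk.pow j).inv.fr.mul F) le_rfl (π := π)
    (hπ.imp (fun h i i' _ => by rw [AddEquiv.trans_apply, h, repAut_apply, map_sub, hinv, hinv])
      (fun h i i' _ => by rw [AddEquiv.trans_apply, h, repAut_apply, map_sub, hinv, hinv]))
  have h2 : b ^ (j : ℕ) * (k ^ (j : ℕ))⁻¹ ∈ Mz hpE6 r {t} := by
    rw [hb]
    exact pow_mul_mem_Mz hZ hm0 hk (fun s hs => by rw [hs, hkt]) j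
  have h3 := A.conjD (Commute.inv_left (Commute.pow_left A.bt j)).eq (Mz_le_DZ (inv_mem h2))
  obtain ⟨h, hh⟩ := A.inner h3
  refine ⟨j, toGL h * Dm, uni, fun m => ?_⟩
  have h4 : (k ^ (j : ℕ))⁻¹ * σ (φ m) * (k ^ (j : ℕ))⁻¹⁻¹ = φ (stm r e Dm uni m) := h1 m
  rw [← conj_stm, ← hh, ← h4]
  group

end AA

end Cfsg.Agent.BHZ.Exc
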