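import Cfsg.Agent.BHZ.Exc.AG

/-!
# S4806, exceptional groups, type `A₂³`: the centralizer in the adjoint group (helper34)
-/

set_option autoImplicit false
set_option linter.unusedSectionVars false
set_option maxRecDepth 100000

namespace Cfsg.Agent.BHZ.Exc

open CoxeterSystem Cfsg Cfsg.Lie Cfsg.Lie.ChevalleyDatum
open Cfsg.Agent.ChevalleyStructure Cfsg.Agent.ChevalleyStructure.Elts Cfsg.Agent.ChevalleyStructure.CoxeterGeom
  Cfsg.Agent.ChevalleyStructure.CoxeterGeomTypes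
open Cfsg.Agent.Tits.Roots Cfsg.Agent.Tits.Core Cfsg.Agent.Nodes Cfsg.Agent.Nodes.Reps Cfsg.Agent.Nodes.BNOf
  Cfsg.Agent.Nodes.RGDChev Cfsg.Agent.Nodes.Bruhat
open Cfsg.Agent.KFacts.RgdField Cfsg.Agent.KFacts.RgdChevCoord
open Cfsg.Agent.BpExc Cfsg.Agent.BpExc.TorCent Cfsg.Agent.BpExc.TorChev Cfsg.Agent.BpExc.Tow
  Cfsg.Agent.BpExc.TowChev Cfsg.Agent.BpExc.Fr Cfsg.Agent.BpExc.LangFr
open Cfsg.Agent.H469.Exc Cfsg.Agent.H795.SetCent Cfsg.Agent.H129.TorusChar Cfsg.Agent.DS.Ex Cfsg.Agent.DS.Nt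
open Cfsg.Agent.H46.Gen (AFr Rt xf)
open Cfsg.Agent.H321.Ker (cj stG stm sc)
open Cfsg.Agent.H931.KC (al)
open Cfsg.Agent.H665.NoPQ (HasDZ)
open scoped MatrixGroups
open Matrix.SpecialLinearGroup (transvection)

namespace AA

open TY
open Cfsg.Agent.H321.Ker (eq_of_psi ker_le_center center_pow)
open Cfsg.Agent.H931.KC (eq_one_of_none)

/-- `SL₃` over the algebraically closed field -/
abbrev S3 (r : ℕ) [Fact r.Prime] : Type := Matrix.SpecialLinearGroup (Fin 3) (KK r)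

variable {r : ℕ} [Fact r.Prime]

section SL

variable {Y : Type*} [Group Y] {φ : S3 r →* Y} {y : Y} {g g' : S3 r}

theorem Act.center (hφ : ∃ g, φ g ≠ 1) (h : Act φ y g) (hc : ∀ m, y * φ m = φ m * y) : g ∈ Subgroup.center (S3 r) := by
  refine Subgroup.mem_center_iff.2 fun m => ?_
  have e := eq_of_psi le_rfl hφ (f := (MulAut.conj g).toMonoidHom) (g := MonoidHom.id _) (fun x => by
    show φ (g * x * g⁻¹) = φ x
    rw [← h, hc, mul_inv_cancel_right]) m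
  have e' : g * m * g⁻¹ = m := e
  calc m * g = g * m * g⁻¹ * g := by rw [e']
    _ = g * m := by group

theorem Act.unique (hφ : ∃ g, φ g ≠ 1) (h : Act φ y g) (h' : Act φ y g') : g⁻¹ * g' ∈ Subgroup.center (S3 r) :=
  (h.inv.mul h').center hφ fun m => by rw [inv_mul_cancel, one_mul, mul_one]

theorem cpow3 (hg : g ∈ Subgroup.center (S3 r)) : g ^ 3 = 1 := by
  have := Fact.mk Nat.prime_three
  exact center_pow hg

theorem center_cyc (hg : g ∈ Subgroup.center (S3 r)) (h1 : g ≠ 1) (hg' : g' ∈ Subgroup.center (S3 r)) :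
    ∃ i : ℕ, g' = g ^ i := by
  obtain ⟨c, hc, e⟩ := Matrix.SpecialLinearGroup.mem_center_iff.1 hg
  obtain ⟨c', hc', e'⟩ := Matrix.SpecialLinearGroup.mem_center_iff.1 hg'
  rw [Fintype.card_fin] at hc hc'
  have h2 : c ≠ 1 := fun h => h1 (Subtype.ext (by rw [← e, h, map_one, Matrix.SpecialLinearGroup.coe_one]))
  have := Fact.mk Nat.prime_three
  have h3 : IsPrimitiveRoot c 3 := by
    have h4 := IsPrimitiveRoot.orderOf c
    rwa [orderOf_eq_prime hc h2] at h4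
  obtain ⟨i, -, hi⟩ := h3.eq_pow_of_pow_eq_one hc'
  exact ⟨i, Subtype.ext (by rw [Matrix.SpecialLinearGroup.coe_pow, ← e, ← e', ← hi, map_pow])⟩

/-- the coprime trick in `SL₃` -/
theorem comm_of_act (hφ : ∃ g, φ g ≠ 1) {x : Y} (h : Act φ y g) (h' : Act φ x g') (hc : y * x = x * y) {m : ℕ}
    (hm : y ^ m = 1) (h3 : m.Coprime 3) : g * g' = g' * g := by
  have h1 : (g * g')⁻¹ * (g' * g) ∈ Subgroup.center (S3 r) := (h.mul h').unique hφ (hc ▸ h'.mul h)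
  have h2 : g ^ m ∈ Subgroup.center (S3 r) := (h.pow m).center hφ fun u => by rw [hm, one_mul, mul_one]
  refine comm_of_pow' (θ := QuotientGroup.mk' (Subgroup.center (S3 r))) (p := 3) (by rw [QuotientGroup.ker_mk'])
    (fun z hz => cpow3 ((QuotientGroup.eq_one_iff z).1 hz)) ?_ ?_ h3
  · rw [← map_mul, ← map_mul]
    exact QuotientGroup.eq.2 h1
  · rw [← map_pow]
    exact (QuotientGroup.eq_one_iff _).2 h2

end SL

variable {ζ : KK r} {t : YY chevE6 r}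

variable (r) in
/-- the three components -/
noncomputable def MJ (j : Fin 3) : Subgroup (YY chevE6 r) := RGD.Sup (XX chevE6 6 (KK r)) (Rts (ev6 j))

theorem root6 (j : Fin 3) {a : Fin 6 → ℤ} (ha : a ∈ Rts (ev6 j)) :
    IsRoot CoxeterMatrix.E₆.toCoxeterSystem hpE6.isCartan a := Rts_root hpE6 (afr6 j) ha

theorem MJ_le (h : StdA ζ t) (j : Fin 3) : MJ r j ≤ Mz hpE6 r {t} := RGD.Sup_mono (sub6 h j)

theorem MJ_comm {j j' : Fin 3} (h : j ≠ j') {x y : YY chevE6 r} (hx : x ∈ MJ r j) (hy : y ∈ MJ r j') :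
    x * y = y * x := by
  refine Mh_comm hpE6 (cov0_id 1) (Nat.coprime_one_right r) (fun _ => root6 j) (fun _ => root6 j')
    (fun a ha b hb => so6 h ha hb) ?_ ?_
  · rwa [Mh_id hpE6 fun _ => root6 j]
  · rwa [Mh_id hpE6 fun _ => root6 j']

theorem DZ_conj (h : StdA ζ t) {d : YY chevE6 r} (hd : d ∈ DZ hpE6 r {t}) {j : Fin 3} {y : YY chevE6 r}
    (hy : y ∈ MJ r j) : d * y * d⁻¹ ∈ MJ r j := by
  obtain ⟨ψ, hψ⟩ := exists_frame_hom hpE6 r (afr6 j) le_rfl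
  obtain ⟨g, hg⟩ := exists_inner (afr6 j) hψ le_rfl (comp6 h j) hd
  have e := frame_range (afr6 j) hψ (by norm_num)
  unfold MJ at hy ⊢
  rw [← e] at hy ⊢
  obtain ⟨m, rfl⟩ := hy
  exact ⟨_, (hg m).symm⟩

/-- the elements of the torus which are trivial on the roots of the centralizer -/
theorem mem_zpowers (h : StdA ζ t) {s : YY chevE6 r} (hs : s ∈ TT chevE6 (KK r))
    (h1 : ∀ a ∈ Ps hpE6 r {t}, cX hpE6 s a = 1) : s ∈ Subgroup.zpowers t := by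
  have h2 : ∀ i : Fin 6, i ≠ 3 → cX hpE6 s (sr i) = 1 := fun i hi => h1 _ ((mem_Ps_one h.2.1).2
    ⟨isRoot_sr _ _ i, by rw [h.2.2, sr_ne hi.symm, zpow_zero]⟩)
  have h3 := h1 _ (sub6 h 0 ⟨1, 0, by decide, rfl⟩)
  rw [(isMC_cX hpE6 hs).eq_prod, Fin.prod_univ_six, h2 0 (by decide), h2 1 (by decide), h2 2 (by decide),
    h2 4 (by decide), h2 5 (by decide)] at h3
  simp only [one_zpow, one_mul, mul_one] at h3
  have h4 : (ev6 0 1 - ev6 0 0) 3 = (3 : ℕ) := by decide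
  rw [h4, zpow_natCast] at h3
  obtain ⟨i, -, hi⟩ := h.1.eq_pow_of_pow_eq_one h3
  refine ⟨i, ?_⟩
  show t ^ (i : ℤ) = s
  rw [zpow_natCast]
  refine cX_inj hpE6 (pow_mem h.2.1 i) hs fun j => ?_
  rw [cX_pow hpE6 h.2.1, h.2.2]
  by_cases hj : j = 3
  · rw [hj, sr_self, zpow_one, hi]
  · rw [sr_ne (Ne.symm hj), zpow_zero, one_pow, h2 j hj]

theorem cX_of_comm {c : YY chevE6 r} (hc : c ∈ TT chevE6 (KK r)) {j : Fin 3} (h : ∀ y ∈ MJ r j, c * y = y * c)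
    {a : Fin 6 → ℤ} (ha : a ∈ Rts (ev6 j)) : cX hpE6 c a = 1 :=
  cX_eq_one_of_comm hc (root6 j ha) one_ne_zero (h _ (RGD.le_Sup ha (xc_mem (root6 j ha) 1)))

theorem diagJ (j : Fin 3) {s : YY chevE6 r} (hs : s ∈ TT chevE6 (KK r)) : ∃ x ∈ MJ r j, x ∈ TT chevE6 (KK r) ∧
    ∀ j', ∀ a ∈ Rts (ev6 j'), cX hpE6 x a = if j' = j then cX hpE6 s a else 1 := by
  obtain ⟨ψ, hψ⟩ := exists_frame_hom hpE6 r (afr6 j) le_rfl
  obtain ⟨g, h1, -, h2⟩ := exists_diag (afr6 j) hψ le_rfl hs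
  have h3 : ψ g ∈ MJ r j := by
    unfold MJ
    rw [← frame_range (afr6 j) hψ (by norm_num)]
    exact ⟨g, rfl⟩
  refine ⟨ψ g, h3, h1, fun j' a ha => ?_⟩
  split_ifs with e
  · exact h2 a (e ▸ ha)
  · exact cX_of_comm h1 (fun y hy => MJ_comm (Ne.symm e) h3 hy) ha

theorem T_split (h : StdA ζ t) {s : YY chevE6 r} (hs : s ∈ TT chevE6 (KK r)) :
    ∃ m ∈ Mz hpE6 r {t}, ∃ u ∈ Subgroup.zpowers t, s = m * u := by
  obtain ⟨x0, a0, b0, c0⟩ := diagJ 0 hs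
  obtain ⟨x1, a1, b1, c1⟩ := diagJ 1 hs
  obtain ⟨x2, a2, b2, c2⟩ := diagJ 2 hs
  have hT := mul_mem (mul_mem b0 b1) b2
  refine ⟨x0 * x1 * x2, mul_mem (mul_mem (MJ_le h 0 a0) (MJ_le h 1 a1)) (MJ_le h 2 a2), (x0 * x1 * x2)⁻¹ * s,
    mem_zpowers h (mul_mem (inv_mem hT) hs) fun a ha => ?_, by group⟩
  obtain ⟨j, hj⟩ := (mem_PsA h).1 ha
  rw [cX_mul hpE6 (inv_mem hT) hs, cX_inv hT, cX_mul hpE6 (mul_mem b0 b1) b2, cX_mul hpE6 b0 b1, c0 j a hj, c1 j a hj,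
    c2 j a hj]
  have hne := (isMC_cX hpE6 hs).ne_zero a
  fin_cases j <;> simp [hne]

/-- the centre of the connected centralizer -/
theorem cent_MJ (h : StdA ζ t) {c : YY chevE6 r} (hc : c * t = t * c) (h1 : ∀ j, ∀ y ∈ MJ r j, c * y = y * c) :
    c ∈ Subgroup.zpowers t := by
  have h2 : Mz hpE6 r {t} ≤ Subgroup.centralizer {c} := Mz_le fun a ha y hy => by
    obtain ⟨j, hj⟩ := (mem_PsA h).1 ha
    exact Subgroup.mem_centralizer_singleton_iff.2 (h1 j y (RGD.le_Sup hj hy)).symm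
  have h3 : c ∈ TT chevE6 (KK r) := mem_T_of_comm hpE6 fun s hs => by
    obtain ⟨m, hm, u, ⟨i, rfl⟩, rfl⟩ := T_split h hs
    have e1 : Commute c m := (Subgroup.mem_centralizer_singleton_iff.1 (h2 hm)).symm
    exact (e1.mul_right (Commute.zpow_right hc i)).eq
  refine mem_zpowers h h3 fun a ha => ?_
  obtain ⟨j, hj⟩ := (mem_PsA h).1 ha
  exact cX_of_comm h3 (h1 j) hj

/-! ### the rotation -/

/-- `v` rotates the extended diagram in the positive sense -/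
def Rot1 (v : CoxeterMatrix.E₆.Group) : Prop :=
  ∀ i, rep CoxeterMatrix.E₆.toCoxeterSystem hpE6.isCartan v (al chevE6 6 i) = al chevE6 6 (rho i)

theorem Rot1.unique {v v' : CoxeterMatrix.E₆.Group} (h : Rot1 v) (h' : Rot1 v') : v' = v := by
  have h1 : ∀ i, rep CoxeterMatrix.E₆.toCoxeterSystem hpE6.isCartan (v⁻¹ * v') (al chevE6 6 i) =
      al chevE6 6 ((1 : Equiv.Perm (Option (Fin 6))) i) := fun i => by
    rw [rep_mul_apply, h', ← h, rep_inv_apply]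
    rfl
  exact (inv_mul_eq_one.1 (eq_one_of_none hpE6 h1 (h1 none))).symm

theorem Rot1.ev {v : CoxeterMatrix.E₆.Group} (h : Rot1 v) (j i : Fin 3) :
    rep CoxeterMatrix.E₆.toCoxeterSystem hpE6.isCartan v (ev6 j i) = ev6 (j + 1) i := by
  obtain ⟨a0, a1, a2, b0, b1, b2, c⟩ := ev6_al
  have a0' : ev6 0 0 = al chevE6 6 none := funext a0
  have a1' : ev6 1 0 = al chevE6 6 (some 0) := funext a1
  have a2' : ev6 2 0 = al chevE6 6 (some 5) := funext a2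
  have b0' : ev6 0 2 = -al chevE6 6 (some 1) := funext b0
  have b1' : ev6 1 2 = -al chevE6 6 (some 2) := funext b1
  have b2' : ev6 2 2 = -al chevE6 6 (some 4) := funext b2
  have c' : ∀ j, ev6 j 1 = 0 := fun j => funext (c j)
  fin_cases i
  · fin_cases j
    · exact a0' ▸ a1' ▸ h none
    · exact a1' ▸ a2' ▸ h (some 0)
    · exact a2' ▸ a0' ▸ h (some 5)
  · show rep _ _ v (ev6 j 1) = ev6 (j + 1) 1
    rw [c', c', map_zero]
  · fin_cases j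
    · show rep _ _ v (ev6 0 2) = ev6 1 2
      rw [b0', b1', map_neg, h]
      rfl
    · show rep _ _ v (ev6 1 2) = ev6 2 2
      rw [b1', b2', map_neg, h]
      rfl
    · show rep _ _ v (ev6 2 2) = ev6 0 2
      rw [b2', b0', map_neg, h]
      rfl

/-- `b` rotates the components in the positive sense -/
def R1 (t b : YY chevE6 r) : Prop :=
  ∃ m ∈ Mz hpE6 r {t}, ∃ (v : CoxeterMatrix.E₆.Group) (k : YY chevE6 r), RP hpE6 r v k ∧ Rot1 v ∧ k * t = t * k ∧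
    b = m * k

theorem r1_or (hr3 : r ≠ 3) (h : StdA ζ t) {b : YY chevE6 r} (hb : b * t = t * b) (hn : b ∉ DZ hpE6 r {t}) :
    R1 t b ∨ R1 t b⁻¹ := by
  have hZ : ({t} : Set (YY chevE6 r)) ⊆ TT chevE6 (KK r) := Set.singleton_subset_iff.2 h.2.1
  obtain ⟨m, hm, v, k, hk, hv, rfl⟩ := boxTY2 r hr3 ζ t (Or.inl h) b hb hn
  have h1 : Commute m t := Mz_comm hZ hm rfl
  have h2 : Commute k t := by
    have e : k = m⁻¹ * (m * k) := by group
    rw [e]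
    exact h1.inv_left.mul_left hb
  rcases hv with hv | hv
  · exact Or.inl ⟨m, hm, v, k, hk, hv, h2, rfl⟩
  · refine Or.inr ⟨k⁻¹ * m⁻¹ * k⁻¹⁻¹, hk.inv.conj_Mz hZ (fun s hs => by rw [hs]; exact h2.inv_left) (inv_mem hm), v⁻¹,
      k⁻¹, hk.inv, fun i => by rw [← hv i, rep_inv_apply], h2.inv_left, by group⟩

theorem R1.comm (h : StdA ζ t) {b : YY chevE6 r} (hb : R1 t b) : b * t = t * b := by
  obtain ⟨m, hm, v, k, -, -, h2, rfl⟩ := hb
  exact Commute.mul_left (Mz_comm (Set.singleton_subset_iff.2 h.2.1) hm rfl) h2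

theorem R1.div {b c : YY chevE6 r} (hb : R1 t b) (hc : R1 t c) : c * b⁻¹ ∈ DZ hpE6 r {t} := by
  obtain ⟨m, hm, v, k, hk, hv, -, rfl⟩ := hb
  obtain ⟨m', hm', v', k', hk', hv', -, rfl⟩ := hc
  have h1 := hk'.mul hk.inv
  rw [hv.unique hv', mul_inv_cancel] at h1
  have e : m' * k' * (m * k)⁻¹ = m' * (k' * k⁻¹) * m⁻¹ := by group
  rw [e]
  exact mul_mem (mul_mem (Mz_le_DZ hm') (T_le_DZ h1.mem_T)) (Mz_le_DZ (inv_mem hm))

theorem RP_MJ {v : CoxeterMatrix.E₆.Group} {k : YY chevE6 r} (hk : RP hpE6 r v k) (hv : Rot1 v) (j : Fin 3)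
    (y : YY chevE6 r) : k * y * k⁻¹ ∈ MJ r (j + 1) ↔ y ∈ MJ r j := by
  refine hk.fr.mem_Sup (fun _ => root6 j) (fun a => ⟨?_, ?_⟩) y
  · rintro ⟨i, i', h1, e⟩
    refine ⟨i, i', h1, (repAut CoxeterMatrix.E₆.toCoxeterSystem hpE6.isCartan v).injective ?_⟩
    rw [e, repAut_apply, map_sub, hv.ev, hv.ev]
  · rintro ⟨i, i', h1, rfl⟩
    exact ⟨i, i', h1, by rw [repAut_apply, map_sub, hv.ev, hv.ev]⟩

theorem R1.conj (h : StdA ζ t) {b : YY chevE6 r} (hb : R1 t b) (j : Fin 3) (y : YY chevE6 r) :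
    b * y * b⁻¹ ∈ MJ r (j + 1) ↔ y ∈ MJ r j := by
  obtain ⟨m, hm, v, k, hk, hv, -, rfl⟩ := hb
  rw [← RP_MJ hk hv j y]
  have e : m * k * y * (m * k)⁻¹ = m * (k * y * k⁻¹) * m⁻¹ := by group
  rw [e]
  refine ⟨fun h1 => ?_, DZ_conj h (Mz_le_DZ hm)⟩
  have h2 := DZ_conj h (Mz_le_DZ (inv_mem hm)) h1
  have e2 : m⁻¹ * (m * (k * y * k⁻¹) * m⁻¹) * m⁻¹⁻¹ = k * y * k⁻¹ := by group
  rwa [e2] at h2

/-- the cosets of the connected centralizer -/
theorem R1.coset (hr3 : r ≠ 3) (h : StdA ζ t) {b c : YY chevE6 r} (hb : R1 t b) (hc : c * t = t * c) :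
    c ∈ DZ hpE6 r {t} ∨ c * b⁻¹ ∈ DZ hpE6 r {t} ∨ c * b ∈ DZ hpE6 r {t} := by
  by_cases h1 : c ∈ DZ hpE6 r {t}
  · exact Or.inl h1
  rcases r1_or hr3 h hc h1 with h2 | h2
  · exact Or.inr (Or.inl (hb.div h2))
  · refine Or.inr (Or.inr ?_)
    have h3 := conj_mem_DZ (Set.finite_singleton t) (Set.singleton_subset_iff.2 h.2.1) (c := c)
      (fun s hs => by rw [hs, hc]) (inv_mem (hb.div h2))
    have e : c * (c⁻¹ * b⁻¹)⁻¹ * c⁻¹ = c * b := by group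
    rwa [e] at h3

end AA

end Cfsg.Agent.BHZ.Exc
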