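import Cfsg.Agent.BHZ.Exc.AL

/-!
# S4806, exceptional groups, type `A₂³`: `boxC1` (helper34)
-/

set_option autoImplicit false
set_option linter.unusedSectionVars false
set_option maxRecDepth 100000

namespace Cfsg.Agent.BHZ.Exc

open CoxeterSystem Cfsg Cfsg.Lie Cfsg.Lie.ChevalleyDatum
open Cfsg.Agent.ChevalleyStructure Cfsg.Agent.ChevalleyStructure.Elts Cfsg.Agent.ChevalleyStructure.CoxeterGeom
  Cfsg.Agent.ChevalleyStructure.CoxeterGeomTypes
open Cfsg.Agent.Tits.Roots Cfsg.Agent.Tits.Core Cfsg.Agent.Nodes Cfsg.Agent.Nodes.Reps Cfsg.Agent.Nodes.BNOf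
  Cfsg.Agent.Nodes.RGDChev Cfsg.Agent.Nodes.Bruhat
open Cfsg.Agent.KFacts.RgdField Cfsg.Agent.KFacts.RgdChevCoord
open Cfsg.Agent.BpExc Cfsg.Agent.BpExc.TorCent Cfsg.Agent.BpExc.TorChev Cfsg.Agent.BpExc.Tow
  Cfsg.Agent.BpExc.TowChev Cfsg.Agent.BpExc.Fr Cfsg.Agent.BpExc.LangFr
open Cfsg.Agent.H469.Exc Cfsg.Agent.H795.SetCent Cfsg.Agent.H129.TorusChar Cfsg.Agent.DS.Ex Cfsg.Agent.DS.Nt
open Cfsg.Agent.H46.Gen (AFr Rt xf)
open Cfsg.Agent.H321.Ker (cj stG stm sc)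
open Cfsg.Agent.H931.KC (al)
open Cfsg.Agent.H665.NoPQ (HasDZ)
open scoped MatrixGroups
open Matrix.SpecialLinearGroup (transvection)

namespace AA

open Cfsg.Agent.H321.Ker (toGL_inj')
open Matrix.SpecialLinearGroup (toGL)

variable {r : ℕ} [Fact r.Prime] {L : Type} [Group L] {θ : L →* YY chevE6 r} {c : ℕ} {X : Type} [Group X]
  {Q : Subgroup X}

/-- the components of the elements of `Q` in the connected centralizer -/
def PQ (G : GS hpE6 3 c θ X Q) (t : YY chevE6 r) (φ : S3 r →* YY chevE6 r) : Subgroup (S3 r) where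
  carrier := {g | ∃ d ∈ Q, G.π d ∈ DZ hpE6 r {t} ∧ Act φ (G.π d) g}
  one_mem' := ⟨1, one_mem _, by rw [map_one]; exact one_mem _, by rw [map_one]; exact act_one⟩
  mul_mem' := by
    rintro g g' ⟨d, h1, h2, h3⟩ ⟨d', h1', h2', h3'⟩
    exact ⟨d * d', mul_mem h1 h1', by rw [map_mul]; exact mul_mem h2 h2', by rw [map_mul]; exact h3.mul h3'⟩
  inv_mem' := by
    rintro g ⟨d, h1, h2, h3⟩
    exact ⟨d⁻¹, inv_mem h1, by rw [map_inv]; exact inv_mem h2, by rw [map_inv]; exact h3.inv⟩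

theorem c1_core (hTA : BoxTA) (hr3 : r ≠ 3) (C : Cov0 3 θ) (G : GS hpE6 3 c θ X Q) (hF : G.Full) (hZ : G.ZK)
    {a b : X} (ha : a ∈ Q) (hb : b ∈ Q) {ζ : KK r} {φ : S3 r →* YY chevE6 r} (A : AS ζ (G.π a) (G.π b) φ)
    (hQ : ∀ d ∈ Q, G.π d * G.π a = G.π a * G.π d) {d : X} (hd : d ∈ Q) (hD : G.π d ∈ DZ hpE6 r {G.π a}) :
    G.π d ∈ Subgroup.zpowers (G.π a) := by
  have := Fact.mk Nat.prime_three
  obtain ⟨φ', hl⟩ := A.exists_lift hr3 C
  obtain ⟨B, hB⟩ := C.surj (G.π b)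
  have T' := A.tri.lift C hl hB A.b3
  obtain ⟨k, Dm, uni, hσ⟩ := A.sig G.frob G.fr (G.fixπ a)
  have hτ := stm_surj (r := r) G.e Dm uni
  have hδ := sig_lift T' C hl hB G.lift (G.fixπ b) hσ
  -- the group `P` is abelian
  have hP : ∀ g ∈ PQ G (G.π a) φ, ∀ g' ∈ PQ G (G.π a) φ, g * g' = g' * g := by
    rintro g ⟨x, h1, h2, h3⟩ g' ⟨x', h1', h2', h3'⟩
    refine toGL_inj' ?_
    rw [map_mul, map_mul]
    exact hTA chevE6 6 _ hpE6 r 3 c (by norm_num) hr3.symm L θ C X Q G a ha A.std.2.1 2 (ev6 0) (afr6 0) le_rfl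
      (fun _ => rfl) (comp6 A.std 0) φ A.fr x h1 x' h1' h2 h2' _ _ (fun m => by rw [cj_toGL]; exact h3 m)
      (fun m => by rw [cj_toGL]; exact h3' m)
  -- the three components
  have h3c : ∀ x ∈ Q, G.π x ∈ DZ hpE6 r {G.π a} → ∃ g0 ∈ PQ G (G.π a) φ, ∃ g1 ∈ PQ G (G.π a) φ,
      ∃ g2 ∈ PQ G (G.π a) φ, Act φ (G.π x) g0 ∧ Act φ ((G.π b)⁻¹ * G.π x * G.π b) g1 ∧
        Act φ (G.π b * G.π x * (G.π b)⁻¹) g2 := fun x hx hxD => by
    obtain ⟨g0, a0⟩ := A.inner hxD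
    obtain ⟨g1, a1⟩ := A.inner (A.conj1 hxD)
    obtain ⟨g2, a2⟩ := A.inner (A.conj2 hxD)
    refine ⟨g0, ⟨x, hx, hxD, a0⟩, g1, ⟨b⁻¹ * x * b, mul_mem (mul_mem (inv_mem hb) hx) hb, ?_, ?_⟩, g2,
      ⟨b * x * b⁻¹, mul_mem (mul_mem hb hx) (inv_mem hb), ?_, ?_⟩, a0, a1, a2⟩
    · rw [map_mul, map_mul, map_inv]
      exact A.conj1 hxD
    · rw [map_mul, map_mul, map_inv]
      exact a1
    · rw [map_mul, map_mul, map_inv]
      exact A.conj2 hxD
    · rw [map_mul, map_mul, map_inv]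
      exact a2
  have hstep : ∀ x g, Act φ (G.π x) g → Act φ (G.π ((b ^ k)⁻¹ * x * b ^ k)) (stm r G.e Dm uni g) := fun x g h => by
    rw [map_mul, map_mul, map_inv, map_pow]
    exact act_sig hτ hσ (G.fixπ x) h
  have hτP : ∀ g ∈ PQ G (G.π a) φ, stm r G.e Dm uni g ∈ PQ G (G.π a) φ := by
    rintro g ⟨x, h1, h2, h3⟩
    refine ⟨_, mul_mem (mul_mem (inv_mem (pow_mem hb k)) h1) (pow_mem hb k), ?_, hstep x g h3⟩
    have h4 := A.conjD (Commute.inv_left (Commute.pow_left A.bt k)).eq h2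
    rw [inv_inv] at h4
    rw [map_mul, map_mul, map_inv, map_pow]
    exact h4
  have hτ3 : ∀ g ∈ PQ G (G.π a) φ, T'.δ (stm r G.e Dm uni (stm r G.e Dm uni (stm r G.e Dm uni g))) = T'.δ g := by
    rintro g ⟨x, -, -, h3⟩
    have h4 := hstep _ _ (hstep _ _ (hstep x g h3))
    have e : G.π ((b ^ k)⁻¹ * ((b ^ k)⁻¹ * ((b ^ k)⁻¹ * x * b ^ k) * b ^ k) * b ^ k) = G.π x := by
      have e1 : G.π b ^ k * G.π b ^ k * G.π b ^ k = 1 := by
        rw [← pow_three', ← pow_mul, mul_comm, pow_mul, A.b3, one_pow]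
      simp only [map_mul, map_inv, map_pow]
      generalize G.π b ^ k = u at e1
      calc u⁻¹ * (u⁻¹ * (u⁻¹ * G.π x * u) * u) * u = (u * u * u)⁻¹ * G.π x * (u * u * u) := by group
        _ = _ := by rw [e1]; group
    rw [e] at h4
    have h5 := A.δ_center T' C hl hB (h3.unique A.ne h4)
    rw [map_mul, map_inv, inv_mul_eq_one] at h5
    exact h5.symm
  -- the diagonal is trivial on `P`
  have key : ∀ g ∈ PQ G (G.π a) φ, T'.δ g = 1 := by
    intro g hg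
    by_contra hne
    obtain ⟨n, hn⟩ : ∃ n : ℕ, T'.δ g ^ 3 ^ n = 1 := by
      obtain ⟨x, h1, -, h3⟩ := hg
      obtain ⟨n, hn⟩ := G.pelt_π h1
      refine ⟨n, ?_⟩
      rw [← map_pow]
      exact A.δ_center T' C hl hB ((h3.pow _).center A.ne fun m => by rw [hn, one_mul, mul_one])
    obtain ⟨v, ⟨g', hg', rfl⟩, hv1, hv3, hv⟩ := exists_fixed (H := (PQ G (G.π a) φ).map T'.δ) (f := G.σL.toMonoidHom)
      (by
        rintro _ ⟨x, hx, rfl⟩ _ ⟨y, hy, rfl⟩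
        rw [← map_mul, ← map_mul, hP x hx y hy])
      (by
        rintro _ ⟨x, hx, rfl⟩
        exact ⟨_, hτP x hx, (hδ x).symm⟩)
      (by
        rintro _ ⟨x, hx, rfl⟩
        show G.σL (G.σL (G.σL (T'.δ x))) = _
        rw [hδ, hδ, hδ, hτ3 x hx])
      ⟨g, hg, rfl⟩ hne hn
    have hc0 : ∀ x : L, ∀ y ∈ Q, θ x = G.π y → G.π y ∈ DZ hpE6 r {G.π a} → Commute x (T'.δ g') := by
      intro x y hy e hyD
      obtain ⟨g0, p0, g1, p1, g2, p2, a0, a1, a2⟩ := h3c y hy hyD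
      refine T'.comm_δ (act_lift C hl ?_) (act_lift C hl ?_) (act_lift C hl ?_) (hP _ p0 _ hg') (hP _ p1 _ hg')
        (hP _ p2 _ hg')
      · rw [e]
        exact a0
      · rw [map_mul, map_mul, map_inv, e, hB]
        exact a1
      · rw [map_mul, map_mul, map_inv, e, hB]
        exact a2
    have hBv : Commute B (T'.δ g') := T'.b_δ g'
    have hc : ∀ x ∈ G.Dh, x * T'.δ g' = T'.δ g' * x := by
      rintro x ⟨y, hy, e⟩
      have e' : θ x = G.π y := e.symm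
      rcases A.r1.coset hr3 A.std (hQ y hy) with h | h | h
      · exact hc0 x y hy e' h
      · have h1 := (hc0 (x * B⁻¹) (y * b⁻¹) (mul_mem hy (inv_mem hb))
          (by rw [map_mul, map_mul, map_inv, map_inv, e', hB]) (by rw [map_mul, map_inv]; exact h)).mul_left hBv
        rw [inv_mul_cancel_right] at h1
        exact h1
      · have h1 := (hc0 (x * B) (y * b) (mul_mem hy hb) (by rw [map_mul, map_mul, e', hB])
          (by rw [map_mul]; exact h)).mul_left hBv.inv_left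
        rw [mul_inv_cancel_right] at h1
        exact h1
    have hmem : T'.δ g' ∈ G.Dh := by
      refine G.mem_Dh_of_cent C (hF _ hv) (n := 1) (by rw [pow_one]; exact hv3) hc fun y hy hy3 => ?_
      have hcop : Nat.Coprime 3 (orderOf y) := (Nat.Prime.coprime_iff_not_dvd Nat.prime_three).2 hy3
      have hyo : G.π y ^ orderOf y = 1 := by rw [← map_pow, pow_orderOf_eq_one, map_one]
      have hyc : ∀ x ∈ Q, G.π y * G.π x = G.π x * G.π y := fun x hx => by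
        rw [← map_mul, ← map_mul, Subgroup.mem_centralizer_iff.1 hy x hx]
      have hyD : G.π y ∈ DZ hpE6 r {G.π a} := mem_DZ_of_coprime (Set.finite_singleton _)
        (Set.singleton_subset_iff.2 A.std.2.1) Nat.prime_three
        (fun s hs => ⟨1, by rw [hs, pow_one]; exact A.std.pow3⟩) (fun s hs => by rw [hs]; exact hyc a ha) hcop hyo
      obtain ⟨h, hh⟩ := A.inner hyD
      obtain ⟨x, h1, -, h3⟩ := hg'
      have h4 := comm_of_act A.ne hh h3 (hyc x h1) hyo hcop.symm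
      rw [θ_δ A.tri T' hl hB]
      refine A.tri.comm_δ hh ?_ ?_ h4 h4 h4
      · rw [mul_assoc, hyc b hb, inv_mul_cancel_left]
        exact hh
      · rw [← hyc b hb, mul_inv_cancel_right]
        exact hh
    have h6 := hZ _ hmem fun y hy => (hc y hy).symm
    rw [θ_δ A.tri T' hl hB] at h6
    exact hv1 (A.δ_center T' C hl hB (A.center_of_δ h6))
  have key2 : ∀ g ∈ PQ G (G.π a) φ, g ∈ Subgroup.center (S3 r) := fun g hg =>
    A.center_of_δ (by rw [← θ_δ A.tri T' hl hB, key g hg, map_one])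
  obtain ⟨g0, p0, g1, p1, g2, p2, a0, a1, a2⟩ := h3c d hd hD
  exact A.cent (hQ d hd) a0 a1 a2 (key2 _ p0) (key2 _ p1) (key2 _ p2)

end AA

open AA

/-- **[C1]** -/
theorem boxC1 (hTA : BoxTA) : BoxC1 := by
  intro r _ hr3 L _ θ z C c X _ Q G hF hZ a ha b hb ζ hs hQ hn h3 _ d hd hD
  rcases r1_or hr3 hs (hQ b hb) hn with h | h
  · obtain ⟨φ, A⟩ := exists_AS hs h h3
    exact c1_core hTA hr3 C.toCov.toCov0 G hF hZ ha hb A hQ hd hD
  · rw [← map_inv] at h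
    obtain ⟨φ, A⟩ := exists_AS hs h (by rw [map_inv, inv_pow, h3, inv_one])
    exact c1_core hTA hr3 C.toCov.toCov0 G hF hZ ha (inv_mem hb) A hQ hd hD

end Cfsg.Agent.BHZ.Exc
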