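import Cfsg.Agent.BHZ.Exc.AL

/-!
# S4806, exceptional groups, type `A₂³`: `boxCC` (helper34)
-/

set_option autoImplicit false
set_option linter.unusedSectionVars false
set_option maxRecDepth 100000

namespace Cfsg.Agent.BHZ.Exc

open CoxeterSystem Cfsg Cfsg.Lie Cfsg.Lie.ChevalleyDatum
open Cfsg.Agent.ChevalleyStructure Cfsg.Agent.ChevalleyStructure.Elts Cfsg.Agent.ChevalleyStructure.CoxeterGeom
  Cfsg.Agent.ChevalleyStructure.CoxeterGeomTypes
open Cfsg.Agent.Tits.Roots Cfsg.Agent.Tits.Core Cfsg.Agent.Nodes Cfsg.Agent.Nodes.Reps Cfsg.Agent.Nodes.BNOf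
  Cfsg.Agent.Nodes.RGDChev Cfsg.Agent.Nodes.Bruhat
open Cfsg.Agent.KFacts.RgdField Cfsg.Agent.KFacts.RgdChevCoord
open Cfsg.Agent.BpExc Cfsg.Agent.BpExc.TorCent Cfsg.Agent.BpExc.TorChev Cfsg.Agent.BpExc.Tow
  Cfsg.Agent.BpExc.TowChev Cfsg.Agent.BpExc.Fr Cfsg.Agent.BpExc.LangFr
open Cfsg.Agent.H469.Exc Cfsg.Agent.H795.SetCent Cfsg.Agent.H129.TorusChar Cfsg.Agent.DS.Ex Cfsg.Agent.DS.Nt
open Cfsg.Agent.H46.Gen (AFr Rt xf)
open Cfsg.Agent.H321.Ker (cj stG stm sc)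
open Cfsg.Agent.H931.KC (al)
open Cfsg.Agent.H665.NoPQ (HasDZ)
open scoped MatrixGroups
open Matrix.SpecialLinearGroup (transvection)

namespace AA

open Cfsg.Agent.H321.Ker (toGL_inj' toGL_stm stG_eq_sc sc_comm sc_mem sc_one mem_scalars_iff_sc)
open Matrix.SpecialLinearGroup (toGL)

variable {r : ℕ} [Fact r.Prime] {L : Type} [Group L] {θ : L →* YY chevE6 r} {c : ℕ} {X : Type} [Group X]
  {Q : Subgroup X}

theorem cc_core (hND : BoxND) (hr3 : r ≠ 3) (C : Cov hpE6 3 θ) (G : GS hpE6 3 c θ X Q) (hF : G.Full) (hZ : G.ZK)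
    {a b : X} (ha : a ∈ Q) (hb : b ∈ Q) {ζ : KK r} {φ : S3 r →* YY chevE6 r} (A : AS ζ (G.π a) (G.π b) φ)
    {a' B : L} (ha' : θ a' = G.π a) (hB : θ B = G.π b)
    (hC : ∀ y : L, y * a' = a' * y → y * B = B * y → ∀ x ∈ G.Dh, y * x = x * y) : False := by
  have C0 := C.toCov0
  obtain ⟨φ', hl⟩ := A.exists_lift hr3 C0
  have T' := A.tri.lift C0 hl hB A.b3
  obtain ⟨k, Dm, uni, hσ⟩ := A.sig G.frob G.fr (G.fixπ a)
  have hτ := stm_surj (r := r) G.e Dm uni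
  have hδ := sig_lift T' C0 hl hB G.lift (G.fixπ b) hσ
  obtain ⟨Δ, hΔ⟩ := exists_ext T'.δ fun g hg => A.δ_center T' C0 hl hB hg
  have hΔσ : ∀ x, G.σL (Δ x) = Δ (stG r G.e Dm uni x) := fun x => by
    obtain ⟨g, z, rfl⟩ := exists_decomp x
    obtain ⟨w, hw⟩ := stG_sc (r := r) G.e Dm uni z
    rw [map_mul (stG r G.e Dm uni), hw, ← toGL_stm, hΔ, hΔ, hδ]
  have hθ : ∀ x, θ (Δ x) = 1 → x ∈ Geo.scalars (Fin 3) (KK r) := fun x h => by
    obtain ⟨g, z, rfl⟩ := exists_decomp x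
    rw [hΔ, θ_δ A.tri T' hl hB] at h
    exact mul_mem (center_iff.1 (A.center_of_δ h)) (sc_mem z)
  have hsc : ∀ x ∈ Geo.scalars (Fin 3) (KK r), Δ x = 1 := fun x hx => by
    obtain ⟨z, rfl⟩ := mem_scalars_iff_sc.1 hx
    have h := hΔ 1 z
    rw [map_one, one_mul, map_one] at h
    exact h
  have hDh : ∀ x, ∀ y ∈ G.Dh, Δ x * y = y * Δ x := fun x => by
    obtain ⟨g, z, rfl⟩ := exists_decomp x
    rw [hΔ]
    refine hC _ ?_ (T'.b_δ g).symm
    refine comm_of_DZ_one C ((Nat.coprime_primes Fact.out Nat.prime_three).2 hr3) (by rw [ha']; exact A.std.2.1) ?_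
    rw [ha', θ_δ A.tri T' hl hB]
    exact A.tri_mem g g g
  -- the homomorphism to `X`
  have hL0 : ∀ x : (stG r G.e Dm uni).eqLocus (MonoidHom.id _), Δ x ∈ G.L0 := fun x => hF _ (by
    have h : stG r G.e Dm uni x = x := x.2
    rw [hΔσ, h])
  let f : (stG r G.e Dm uni).eqLocus (MonoidHom.id _) →* X :=
    G.ψ.comp ((Δ.comp (Subgroup.subtype _)).codRestrict G.L0 hL0)
  have hf : ∀ x, f x = G.ψ ⟨Δ x, hL0 x⟩ := fun _ => rfl
  have hπf : ∀ x, G.π (f x) = θ (Δ x) := fun x => by rw [hf, G.πψ]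
  have hker : ∀ x, f x = 1 ↔ (x : GL (Fin 3) (KK r)) ∈ Geo.scalars (Fin 3) (KK r) := fun x => by
    refine ⟨fun h => hθ _ (by rw [← hπf, h, map_one]), fun h => ?_⟩
    rw [hf, show (⟨Δ x, hL0 x⟩ : G.L0) = 1 from Subtype.ext (hsc _ h), map_one]
  have hN1 : f.range ≤ Subgroup.centralizer (Q : Set X) := by
    rintro _ ⟨x, rfl⟩
    refine Subgroup.mem_centralizer_iff.2 fun d hd => ?_
    obtain ⟨y, hy⟩ := C0.surj (G.π d)
    exact G.comm_ψ hy (hDh x y (G.mem_Dh_of hd hy)).symm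
  have hN3 : f.range ⊓ Q = ⊥ := by
    rw [eq_bot_iff]
    rintro _ ⟨⟨x, rfl⟩, hx⟩
    exact (hker x).2 (hθ _ (hZ _ (G.mem_Dh_of hx (hπf x).symm) (hDh x)))
  have hconj0 : ∀ y : X, G.π y ∈ DZ hpE6 r {G.π a} → G.π y * G.π b = G.π b * G.π y → ∀ n ∈ f.range,
      y * n * y⁻¹ ∈ f.range := by
    rintro y hy hyb _ ⟨x, rfl⟩
    obtain ⟨h, hh⟩ := A.inner hy
    obtain ⟨u, hu⟩ := C0.surj (G.π y)
    have e1 : (G.π b)⁻¹ * G.π y * G.π b = G.π y := by rw [mul_assoc, hyb, inv_mul_cancel_left]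
    have e2 : G.π b * G.π y * (G.π b)⁻¹ = G.π y := by rw [← hyb, mul_inv_cancel_right]
    have a1 : Act T'.δ u h := T'.act_δ (act_lift C0 hl (by rw [hu]; exact hh))
      (act_lift C0 hl (by rw [map_mul, map_mul, map_inv, hu, hB, e1]; exact hh))
      (act_lift C0 hl (by rw [map_mul, map_mul, map_inv, hu, hB, e2]; exact hh))
    have a2 := act_sig hτ hσ (G.fixπ y) hh
    have e3 : (G.π b ^ k)⁻¹ * G.π y * G.π b ^ k = G.π y := by
      rw [mul_assoc, (Commute.pow_right hyb k).eq, inv_mul_cancel_left]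
    rw [e3] at a2
    obtain ⟨w, hw⟩ := mem_scalars_iff_sc.1 (center_iff.1 (hh.unique A.ne a2))
    rw [map_mul, map_inv, toGL_stm, inv_mul_eq_iff_eq_mul] at hw
    have hx : stG r G.e Dm uni x = x := x.2
    have hx' : toGL h * x * (toGL h)⁻¹ ∈ (stG r G.e Dm uni).eqLocus (MonoidHom.id _) := by
      show stG r G.e Dm uni _ = toGL h * x * (toGL h)⁻¹
      rw [map_mul, map_mul, map_inv, hw, hx, mul_assoc (toGL h), sc_comm]
      group
    obtain ⟨h1, h2⟩ := G.eqv y u hu ⟨Δ x, hL0 x⟩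
    refine ⟨⟨_, hx'⟩, ?_⟩
    rw [hf, hf, ← h2]
    congr 1
    refine Subtype.ext ?_
    show Δ (toGL h * x * (toGL h)⁻¹) = u * Δ x * u⁻¹
    obtain ⟨g, z, e⟩ := exists_decomp (x : GL (Fin 3) (KK r))
    have e4 : toGL h * (toGL g * sc 3 z) * (toGL h)⁻¹ = toGL (h * g * h⁻¹) * sc 3 z := by
      rw [map_mul, map_mul, map_inv, mul_assoc (toGL h * toGL g), ← sc_comm z (toGL h)⁻¹]
      group
    rw [e, e4, hΔ, hΔ, a1]
  have hbN : ∀ n ∈ f.range, n * b = b * n := fun n hn => (Subgroup.mem_centralizer_iff.1 (hN1 hn) b hb).symm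
  have hconj : ∀ y ∈ Subgroup.centralizer (Q : Set X), ∀ n ∈ f.range, y * n * y⁻¹ ∈ f.range := by
    intro y hy n hn
    have hyc : ∀ x ∈ Q, G.π y * G.π x = G.π x * G.π y := fun x hx => by
      rw [← map_mul, ← map_mul, Subgroup.mem_centralizer_iff.1 hy x hx]
    have hyb : Commute (G.π y) (G.π b) := hyc b hb
    rcases A.r1.coset hr3 A.std (hyc a ha) with h | h | h
    · exact hconj0 y h hyb n hn
    · have h1 := hconj0 (y * b⁻¹) (by rw [map_mul, map_inv]; exact h)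
        (by rw [map_mul, map_inv]; exact (hyb.mul_left (Commute.refl _).inv_left).eq) n hn
      have e : y * b⁻¹ * n * (y * b⁻¹)⁻¹ = y * n * y⁻¹ := by
        calc y * b⁻¹ * n * (y * b⁻¹)⁻¹ = y * b⁻¹ * (n * b) * y⁻¹ := by group
          _ = _ := by rw [hbN n hn]; group
      rw [e] at h1
      exact h1
    · have h1 := hconj0 (y * b) (by rw [map_mul]; exact h)
        (by rw [map_mul]; exact (hyb.mul_left (Commute.refl _)).eq) n hn
      have e : y * b * n * (y * b)⁻¹ = y * n * y⁻¹ := by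
        calc y * b * n * (y * b)⁻¹ = y * (b * n) * b⁻¹ * y⁻¹ := by group
          _ = _ := by rw [← hbN n hn]; group
      rw [e] at h1
      exact h1
  have hN2 : Subgroup.centralizer (Q : Set X) ≤ Subgroup.normalizer (f.range : Set X) := fun y hy =>
    Subgroup.mem_normalizer_iff.2 fun n => ⟨hconj y hy n, fun h => by
      have h1 := hconj y⁻¹ (inv_mem hy) _ h
      have e : y⁻¹ * (y * n * y⁻¹) * y⁻¹⁻¹ = n := by group
      rw [e] at h1
      exact h1⟩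
  obtain ⟨N', _, _, f', h1, h2, h3, h4⟩ := G.loc.dz f.range hN1 hN2 hN3
  refine hND r hr3 G.e c G.he (G.hc le_rfl rfl) Dm uni ?_ f.range f.rangeRestrict f.rangeRestrict_surjective
    (fun x => ?_) N' f' h1 h2 h3 h4
  · obtain ⟨ω, g, h5, h6, h7⟩ := exists_omega hr3
    refine ⟨ω, h5, h6, ?_⟩
    obtain ⟨i, hi⟩ := A.center_mem (center_iff.2 (h7 ▸ sc_mem ω))
    have hi' : G.π a ^ i = φ g := hi
    have h8 := hσ g
    rw [← hi', map_zpow, G.fixπ] at h8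
    have h9 : φ (stm r G.e Dm uni g) = φ g := by
      have hc : Commute (G.π b ^ k) (G.π a ^ i) := (Commute.zpow_right A.bt i).pow_left k
      rw [← hi']
      calc φ (stm r G.e Dm uni g) = (G.π b ^ k)⁻¹ * (G.π b ^ k * φ (stm r G.e Dm uni g) * (G.π b ^ k)⁻¹) * G.π b ^ k := by
            group
        _ = _ := by rw [← h8, mul_assoc, ← hc.eq, inv_mul_cancel_left]
    rw [← h7, ← toGL_stm, A.inj h9]
  · rw [← hker]
    exact ⟨fun h => congrArg Subtype.val h, fun h => Subtype.ext h⟩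

end AA

open AA

/-- **[CC]** -/
theorem boxCC (hND : BoxND) : BoxCC := by
  intro r _ hr3 L _ θ z C c X _ Q G hF hZ a ha b hb ζ hs hab hn h3 a' b' ha' hb' hC
  rcases r1_or hr3 hs hab hn with h | h
  · obtain ⟨φ, A⟩ := exists_AS hs h h3
    exact cc_core hND hr3 C.toCov G hF hZ ha hb A ha' hb' hC
  · rw [← map_inv] at h
    obtain ⟨φ, A⟩ := exists_AS hs h (by rw [map_inv, inv_pow, h3, inv_one])
    refine cc_core hND hr3 C.toCov G hF hZ ha (inv_mem hb) A ha' (B := b'⁻¹) (by rw [map_inv, map_inv, hb'])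
      fun y h1 h2 => hC y h1 ?_
    have h4 := Commute.inv_right h2
    rw [inv_inv] at h4
    exact h4

end Cfsg.Agent.BHZ.Exc
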