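import Cfsg.Agent.BHZ.Exc.CovIR

/-!
# S4806, exceptional groups: tables of centralizers (helper56)
-/

set_option autoImplicit false
set_option maxRecDepth 100000

namespace Cfsg.Agent.BHZ.Exc.CovI

open Cfsg Cfsg.Lie Cfsg.Lie.ChevalleyDatum
open Cfsg.Agent.H931.KC (Kac hr)

/-- frames -/
def flE7x7 : List (ℤ × List (List ℤ)) := [
  (2, [[0, 0, 0, 0, 0, 0, 0], [-1, 0, 0, 0, 0, 0, 0], [-1, 0, -1, 0, 0, 0, 0], [-1, 0, -1, -1, 0, 0, 0], [-1, 0, -1, -1, -1, 0, 0], [-1, 0, -1, -1, -1, -1, 0], [-1, 0, -1, -1, -1, -1, -1]]),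
  (2, [[0, 0, 0, 0, 0, 0, 0], [0, 0, 0, 0, 0, -1, 0], [0, 0, 0, 0, -1, -1, 0], [0, 0, 0, -1, -1, -1, 0], [0, 0, -1, -1, -1, -1, 0], [-1, 0, -1, -1, -1, -1, 0], [1, 2, 2, 3, 2, 1, 1]])]

/-- the table -/
def tbE7x7 : List (Ent 7) := [
  ⟨[0, 0, 0, 0, 0, 0, 0], [], [some 0, some 1, some 2, some 3, some 4, some 5, some 6], [0, 0, 0, 0, 0, 0, 0], none⟩,
  ⟨[0, 0, 0, 0, 0, 0, 1], [], [some 0, some 1, some 2, some 3, some 4, some 5], [0, 0, 0, 0, 0, 0, 1], some 6⟩,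
  ⟨[0, 0, 0, 0, 0, 0, 2], [], [some 0, some 1, some 2, some 3, some 4, some 5], [0, 0, 0, 0, 0, 0, 1], some 6⟩,
  ⟨[0, 0, 0, 0, 0, 0, 3], [], [some 0, some 1, some 2, some 3, some 4, some 5], [0, 0, 0, 0, 0, 0, -1], some 6⟩,
  ⟨[0, 0, 0, 0, 0, 0, 4], [], [some 0, some 1, some 2, some 3, some 4, some 5], [0, 0, 0, 0, 0, 0, 1], some 6⟩,
  ⟨[0, 0, 0, 0, 0, 0, 5], [], [some 0, some 1, some 2, some 3, some 4, some 5], [0, 0, 0, 0, 0, 0, 1], some 6⟩,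
  ⟨[0, 0, 0, 0, 0, 0, 6], [], [some 0, some 1, some 2, some 3, some 4, some 5], [0, 0, 0, 0, 0, 0, 1], some 6⟩,
  ⟨[0, 0, 0, 0, 0, 0, 7], [], [some 0, some 1, some 2, some 3, some 4, some 5, none], [0, 0, 0, 0, 0, 0, 0], some 6⟩,
  ⟨[0, 0, 0, 0, 0, 1, 0], [], [some 0, some 1, some 2, some 3, some 4, some 6], [0, 0, 0, 0, 0, 1, 0], none⟩,
  ⟨[0, 0, 0, 0, 0, 1, 1], [], [some 0, some 1, some 2, some 3, some 4], [0, 0, 0, 0, 0, 3, -8], some 6⟩,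
  ⟨[0, 0, 0, 0, 0, 1, 2], [], [some 0, some 1, some 2, some 3, some 4], [0, 0, 0, 0, 0, -5, 18], some 6⟩,
  ⟨[0, 0, 0, 0, 0, 1, 3], [], [some 0, some 1, some 2, some 3, some 4], [0, 0, 0, 0, 0, 1, -4], some 6⟩,
  ⟨[0, 0, 0, 0, 0, 1, 4], [], [some 0, some 1, some 2, some 3, some 4], [0, 0, 0, 0, 0, -3, 10], some 6⟩,
  ⟨[0, 0, 0, 0, 0, 1, 5], [], [some 0, some 1, some 2, some 3, some 4, none], [0, 0, 0, 0, 0, 1, -2], some 6⟩,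
  ⟨[0, 0, 0, 0, 0, 2, 0], [], [some 0, some 1, some 2, some 3, some 4, some 6], [0, 0, 0, 0, 0, 1, 0], none⟩,
  ⟨[0, 0, 0, 0, 0, 2, 1], [], [some 0, some 1, some 2, some 3, some 4], [0, 0, 0, 0, 0, -1, 4], some 6⟩,
  ⟨[0, 0, 0, 0, 0, 2, 2], [], [some 0, some 1, some 2, some 3, some 4], [0, 0, 0, 0, 0, 3, -2], some 6⟩,
  ⟨[0, 0, 0, 0, 0, 2, 3], [], [some 0, some 1, some 2, some 3, some 4, none], [0, 0, 0, 0, 0, -1, 2], some 6⟩,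
  ⟨[0, 0, 0, 0, 0, 3, 0], [], [some 0, some 1, some 2, some 3, some 4, some 6], [0, 0, 0, 0, 0, 2, 0], none⟩,
  ⟨[0, 0, 0, 0, 0, 3, 1], [], [some 0, some 1, some 2, some 3, some 4, none], [0, 0, 0, 0, 0, 1, -2], some 6⟩,
  ⟨[0, 0, 0, 0, 1, 0, 0], [], [some 0, some 1, some 2, some 3, some 5, some 6], [0, 0, 0, 0, 1, 0, 0], none⟩,
  ⟨[0, 0, 0, 0, 1, 0, 1], [], [some 0, some 1, some 2, some 3, some 5], [0, 0, 0, 0, 6, 0, -14], some 6⟩,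
  ⟨[0, 0, 0, 0, 1, 0, 2], [], [some 0, some 1, some 2, some 3, some 5], [0, 0, 0, 0, -4, 0, 11], some 6⟩,
  ⟨[0, 0, 0, 0, 1, 0, 3], [], [some 0, some 1, some 2, some 3, some 5], [0, 0, 0, 0, -2, 0, 7], some 6⟩,
  ⟨[0, 0, 0, 0, 1, 0, 4], [], [some 0, some 1, some 2, some 3, none, some 5], [0, 0, 0, 0, -1, 0, 3], some 6⟩,
  ⟨[0, 0, 0, 0, 1, 1, 0], [], [some 0, some 1, some 2, some 3, some 6], [0, 0, 0, 0, -5, 2, 0], none⟩,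
  ⟨[0, 0, 0, 0, 1, 1, 1], [], [some 0, some 1, some 2, some 3], [0, 0, 0, 0, -8, -11, 43], some 6⟩,
  ⟨[0, 0, 0, 0, 1, 1, 2], [], [some 0, some 1, some 2, some 3, none], [0, 0, 0, 0, -2, -1, 8], some 6⟩,
  ⟨[0, 0, 0, 0, 1, 2, 0], [], [some 0, some 1, some 2, some 3, none, some 6], [0, 0, 0, 0, -2, 3, 0], some 5⟩,
  ⟨[0, 0, 0, 0, 2, 0, 0], [], [some 0, some 1, some 2, some 3, some 5, some 6], [0, 0, 0, 0, 1, 0, 0], none⟩,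
  ⟨[0, 0, 0, 0, 2, 0, 1], [], [some 0, some 1, some 2, some 3, none, some 5], [0, 0, 0, 0, 1, 0, -3], some 6⟩,
  ⟨[0, 0, 0, 1, 0, 0, 0], [], [some 0, some 2, some 1, some 4, some 5, some 6], [0, 0, 0, 1, 0, 0, 0], none⟩,
  ⟨[0, 0, 0, 1, 0, 0, 1], [], [some 0, some 2, some 1, some 4, some 5], [0, 0, 0, -3, 0, 0, 11], some 6⟩,
  ⟨[0, 0, 0, 1, 0, 0, 2], [], [some 0, some 2, some 1, some 4, some 5], [0, 0, 0, -4, 0, 0, 18], some 6⟩,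
  ⟨[0, 0, 0, 1, 0, 0, 3], [], [some 0, some 2, none, some 1, some 4, some 5], [0, 0, 0, -1, 0, 0, 4], some 6⟩,
  ⟨[0, 0, 0, 1, 0, 1, 0], [], [some 0, some 2, some 1, some 4, some 6], [0, 0, 0, 4, 0, 1, 0], none⟩,
  ⟨[0, 0, 0, 1, 0, 1, 1], [], [some 0, some 2, none, some 1, some 4], [0, 0, 0, -3, 0, 1, 10], some 6⟩,
  ⟨[0, 0, 0, 1, 1, 0, 0], [], [some 0, some 2, none, some 1, some 5, some 6], [0, 0, 0, -6, 8, 0, 0], some 4⟩,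
  ⟨[0, 0, 1, 0, 0, 0, 0], [], [some 0, some 1, some 3, some 4, some 5, some 6], [0, 0, 1, 0, 0, 0, 0], none⟩,
  ⟨[0, 0, 1, 0, 0, 0, 1], [], [some 0, some 1, some 3, some 4, some 5], [0, 0, -1, 0, 0, 0, 7], some 6⟩,
  ⟨[0, 0, 1, 0, 0, 0, 2], [], [some 0, some 1, some 3, some 4, some 5], [0, 0, -1, 0, 0, 0, 6], some 6⟩,
  ⟨[0, 0, 1, 0, 0, 0, 3], [], [some 0, some 1, some 3, some 4, some 5], [0, 0, 4, 0, 0, 0, -15], some 6⟩,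
  ⟨[0, 0, 1, 0, 0, 0, 4], [], [some 0, none, some 1, some 3, some 4, some 5], [0, 0, -1, 0, 0, 0, 3], some 6⟩,
  ⟨[0, 0, 1, 0, 0, 1, 0], [], [some 0, some 1, some 3, some 4, some 6], [0, 0, 3, 0, 0, 1, 0], none⟩,
  ⟨[0, 0, 1, 0, 0, 1, 1], [], [some 0, some 1, some 3, some 4], [0, 0, 6, 0, 0, 3, -25], some 6⟩,
  ⟨[0, 0, 1, 0, 0, 1, 2], [], [some 0, none, some 1, some 3, some 4], [0, 0, 5, 0, 0, -3, -9], some 6⟩,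
  ⟨[0, 0, 1, 0, 0, 2, 0], [], [some 0, none, some 1, some 3, some 4, some 6], [0, 0, -2, 0, 0, 3, 0], some 5⟩,
  ⟨[0, 0, 1, 0, 1, 0, 0], [], [some 0, some 1, some 3, some 5, some 6], [0, 0, 4, 0, -5, 0, 0], none⟩,
  ⟨[0, 0, 1, 0, 1, 0, 1], [], [some 0, none, some 1, some 3, some 5], [0, 0, 2, 0, 5, 0, -21], some 6⟩,
  ⟨[0, 0, 1, 1, 0, 0, 0], [], [some 0, none, some 1, some 4, some 5, some 6], [0, 0, 4, -3, 0, 0, 0], some 2⟩,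
  ⟨[0, 0, 2, 0, 0, 0, 0], [], [some 0, some 1, some 3, some 4, some 5, some 6], [0, 0, 2, 0, 0, 0, 0], none⟩,
  ⟨[0, 0, 2, 0, 0, 0, 1], [], [some 0, none, some 1, some 3, some 4, some 5], [0, 0, -1, 0, 0, 0, 3], some 6⟩,
  ⟨[0, 1, 0, 0, 0, 0, 0], [0], [], [43, -9, 40, 42, 19, -3, -411], some 6⟩,
  ⟨[0, 1, 0, 0, 0, 0, 1], [], [some 0, some 2, some 3, some 4, some 5], [0, -3, 0, 0, 0, 0, 2], some 6⟩,
  ⟨[0, 1, 0, 0, 0, 0, 2], [], [some 0, some 2, some 3, some 4, some 5], [0, 4, 0, 0, 0, 0, -11], some 6⟩,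
  ⟨[0, 1, 0, 0, 0, 0, 3], [], [some 0, some 2, some 3, some 4, some 5], [0, -4, 0, 0, 0, 0, 9], some 6⟩,
  ⟨[0, 1, 0, 0, 0, 0, 4], [], [some 0, some 2, some 3, some 4, some 5], [0, 3, 0, 0, 0, 0, -5], some 6⟩,
  ⟨[0, 1, 0, 0, 0, 0, 5], [1], [], [-23, 6, 19, 29, 18, 39, -286], some 6⟩,
  ⟨[0, 1, 0, 0, 0, 1, 0], [], [some 0, some 2, some 3, some 4, some 6], [0, 1, 0, 0, 0, 3, 0], none⟩,
  ⟨[0, 1, 0, 0, 0, 1, 1], [], [some 0, some 2, some 3, some 4], [0, 9, 0, 0, 0, -7, 4], some 6⟩,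
  ⟨[0, 1, 0, 0, 0, 1, 2], [], [some 0, some 2, some 3, some 4], [0, -11, 0, 0, 0, -1, 33], some 6⟩,
  ⟨[0, 1, 0, 0, 0, 1, 3], [], [some 0, some 2, some 3, some 4, none], [0, -3, 0, 0, 0, -2, 10], some 6⟩,
  ⟨[0, 1, 0, 0, 0, 2, 0], [], [some 0, some 2, some 3, some 4, some 6], [0, -1, 0, 0, 0, 4, 0], none⟩,
  ⟨[0, 1, 0, 0, 0, 2, 1], [], [some 0, some 2, some 3, some 4, none], [0, -2, 0, 0, 0, -3, 10], some 6⟩,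
  ⟨[0, 1, 0, 0, 1, 0, 0], [], [some 0, some 2, some 3, some 5, some 6], [0, 5, 0, 0, -3, 0, 0], none⟩,
  ⟨[0, 1, 0, 0, 1, 0, 1], [], [some 0, some 2, some 3, some 5], [0, -4, 0, 0, -1, 0, 13], some 6⟩,
  ⟨[0, 1, 0, 0, 1, 0, 2], [], [some 0, some 2, some 3, none, some 5], [0, 1, 0, 0, 3, 0, -11], some 6⟩,
  ⟨[0, 1, 0, 0, 1, 1, 0], [], [some 0, some 2, some 3, none, some 6], [0, -7, 0, 0, 2, 4, 0], some 1⟩,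
  ⟨[0, 1, 0, 1, 0, 0, 0], [], [some 0, some 2, some 4, some 5, some 6], [0, 1, 0, 4, 0, 0, 0], none⟩,
  ⟨[0, 1, 0, 1, 0, 0, 1], [], [some 0, some 2, none, some 4, some 5], [0, -2, 0, -6, 0, 0, 28], some 6⟩,
  ⟨[0, 1, 1, 0, 0, 0, 0], [], [some 0, some 3, some 4, some 5, some 6], [0, 10, 6, 0, 0, 0, 0], none⟩,
  ⟨[0, 1, 1, 0, 0, 0, 1], [], [some 0, some 3, some 4, some 5], [0, -3, -4, 0, 0, 0, 13], some 6⟩,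
  ⟨[0, 1, 1, 0, 0, 0, 2], [], [some 0, none, some 3, some 4, some 5], [0, 3, -4, 0, 0, 0, 6], some 6⟩,
  ⟨[0, 1, 1, 0, 0, 1, 0], [], [some 0, none, some 3, some 4, some 6], [0, -11, 6, 0, 0, 2, 0], some 1⟩,
  ⟨[0, 2, 0, 0, 0, 0, 0], [0], [], [-16, 14, 10, 12, 41, -19, -190], some 6⟩,
  ⟨[0, 2, 0, 0, 0, 0, 1], [], [some 0, some 2, some 3, some 4, some 5], [0, 4, 0, 0, 0, 0, -7], some 6⟩,
  ⟨[0, 2, 0, 0, 0, 0, 2], [], [some 0, some 2, some 3, some 4, some 5], [0, -4, 0, 0, 0, 0, 9], some 6⟩,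
  ⟨[0, 2, 0, 0, 0, 0, 3], [1], [], [-15, -6, -23, -22, -24, 8, 237], some 6⟩,
  ⟨[0, 2, 0, 0, 0, 1, 0], [], [some 0, some 2, some 3, some 4, some 6], [0, -4, 0, 0, 0, -2, 0], none⟩,
  ⟨[0, 2, 0, 0, 0, 1, 1], [], [some 0, some 2, some 3, some 4, none], [0, -1, 0, 0, 0, -4, 10], some 6⟩,
  ⟨[0, 2, 0, 0, 1, 0, 0], [], [some 0, some 2, some 3, none, some 5, some 6], [0, -3, 0, 0, 2, 0, 0], some 1⟩,
  ⟨[0, 2, 1, 0, 0, 0, 0], [], [some 0, none, some 3, some 4, some 5, some 6], [0, 3, -2, 0, 0, 0, 0], some 1⟩,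
  ⟨[0, 3, 0, 0, 0, 0, 0], [0], [], [-26, -13, -30, -22, -9, 12, 236], some 6⟩,
  ⟨[0, 3, 0, 0, 0, 0, 1], [1], [], [3, -41, -32, -11, -9, -7, 262], some 6⟩,
  ⟨[1, 0, 0, 0, 0, 0, 0], [], [some 1, some 2, some 3, some 4, some 5, some 6], [-1, 0, 0, 0, 0, 0, 0], none⟩,
  ⟨[1, 0, 0, 0, 0, 0, 1], [], [some 1, some 2, some 3, some 4, some 5], [1, 0, 0, 0, 0, 0, -4], some 6⟩,
  ⟨[1, 0, 0, 0, 0, 0, 2], [], [some 1, some 2, some 3, some 4, some 5], [-1, 0, 0, 0, 0, 0, 6], some 6⟩,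
  ⟨[1, 0, 0, 0, 0, 0, 3], [], [some 1, some 2, some 3, some 4, some 5], [-3, 0, 0, 0, 0, 0, 7], some 6⟩,
  ⟨[1, 0, 0, 0, 0, 0, 4], [], [some 1, some 2, some 3, some 4, some 5], [-2, 0, 0, 0, 0, 0, 5], some 6⟩,
  ⟨[1, 0, 0, 0, 0, 0, 5], [], [some 1, some 2, some 3, some 4, some 5, none], [2, 0, 0, 0, 0, 0, -4], some 6⟩,
  ⟨[1, 0, 0, 0, 0, 1, 0], [], [some 1, some 2, some 3, some 4, some 6], [-3, 0, 0, 0, 0, -2, 0], none⟩,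
  ⟨[1, 0, 0, 0, 0, 1, 1], [], [some 1, some 2, some 3, some 4], [-2, 0, 0, 0, 0, -1, 12], some 6⟩,
  ⟨[1, 0, 0, 0, 0, 1, 2], [], [some 1, some 2, some 3, some 4], [1, 0, 0, 0, 0, 9, -23], some 6⟩,
  ⟨[1, 0, 0, 0, 0, 1, 3], [], [some 1, some 2, some 3, some 4, none], [3, 0, 0, 0, 0, -4, 2], some 6⟩,
  ⟨[1, 0, 0, 0, 0, 2, 0], [], [some 1, some 2, some 3, some 4, some 6], [-1, 0, 0, 0, 0, -3, 0], none⟩,
  ⟨[1, 0, 0, 0, 0, 2, 1], [], [some 1, some 2, some 3, some 4, none], [-3, 0, 0, 0, 0, 1, 4], some 6⟩,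
  ⟨[1, 0, 0, 0, 1, 0, 0], [], [some 1, some 2, some 3, some 5, some 6], [-1, 0, 0, 0, -3, 0, 0], none⟩,
  ⟨[1, 0, 0, 0, 1, 0, 1], [], [some 1, some 2, some 3, some 5], [-3, 0, 0, 0, -8, 0, 32], some 6⟩,
  ⟨[1, 0, 0, 0, 1, 0, 2], [], [some 1, some 2, some 3, some 5, none], [3, 0, 0, 0, 1, 0, -9], some 6⟩,
  ⟨[1, 0, 0, 0, 1, 1, 0], [], [some 1, some 2, some 3, some 6, none], [-17, 0, 0, 0, 6, 8, 0], some 0⟩,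
  ⟨[1, 0, 0, 1, 0, 0, 0], [], [some 1, some 2, some 4, some 5, some 6], [2, 0, 0, -5, 0, 0, 0], none⟩,
  ⟨[1, 0, 0, 1, 0, 0, 1], [], [some 1, some 2, some 4, some 5, none], [2, 0, 0, 5, 0, 0, -24], some 6⟩,
  ⟨[1, 0, 1, 0, 0, 0, 0], [], [some 1, some 3, some 4, some 5, some 6], [5, 0, -4, 0, 0, 0, 0], none⟩,
  ⟨[1, 0, 1, 0, 0, 0, 1], [], [some 1, some 3, some 4, some 5], [-8, 0, -1, 0, 0, 0, 23], some 6⟩,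
  ⟨[1, 0, 1, 0, 0, 0, 2], [], [some 1, some 3, some 4, some 5, none], [-1, 0, -5, 0, 0, 0, 17], some 6⟩,
  ⟨[1, 0, 1, 0, 0, 1, 0], [], [some 1, some 3, some 4, some 6, none], [-7, 0, 2, 0, 0, 4, 0], some 0⟩,
  ⟨[1, 1, 0, 0, 0, 0, 0], [], [some 2, some 3, some 4, some 5, some 6], [-1, -3, 0, 0, 0, 0, 0], none⟩,
  ⟨[1, 1, 0, 0, 0, 0, 1], [], [some 2, some 3, some 4, some 5], [3, 4, 0, 0, 0, 0, -16], some 6⟩,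
  ⟨[1, 1, 0, 0, 0, 0, 2], [], [some 2, some 3, some 4, some 5], [-1, 5, 0, 0, 0, 0, -11], some 6⟩,
  ⟨[1, 1, 0, 0, 0, 0, 3], [], [some 2, some 3, some 4, some 5, none], [-2, -5, 0, 0, 0, 0, 14], some 6⟩,
  ⟨[1, 1, 0, 0, 0, 1, 0], [], [some 2, some 3, some 4, some 6], [3, 2, 0, 0, 0, 4, 0], none⟩,
  ⟨[1, 1, 0, 0, 0, 1, 1], [], [some 2, some 3, some 4, none], [4, 7, 0, 0, 0, -1, -20], some 6⟩,
  ⟨[1, 1, 0, 0, 1, 0, 0], [], [some 2, some 3, some 5, some 6, none], [-7, 4, 0, 0, 2, 0, 0], some 0⟩,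
  ⟨[1, 1, 1, 0, 0, 0, 0], [], [some 3, some 4, some 5, some 6, none], [-18, 6, 8, 0, 0, 0, 0], some 0⟩,
  ⟨[1, 2, 0, 0, 0, 0, 0], [], [some 2, some 3, some 4, some 5, some 6], [1, 2, 0, 0, 0, 0, 0], none⟩,
  ⟨[1, 2, 0, 0, 0, 0, 1], [], [some 2, some 3, some 4, some 5, none], [-4, 3, 0, 0, 0, 0, 2], some 6⟩,
  ⟨[2, 0, 0, 0, 0, 0, 0], [], [some 1, some 2, some 3, some 4, some 5, some 6], [2, 0, 0, 0, 0, 0, 0], none⟩,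
  ⟨[2, 0, 0, 0, 0, 0, 1], [], [some 1, some 2, some 3, some 4, some 5], [2, 0, 0, 0, 0, 0, -5], some 6⟩,
  ⟨[2, 0, 0, 0, 0, 0, 2], [], [some 1, some 2, some 3, some 4, some 5], [1, 0, 0, 0, 0, 0, -4], some 6⟩,
  ⟨[2, 0, 0, 0, 0, 0, 3], [], [some 1, some 2, some 3, some 4, some 5, none], [1, 0, 0, 0, 0, 0, -2], some 6⟩,
  ⟨[2, 0, 0, 0, 0, 1, 0], [], [some 1, some 2, some 3, some 4, some 6], [3, 0, 0, 0, 0, 2, 0], none⟩,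
  ⟨[2, 0, 0, 0, 0, 1, 1], [], [some 1, some 2, some 3, some 4, none], [-1, 0, 0, 0, 0, -3, 8], some 6⟩,
  ⟨[2, 0, 0, 0, 1, 0, 0], [], [some 1, some 2, some 3, some 5, some 6, none], [3, 0, 0, 0, -2, 0, 0], some 0⟩,
  ⟨[2, 0, 1, 0, 0, 0, 0], [], [some 1, some 3, some 4, some 5, some 6, none], [-3, 0, 2, 0, 0, 0, 0], some 0⟩,
  ⟨[2, 1, 0, 0, 0, 0, 0], [], [some 2, some 3, some 4, some 5, some 6], [-3, -1, 0, 0, 0, 0, 0], none⟩,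
  ⟨[2, 1, 0, 0, 0, 0, 1], [], [some 2, some 3, some 4, some 5, none], [3, -4, 0, 0, 0, 0, 2], some 6⟩,
  ⟨[3, 0, 0, 0, 0, 0, 0], [], [some 1, some 2, some 3, some 4, some 5, some 6], [2, 0, 0, 0, 0, 0, 0], none⟩,
  ⟨[3, 0, 0, 0, 0, 0, 1], [], [some 1, some 2, some 3, some 4, some 5, none], [1, 0, 0, 0, 0, 0, -2], some 6⟩]

theorem flE7x7_ok : (flE7x7.all (afrB 7 7 rE7 bE7 2)) = true := by decide +kernel

theorem tbE7x7_ok : (tbE7x7.all (entB 7 7 rE7 bE7 2 2 flE7x7 (finB chevE7 7 7 rE7))) = true := by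
  decide +kernel

theorem tabE7x7 {c : Fin 7 → ℕ} {c0 : ℕ} (K : Kac chevE7 7 7 c c0) :
    (List.ofFn fun i => (c i : ℤ)) ∈ ([] : List (List ℤ)) ∨
      Dec chevE7 7 7 (Cert chevE7 7 7) (SK chevE7 7 7 c) :=
  tab_of formE7 (by rw [rE7_eq]; exact flE7x7_ok) (fin := finB chevE7 7 7 (rootsL chevE7 7))
    (fun _ _ => cert_of) (by rw [rE7_eq]; exact tbE7x7_ok) hrE7 (by decide +kernel) K

end Cfsg.Agent.BHZ.Exc.CovI
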