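import Cfsg.Agent.BHZ.Exc.CovIR

/-!
# S4806, exceptional groups: tables of centralizers (helper56)
-/

set_option autoImplicit false
set_option maxRecDepth 100000

namespace Cfsg.Agent.BHZ.Exc.CovI

open Cfsg Cfsg.Lie Cfsg.Lie.ChevalleyDatum
open Cfsg.Agent.H931.KC (Kac hr)

/-- frames -/
def flE8x3 : List (ℤ × List (List ℤ)) := [
  (2, [[0, 0, 0, 0, 0, 0, 0, 0], [-1, 0, 0, 0, 0, 0, 0, 0], [-1, 0, -1, 0, 0, 0, 0, 0], [-1, 0, -1, -1, 0, 0, 0, 0], [-1, 0, -1, -1, -1, 0, 0, 0], [-1, 0, -1, -1, -1, -1, 0, 0], [-1, 0, -1, -1, -1, -1, -1, 0], [-1, 0, -1, -1, -1, -1, -1, -1], [1, 3, 3, 5, 4, 3, 2, 1]])]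

/-- the table -/
def tbE8x3 : List (Ent 8) := [
  ⟨[0, 0, 0, 0, 0, 0, 0, 0], [], [some 0, some 1, some 2, some 3, some 4, some 5, some 6, some 7], [0, 0, 0, 0, 0, 0, 0, 0], none⟩,
  ⟨[0, 0, 0, 0, 0, 0, 0, 1], [], [some 0, some 1, some 2, some 3, some 4, some 5, some 6], [0, 0, 0, 0, 0, 0, 0, 1], none⟩,
  ⟨[0, 1, 0, 0, 0, 0, 0, 0], [0], [], [17, 28, 18, 27, 41, -9, 38, 34], none⟩,
  ⟨[1, 0, 0, 0, 0, 0, 0, 0], [], [some 1, some 2, some 3, some 4, some 5, some 6, some 7], [-1, 0, 0, 0, 0, 0, 0, 0], none⟩]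

theorem flE8x3_ok : (flE8x3.all (afrB 8 3 rE8 bE8 2)) = true := by decide +kernel

theorem tbE8x3_ok : (tbE8x3.all (entB 8 3 rE8 bE8 2 2 flE8x3 (finB chevE8 8 3 rE8))) = true := by
  decide +kernel

theorem tabE8x3 {c : Fin 8 → ℕ} {c0 : ℕ} (K : Kac chevE8 8 3 c c0) :
    (List.ofFn fun i => (c i : ℤ)) ∈ ([[0, 0, 0, 0, 0, 0, 1, 0]] : List (List ℤ)) ∨
      Dec chevE8 8 3 (Cert chevE8 8 3) (SK chevE8 8 3 c) :=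
  tab_of formE8 (by rw [rE8_eq]; exact flE8x3_ok) (fin := finB chevE8 8 3 (rootsL chevE8 8))
    (fun _ _ => cert_of) (by rw [rE8_eq]; exact tbE8x3_ok) hrE8 (by decide +kernel) K

/-- frames -/
def flE8x5 : List (ℤ × List (List ℤ)) := [
  (2, [[0, 0, 0, 0, 0, 0, 0, 0], [-1, 0, 0, 0, 0, 0, 0, 0], [-1, 0, -1, 0, 0, 0, 0, 0], [-1, 0, -1, -1, 0, 0, 0, 0], [-1, -1, -1, -1, 0, 0, 0, 0]]),
  (2, [[0, 0, 0, 0, 0, 0, 0, 0], [0, 0, 0, 0, 0, -1, 0, 0], [0, 0, 0, 0, 0, -1, -1, 0], [0, 0, 0, 0, 0, -1, -1, -1], [2, 3, 4, 6, 5, 3, 2, 1]])]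

/-- the table -/
def tbE8x5 : List (Ent 8) := [
  ⟨[0, 0, 0, 0, 0, 0, 0, 0], [], [some 0, some 1, some 2, some 3, some 4, some 5, some 6, some 7], [0, 0, 0, 0, 0, 0, 0, 0], none⟩,
  ⟨[0, 0, 0, 0, 0, 0, 0, 1], [], [some 0, some 1, some 2, some 3, some 4, some 5, some 6], [0, 0, 0, 0, 0, 0, 0, -1], none⟩,
  ⟨[0, 0, 0, 0, 0, 0, 0, 2], [], [some 0, some 1, some 2, some 3, some 4, some 5, some 6], [0, 0, 0, 0, 0, 0, 0, -1], none⟩,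
  ⟨[0, 0, 0, 0, 0, 0, 1, 0], [], [some 0, some 1, some 2, some 3, some 4, some 5, some 7], [0, 0, 0, 0, 0, 0, -1, 0], none⟩,
  ⟨[0, 0, 0, 0, 0, 0, 1, 1], [], [some 0, some 1, some 2, some 3, some 4, some 5, none], [0, 0, 0, 0, 0, 0, -2, 3], some 7⟩,
  ⟨[0, 0, 0, 0, 0, 1, 0, 0], [], [some 0, some 1, some 2, some 3, some 4, some 6, some 7], [0, 0, 0, 0, 0, -1, 0, 0], none⟩,
  ⟨[0, 0, 0, 0, 1, 0, 0, 0], [0, 1], [], [20, 2, -21, 49, -5, 16, 35, -24], none⟩,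
  ⟨[0, 0, 1, 0, 0, 0, 0, 0], [], [some 0, some 1, some 3, some 4, some 5, some 6, some 7], [0, 0, 1, 0, 0, 0, 0, 0], none⟩,
  ⟨[0, 1, 0, 0, 0, 0, 0, 0], [], [some 0, some 2, some 3, some 4, some 5, some 6, some 7], [0, -1, 0, 0, 0, 0, 0, 0], none⟩,
  ⟨[0, 1, 0, 0, 0, 0, 0, 1], [], [some 0, some 2, some 3, some 4, some 5, some 6, none], [0, -2, 0, 0, 0, 0, 0, 3], some 1⟩,
  ⟨[1, 0, 0, 0, 0, 0, 0, 0], [], [some 1, some 2, some 3, some 4, some 5, some 6, some 7], [2, 0, 0, 0, 0, 0, 0, 0], none⟩,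
  ⟨[1, 0, 0, 0, 0, 0, 0, 1], [], [some 1, some 2, some 3, some 4, some 5, some 6], [-3, 0, 0, 0, 0, 0, 0, -4], none⟩,
  ⟨[1, 0, 0, 0, 0, 0, 1, 0], [], [some 1, some 2, some 3, some 4, some 5, some 7, none], [-3, 0, 0, 0, 0, 0, 2, 0], some 6⟩,
  ⟨[1, 1, 0, 0, 0, 0, 0, 0], [], [some 2, some 3, some 4, some 5, some 6, some 7, none], [-3, 2, 0, 0, 0, 0, 0, 0], some 0⟩,
  ⟨[2, 0, 0, 0, 0, 0, 0, 0], [], [some 1, some 2, some 3, some 4, some 5, some 6, some 7], [1, 0, 0, 0, 0, 0, 0, 0], none⟩]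

theorem flE8x5_ok : (flE8x5.all (afrB 8 5 rE8 bE8 2)) = true := by decide +kernel

theorem tbE8x5_ok : (tbE8x5.all (entB 8 5 rE8 bE8 2 2 flE8x5 (finB chevE8 8 5 rE8))) = true := by
  decide +kernel

theorem tabE8x5 {c : Fin 8 → ℕ} {c0 : ℕ} (K : Kac chevE8 8 5 c c0) :
    (List.ofFn fun i => (c i : ℤ)) ∈ ([] : List (List ℤ)) ∨
      Dec chevE8 8 5 (Cert chevE8 8 5) (SK chevE8 8 5 c) :=
  tab_of formE8 (by rw [rE8_eq]; exact flE8x5_ok) (fin := finB chevE8 8 5 (rootsL chevE8 8))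
    (fun _ _ => cert_of) (by rw [rE8_eq]; exact tbE8x5_ok) hrE8 (by decide +kernel) K

/-- frames -/
def flE8x7 : List (ℤ × List (List ℤ)) := [
  (2, [[0, 0, 0, 0, 0, 0, 0, 0], [0, -1, 0, 0, 0, 0, 0, 0], [0, -1, 0, -1, 0, 0, 0, 0], [0, -1, 0, -1, -1, 0, 0, 0], [0, -1, 0, -1, -1, -1, 0, 0], [0, -1, 0, -1, -1, -1, -1, 0], [0, -1, 0, -1, -1, -1, -1, -1]]),
  (2, [[0, 0, 0, 0, 0, 0, 0, 0], [-1, 0, 0, 0, 0, 0, 0, 0], [-1, 0, -1, 0, 0, 0, 0, 0], [-1, 0, -1, -1, 0, 0, 0, 0], [-1, 0, -1, -1, -1, 0, 0, 0], [-1, 0, -1, -1, -1, -1, 0, 0], [-1, 0, -1, -1, -1, -1, -1, 0]]),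
  (2, [[0, 0, 0, 0, 0, 0, 0, 0], [0, 0, 0, -1, 0, 0, 0, 0], [0, 0, 0, -1, -1, 0, 0, 0], [0, 0, 0, -1, -1, -1, 0, 0], [0, 0, 0, -1, -1, -1, -1, 0], [0, 0, 0, -1, -1, -1, -1, -1], [2, 3, 4, 5, 4, 3, 2, 1]]),
  (2, [[0, 0, 0, 0, 0, 0, 0, 0], [0, 0, -1, 0, 0, 0, 0, 0], [0, 0, -1, -1, 0, 0, 0, 0], [0, 0, -1, -1, -1, 0, 0, 0], [0, 0, -1, -1, -1, -1, 0, 0], [0, 0, -1, -1, -1, -1, -1, 0], [0, 0, -1, -1, -1, -1, -1, -1]])]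

/-- the table -/
def tbE8x7 : List (Ent 8) := [
  ⟨[0, 0, 0, 0, 0, 0, 0, 0], [], [some 0, some 1, some 2, some 3, some 4, some 5, some 6, some 7], [0, 0, 0, 0, 0, 0, 0, 0], none⟩,
  ⟨[0, 0, 0, 0, 0, 0, 0, 1], [], [some 0, some 1, some 2, some 3, some 4, some 5, some 6], [0, 0, 0, 0, 0, 0, 0, 1], some 7⟩,
  ⟨[0, 0, 0, 0, 0, 0, 0, 2], [], [some 0, some 1, some 2, some 3, some 4, some 5, some 6], [0, 0, 0, 0, 0, 0, 0, 1], some 7⟩,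
  ⟨[0, 0, 0, 0, 0, 0, 0, 3], [], [some 0, some 1, some 2, some 3, some 4, some 5, some 6], [0, 0, 0, 0, 0, 0, 0, -1], some 7⟩,
  ⟨[0, 0, 0, 0, 0, 0, 1, 0], [], [some 0, some 1, some 2, some 3, some 4, some 5, some 7], [0, 0, 0, 0, 0, 0, 2, 0], none⟩,
  ⟨[0, 0, 0, 0, 0, 0, 1, 1], [], [some 0, some 1, some 2, some 3, some 4, some 5], [0, 0, 0, 0, 0, 0, 4, 2], none⟩,
  ⟨[0, 0, 0, 0, 0, 0, 1, 2], [], [some 0, some 1, some 2, some 3, some 4, some 5, none], [0, 0, 0, 0, 0, 0, 2, -3], some 7⟩,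
  ⟨[0, 0, 0, 0, 0, 0, 2, 0], [], [some 0, some 1, some 2, some 3, some 4, some 5, some 7], [0, 0, 0, 0, 0, 0, -1, 0], none⟩,
  ⟨[0, 0, 0, 0, 0, 1, 0, 0], [], [some 0, some 1, some 2, some 3, some 4, some 6, some 7], [0, 0, 0, 0, 0, 1, 0, 0], none⟩,
  ⟨[0, 0, 0, 0, 0, 1, 0, 1], [], [some 0, some 1, some 2, some 3, some 4, some 6], [0, 0, 0, 0, 0, 7, 0, -6], none⟩,
  ⟨[0, 0, 0, 0, 0, 1, 1, 0], [], [some 0, some 1, some 2, some 3, some 4, some 7, none], [0, 0, 0, 0, 0, 3, -4, 0], some 6⟩,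
  ⟨[0, 0, 0, 0, 1, 0, 0, 0], [], [some 0, some 1, some 2, some 3, some 5, some 6, some 7], [0, 0, 0, 0, -1, 0, 0, 0], none⟩,
  ⟨[0, 0, 0, 0, 1, 0, 0, 1], [], [some 0, some 1, some 2, some 3, some 5, some 6, none], [0, 0, 0, 0, -2, 0, 0, 5], some 7⟩,
  ⟨[0, 0, 0, 1, 0, 0, 0, 0], [], [some 0, some 2, some 1, some 4, some 5, some 6, some 7], [0, 0, 0, -1, 0, 0, 0, 0], none⟩,
  ⟨[0, 0, 1, 0, 0, 0, 0, 0], [0], [some 0], [0, 26, 7, 48, 40, 22, 20, 10], none⟩,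
  ⟨[0, 0, 1, 0, 0, 0, 0, 1], [], [some 0, some 1, some 3, some 4, some 5, some 6], [0, 0, 3, 0, 0, 0, 0, 2], none⟩,
  ⟨[0, 0, 1, 0, 0, 0, 1, 0], [], [some 0, some 1, some 3, some 4, some 5, some 7, none], [0, 0, -3, 0, 0, 0, 4, 0], some 6⟩,
  ⟨[0, 1, 0, 0, 0, 0, 0, 0], [], [some 0, some 2, some 3, some 4, some 5, some 6, some 7], [0, 1, 0, 0, 0, 0, 0, 0], some 1⟩,
  ⟨[0, 1, 0, 0, 0, 0, 0, 1], [1], [], [72, 11, 40, 64, -2, 58, 33, 27], none⟩,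
  ⟨[0, 1, 0, 0, 0, 0, 0, 2], [1], [none], [-339, -56, 36, 34, 30, 62, 52, -28], some 0⟩,
  ⟨[0, 1, 0, 0, 0, 0, 1, 0], [], [some 0, some 2, some 3, some 4, some 5, some 7], [0, 3, 0, 0, 0, 0, 4, 0], none⟩,
  ⟨[0, 1, 0, 0, 0, 1, 0, 0], [], [some 0, some 2, some 3, some 4, some 6, some 7, none], [0, -4, 0, 0, 0, 3, 0, 0], some 1⟩,
  ⟨[0, 1, 1, 0, 0, 0, 0, 0], [2], [some 0], [0, -18, 9, -28, -25, -6, 33, 3], none⟩,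
  ⟨[0, 2, 0, 0, 0, 0, 0, 0], [], [some 0, some 2, some 3, some 4, some 5, some 6, some 7], [0, 1, 0, 0, 0, 0, 0, 0], some 1⟩,
  ⟨[1, 0, 0, 0, 0, 0, 0, 0], [], [some 1, some 2, some 3, some 4, some 5, some 6, some 7], [-2, 0, 0, 0, 0, 0, 0, 0], none⟩,
  ⟨[1, 0, 0, 0, 0, 0, 0, 1], [], [some 1, some 2, some 3, some 4, some 5, some 6], [1, 0, 0, 0, 0, 0, 0, 4], none⟩,
  ⟨[1, 0, 0, 0, 0, 0, 0, 2], [], [some 1, some 2, some 3, some 4, some 5, some 6], [-2, 0, 0, 0, 0, 0, 0, -1], none⟩,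
  ⟨[1, 0, 0, 0, 0, 0, 1, 0], [], [some 1, some 2, some 3, some 4, some 5, some 7], [5, 0, 0, 0, 0, 0, 4, 0], none⟩,
  ⟨[1, 0, 0, 0, 0, 0, 1, 1], [], [some 1, some 2, some 3, some 4, some 5, none], [13, 0, 0, 0, 0, 0, -2, -10], some 0⟩,
  ⟨[1, 0, 0, 0, 0, 1, 0, 0], [], [some 1, some 2, some 3, some 4, some 6, some 7], [-1, 0, 0, 0, 0, 3, 0, 0], none⟩,
  ⟨[1, 0, 0, 0, 1, 0, 0, 0], [], [some 1, some 2, some 3, some 5, some 6, some 7, none], [15, 0, 0, 0, -6, 0, 0, 0], some 0⟩,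
  ⟨[1, 0, 1, 0, 0, 0, 0, 0], [0], [], [-11, -21, 43, 37, 51, 4, -31, -39], none⟩,
  ⟨[1, 1, 0, 0, 0, 0, 0, 0], [3], [], [-16, 14, 23, 25, 24, 12, -2, -29], none⟩,
  ⟨[1, 1, 0, 0, 0, 0, 0, 1], [], [some 2, some 3, some 4, some 5, some 6, none], [-5, -2, 0, 0, 0, 0, 0, 8], some 0⟩,
  ⟨[2, 0, 0, 0, 0, 0, 0, 0], [], [some 1, some 2, some 3, some 4, some 5, some 6, some 7], [1, 0, 0, 0, 0, 0, 0, 0], none⟩,
  ⟨[2, 0, 0, 0, 0, 0, 0, 1], [], [some 1, some 2, some 3, some 4, some 5, some 6], [3, 0, 0, 0, 0, 0, 0, 1], none⟩,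
  ⟨[2, 0, 0, 0, 0, 0, 1, 0], [], [some 1, some 2, some 3, some 4, some 5, some 7, none], [-3, 0, 0, 0, 0, 0, 2, 0], some 0⟩,
  ⟨[2, 1, 0, 0, 0, 0, 0, 0], [], [some 2, some 3, some 4, some 5, some 6, some 7, none], [3, -2, 0, 0, 0, 0, 0, 0], some 1⟩,
  ⟨[3, 0, 0, 0, 0, 0, 0, 0], [], [some 1, some 2, some 3, some 4, some 5, some 6, some 7], [-1, 0, 0, 0, 0, 0, 0, 0], none⟩]

theorem flE8x7_ok : (flE8x7.all (afrB 8 7 rE8 bE8 2)) = true := by decide +kernel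

theorem tbE8x7_ok : (tbE8x7.all (entB 8 7 rE8 bE8 2 2 flE8x7 (finB chevE8 8 7 rE8))) = true := by
  decide +kernel

theorem tabE8x7 {c : Fin 8 → ℕ} {c0 : ℕ} (K : Kac chevE8 8 7 c c0) :
    (List.ofFn fun i => (c i : ℤ)) ∈ ([] : List (List ℤ)) ∨
      Dec chevE8 8 7 (Cert chevE8 8 7) (SK chevE8 8 7 c) :=
  tab_of formE8 (by rw [rE8_eq]; exact flE8x7_ok) (fin := finB chevE8 8 7 (rootsL chevE8 8))
    (fun _ _ => cert_of) (by rw [rE8_eq]; exact tbE8x7_ok) hrE8 (by decide +kernel) K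

end Cfsg.Agent.BHZ.Exc.CovI
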