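import Cfsg.Agent.BHZ.Exc.CovIT1
import Cfsg.Agent.BHZ.Exc.CovIT2
import Cfsg.Agent.BHZ.Exc.CovIT3

/-!
# S4806, exceptional groups: case I (helper56)
-/

set_option autoImplicit false

namespace Cfsg.Agent.BHZ.Exc

open CoxeterSystem Cfsg Cfsg.Lie Cfsg.Lie.ChevalleyDatum
open Cfsg.Agent.ChevalleyStructure Cfsg.Agent.ChevalleyStructure.CoxeterGeom
open Cfsg.Agent.Tits.Roots Cfsg.Agent.Nodes.RGDChev Cfsg.Agent.KFacts.RgdChevCoord
open Cfsg.Agent.H469.Exc Cfsg.Agent.H129.TorusChar Cfsg.Agent.DS.Ex Cfsg.Agent.DS.Nt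
open Cfsg.Agent.H46.Gen (rt_iff)
open Cfsg.Agent.H931.KC (Kac bb exists_kac' psi_apply)

namespace CovI

variable {D : ChevalleyDatum} {l : ℕ} {M : CoxeterMatrix (Fin l)} {r : ℕ} [Fact r.Prime]

theorem bb_of_list {c : Fin l → ℕ} {v : List ℤ} (h : (List.ofFn fun i => (c i : ℤ)) = v) (x : Fin l → ℤ) :
    bb c x = ∑ i, x i * tv l v i := by
  rw [← h, tv_ofFn]
  rfl

theorem tab (hp : IsType D l M) {p : ℕ} (h : PairI D p) {c : Fin l → ℕ} {c0 : ℕ} (K : Kac D l p c c0) :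
    Dec D l p (Cert D l p) (SK D l p c) ∨ (p = 3 ∧ (D = chevE7 ∨ D = chevE8) ∧
      ∃ i : Fin l, i.val = 6 ∧ ∃ m : ℕ, (m = 1 ∨ m = 2) ∧ ∀ x, bb c x = m * x i) := by
  have hl := hp.rank_eq
  have h0 := rank_eq_of_inList hp.inList
  rcases h with ⟨rfl, rfl⟩ | ⟨rfl, rfl⟩ | ⟨rfl, rfl⟩ | ⟨rfl, rfl⟩ | ⟨rfl | rfl, h⟩
  · obtain rfl : 2 = l := (h0.1 rfl).symm.trans hl
    exact Or.inl ((tabG2x3 K).resolve_left List.not_mem_nil)
  · obtain rfl : 4 = l := (h0.2.2.1 rfl).symm.trans hl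
    exact Or.inl ((tabD4x3 K).resolve_left List.not_mem_nil)
  · obtain rfl : 4 = l := (h0.2.2.2.1 rfl).symm.trans hl
    exact Or.inl ((tabF4x3 K).resolve_left List.not_mem_nil)
  · obtain rfl : 6 = l := (h0.2.2.2.2.1 rfl).symm.trans hl
    exact Or.inl ((tabE6x5 K).resolve_left List.not_mem_nil)
  · obtain rfl : 7 = l := (h0.2.2.2.2.2.1 rfl).symm.trans hl
    rcases h with rfl | rfl | rfl
    · refine (tabE7x3 K).symm.imp_right fun h => ⟨rfl, Or.inl rfl, 6, rfl, ?_⟩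
      simp only [List.mem_cons, List.not_mem_nil, or_false] at h
      rcases h with h | h
      · exact ⟨1, Or.inl rfl, fun x => by simp [bb_of_list h, Fin.sum_univ_succ, tv]⟩
      · exact ⟨2, Or.inr rfl, fun x => by simp [bb_of_list h, Fin.sum_univ_succ, tv, mul_comm]⟩
    · exact Or.inl ((tabE7x5 K).resolve_left List.not_mem_nil)
    · exact Or.inl ((tabE7x7 K).resolve_left List.not_mem_nil)
  · obtain rfl : 8 = l := (h0.2.2.2.2.2.2 rfl).symm.trans hl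
    rcases h with rfl | rfl | rfl
    · refine (tabE8x3 K).symm.imp_right fun h => ⟨rfl, Or.inr rfl, 6, rfl, ?_⟩
      exact ⟨1, Or.inl rfl, fun x => by simp [bb_of_list (List.mem_singleton.1 h), Fin.sum_univ_succ, tv]⟩
    · exact Or.inl ((tabE8x5 K).resolve_left List.not_mem_nil)
    · exact Or.inl ((tabE8x7 K).resolve_left List.not_mem_nil)

theorem prime_of {p : ℕ} (h : PairI D p) : p.Prime ∧ p ≠ 2 := by
  rcases h with ⟨-, rfl⟩ | ⟨-, rfl⟩ | ⟨-, rfl⟩ | ⟨-, rfl⟩ | ⟨-, rfl | rfl | rfl⟩ <;> norm_num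

theorem conn (hp : IsType D l M) {p : ℕ} (h : PairI D p) (hpr : p ≠ r) {t : YY D r} (ht : t ∈ TT D (KK r))
    (htp : t ^ p = 1) {x : YY D r} (hx : x * t = t * x) : x ∈ DZ hp r {t} := by
  obtain ⟨hpp, h2⟩ := prime_of h
  have hl := hp.rank_eq
  have h0 := rank_eq_of_inList hp.inList
  have key : Typ D → (D = chevE6 → p ≠ 3) → x ∈ DZ hp r {t} := fun hD h6 => by
    rcases (DZ_one hp hD hpp hpr ht htp).2 with h3 | ⟨h3, h4, -⟩ | ⟨-, h4, -⟩
    · exact h3 x hx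
    · exact absurd h4 (h6 h3)
    · exact absurd h4 h2
  have hne : ∀ {D' : ChevalleyDatum}, D'.nroots ≠ 72 → D' = chevE6 → p ≠ 3 := fun h1 h3 =>
    absurd (by rw [h3]; decide +kernel) h1
  rcases h with ⟨rfl, -⟩ | ⟨rfl, -⟩ | ⟨rfl, -⟩ | ⟨rfl, rfl⟩ | ⟨rfl | rfl, -⟩
  · obtain rfl : 2 = l := (h0.1 rfl).symm.trans hl
    exact conn_of_nmk H931.KC.nmk_G2 hpp hpr ht htp hx
  · obtain rfl : 4 = l := (h0.2.2.1 rfl).symm.trans hl
    exact conn_D4 hp hpp hpr h2 ht htp hx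
  · exact key (Or.inl rfl) (hne (by decide +kernel))
  · exact key (Or.inr (Or.inl rfl)) fun _ => by norm_num
  · exact key (Or.inr (Or.inr (Or.inl rfl))) (hne (by decide +kernel))
  · exact key (Or.inr (Or.inr (Or.inr rfl))) (hne (by decide +kernel))

theorem dec (hp : IsType D l M) {p : ℕ} (h : PairI D p) (hpr : p ≠ r) {t : YY D r} (ht : t ∈ TT D (KK r))
    (htp : t ^ p = 1) : Dec D l p (Triv hp p (MonoidHom.id (YY D r))) (Ps hp r {t}) ∨ Flag hp p t := by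
  have hpp := (prime_of h).1
  obtain ⟨ζ, hζ⟩ := exists_prim (p := r) hpp hpr
  obtain ⟨w, c, c0, K, h1, -⟩ := exists_kac' hp hpp.pos hζ ht htp
  refine (tab hp h K).imp (fun h2 => ?_) ?_
  · exact dec_of_kac Function.surjective_id hζ ht (c := c) h1 (dec_mono (S₀ := SK D l p c)
      (fun S hS h3 => triv_of_cert hpp (fun a ha => (rt_iff hp _).1 (hS ha).1) h3) h2 subset_rfl)
  · rintro ⟨rfl, h2, i, hi, m, hm, h3⟩
    obtain ⟨k, h4, h5⟩ := exists_move (hp := hp) ht w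
    refine ⟨rfl, h2, i, hi, k, ζ ^ m, hζ.pow_of_coprime m (by rcases hm with rfl | rfl <;> norm_num), h4, fun x => ?_⟩
    rw [h5, h1, ← zpow_natCast, ← zpow_mul, ← h3]
    rfl

end CovI

/-- **Case I.** -/
theorem boxCovI : BoxCovI := fun _ _ _ hp r _ p h hpr =>
  { toCov0 := cov0_id p
    tcomm := fun _ _ ha hb => T_comm hp ha hb
    root := fun z hz => ⟨1, one_mem _, by rw [one_pow]; exact hz.symm⟩
    conn := fun _ _ ha h1 hx => CovI.conn (r := r) hp h hpr ha h1 hx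
    dec := fun _ ht h1 _ => CovI.dec hp h hpr ht h1 }

end Cfsg.Agent.BHZ.Exc
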