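import Cfsg.Agent.BHZ.Exc.CovIA

/-!
# S4806, exceptional groups: the checker for the tables of centralizers (helper56)

Vectors are lists of integers (`tv`), sets of roots are lists (`sv`).  `certB` checks `Cert`, `afrB` checks `AFr`, `decB` checks
`Dec`, `allS` runs through the Kac coordinates.
-/

set_option autoImplicit false

namespace Cfsg.Agent.BHZ.Exc.CovI

open CoxeterSystem Cfsg Cfsg.Lie Cfsg.Lie.ChevalleyDatum
open Cfsg.Agent.ChevalleyStructure Cfsg.Agent.ChevalleyStructure.RootVec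
open Cfsg.Agent.Tits.Roots Cfsg.Agent.Nodes.RGDChev Cfsg.Agent.H129.TorusChar
open Cfsg.Agent.H46.Gen (AFr Rt Pr)
open Cfsg.Agent.H931.KC (Kac bb psi psi_apply al mk hr sum_mk)

/-- the vector of a list -/
def tv (l : ℕ) (x : List ℤ) : Fin l → ℤ := fun i => x.getD i 0

/-- the set of a list of lists -/
def sv (l : ℕ) (S : List (List ℤ)) : Set (Fin l → ℤ) := {a | ∃ x ∈ S, tv l x = a}

/-- the dot product -/
def dot : ℕ → List ℤ → List ℤ → ℤ
  | n + 1, a :: x, b :: y => a * b + dot n x y
  | _, _, _ => 0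

/-- the sum -/
def vadd : List ℤ → List ℤ → List ℤ
  | a :: x, b :: y => (a + b) :: vadd x y
  | [], y => y
  | x, [] => x

/-- the difference -/
def vsub (x y : List ℤ) : List ℤ := vadd x (y.map fun a => -a)

/-- the sum of a list -/
def vsum : List (List ℤ) → List ℤ
  | [] => []
  | x :: S => vadd x (vsum S)

/-- the roots -/
def rootsL (D : ChevalleyDatum) (l : ℕ) : List (List ℤ) :=
  (List.range D.nroots).map fun s => (List.range l).map fun i => rt D s i

theorem dot_eq : ∀ (n : ℕ) (x y : List ℤ), dot n x y = psi (tv n y) (tv n x)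
  | 0, _, _ => by simp [dot, psi_apply]
  | n + 1, [], y => by simp [dot, psi_apply, tv]
  | n + 1, a :: x, [] => by simp [dot, psi_apply, tv]
  | n + 1, a :: x, b :: y => by
    rw [dot, dot_eq n x y, psi_apply, psi_apply, Fin.sum_univ_succ]
    rfl

theorem getD_vadd : ∀ (x y : List ℤ) (i : ℕ), (vadd x y).getD i 0 = x.getD i 0 + y.getD i 0
  | [], y, i => by simp [vadd]
  | a :: x, [], i => by simp [vadd]
  | a :: x, b :: y, 0 => by simp [vadd]
  | a :: x, b :: y, i + 1 => by
    have := getD_vadd x y i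
    simpa [vadd] using this

variable {D : ChevalleyDatum} {l : ℕ}

theorem tv_vadd (x y : List ℤ) : tv l (vadd x y) = tv l x + tv l y := funext fun i => getD_vadd x y i

theorem tv_vsub (x y : List ℤ) : tv l (vsub x y) = tv l x - tv l y := by
  funext i
  show (vadd x _).getD i 0 = x.getD i 0 - y.getD i 0
  rw [getD_vadd, sub_eq_add_neg]
  congr 1
  exact List.getD_map (f := fun a : ℤ => -a) (l := y) (d := 0)

theorem tv_vsum : ∀ S : List (List ℤ), tv l (vsum S) = (S.map (tv l)).sum
  | [] => rfl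
  | x :: S => by rw [vsum, tv_vadd, tv_vsum S, List.map_cons, List.sum_cons]

theorem tv_range (f : ℕ → ℤ) (i : Fin l) : tv l ((List.range l).map f) i = f i := by
  simp [tv]

theorem tv_root (s : ℕ) : tv l ((List.range l).map fun i => rt D s i) = vec D l s := funext fun i => tv_range _ i

theorem mem_sv_roots {a : Fin l → ℤ} : a ∈ sv l (rootsL D l) ↔ Rt D l a := by
  constructor
  · rintro ⟨x, hx, rfl⟩
    obtain ⟨s, hs, rfl⟩ := List.mem_map.1 hx
    exact ⟨s, List.mem_range.1 hs, (tv_root s).symm⟩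
  · rintro ⟨s, hs, rfl⟩
    exact ⟨_, List.mem_map.2 ⟨s, List.mem_range.2 hs, rfl⟩, tv_root s⟩

theorem sv_filter (S : List (List ℤ)) {f : List ℤ → Bool} {P : (Fin l → ℤ) → Prop} (h : ∀ x, f x = true ↔ P (tv l x)) :
    sv l (S.filter f) = {a | a ∈ sv l S ∧ P a} := by
  ext a
  constructor
  · rintro ⟨x, hx, rfl⟩
    exact ⟨⟨x, (List.mem_filter.1 hx).1, rfl⟩, (h x).1 (List.mem_filter.1 hx).2⟩
  · rintro ⟨⟨x, hx, rfl⟩, h1⟩
    exact ⟨x, List.mem_filter.2 ⟨hx, (h x).2 h1⟩, rfl⟩

theorem lvl_eq (g : List ℤ) (k : ℤ) :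
    tv l (vsum ((rootsL D l).filter fun a => dot l a g == k)) = lvl D l (psi (tv l g)) k := by
  rw [tv_vsum, rootsL, List.filter_map, List.map_map]
  show _ = (((List.range D.nroots).filter fun s => decide (psi (tv l g) (vec D l s) = k)).map (vec D l)).sum
  congr 1
  rw [List.filter_congr (q := fun s => decide (psi (tv l g) (vec D l s) = k)) fun s _ => by
    rw [Function.comp_apply, dot_eq, tv_root]
    rfl]
  exact List.map_congr_left fun s _ => tv_root s

/-! ### `Cert` -/

/-- coordinates with respect to the extended nodes -/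
def cr0 (x : Fin l → ℤ) : Option (Fin l) → ℤ
  | none => 0
  | some i => x i

theorem sum_cr0 (x : Fin l → ℤ) : ∑ j, cr0 x j • al D l j = x := by
  rw [Fintype.sum_option]
  show (0 : ℤ) • _ + ∑ i, x i • (sr i : Fin l → ℤ) = x
  rw [zero_smul, zero_add, ← IsMC.eq_sum_sr]

theorem smul_mem_of (H : AddSubgroup (Fin l → ℤ)) {z : Option (Fin l) → Prop} (hz : ∀ j, z j → al D l j ∈ H)
    (i0 : Option (Fin l)) {x : Fin l → ℤ} (h : ∀ i, z i ∨ mk D l i0 * cr0 x i = mk D l i * cr0 x i0) :
    mk D l i0 • x ∈ H := by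
  have e : mk D l i0 • x = ∑ j, (mk D l i0 * cr0 x j - mk D l j * cr0 x i0) • al D l j := by
    simp only [sub_smul, Finset.sum_sub_distrib, mul_smul, mul_comm (mk D l _) (cr0 x i0), ← Finset.smul_sum]
    rw [sum_cr0, sum_mk, smul_zero, sub_zero]
  rw [e]
  refine sum_mem fun j _ => ?_
  rcases h j with h1 | h1
  · exact H.zsmul_mem (hz j h1) _
  · rw [h1, sub_self, zero_smul]
    exact zero_mem H

/-- the extended nodes as lists -/
def alL (D : ChevalleyDatum) (l : ℕ) : Option (Fin l) → List ℤ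
  | none => (List.range l).map fun i => -rt D (D.nroots - 1) i
  | some j => (List.range l).map fun i => if i = j.val then 1 else 0

theorem tv_alL : ∀ j : Option (Fin l), tv l (alL D l j) = al D l j
  | none => funext fun i => tv_range _ i
  | some j => funext fun i => by
    rw [alL, tv_range]
    by_cases h : i = j
    · rw [h, if_pos rfl]
      exact (sr_self j).symm
    · rw [if_neg fun e => h (Fin.ext e)]
      exact (sr_ne h).symm

/-- the condition for one node -/
def nodeB (D : ChevalleyDatum) (l p : ℕ) (z : Option (Fin l) → Bool) (i0 j : Option (Fin l)) (F : List (List ℤ)) : Bool :=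
  F.length % p != 0 && decide (∀ i, z i = true ∨ mk D l i0 * cr0 (tv l (vsum F) - (F.length : ℤ) • al D l j) i =
    mk D l i * cr0 (tv l (vsum F) - (F.length : ℤ) • al D l j) i0)

/-- the check of `Cert`: `J` nodes in `S`, `g` a functional vanishing on `S`, `i0` a node whose mark is prime to `p` -/
def certB (D : ChevalleyDatum) (l p : ℕ) (R : List (List ℤ)) (J : List (Option (Fin l))) (g : List ℤ)
    (i0 : Option (Fin l)) (S : List (List ℤ)) : Bool :=
  (J.all fun j => S.elem (alL D l j)) && (S.all fun a => dot l a g == 0) && mk D l i0 % p != 0 &&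
    decide (∀ j, j = i0 ∨ J.elem j = true ∨
      nodeB D l p J.elem i0 j (R.filter fun a => dot l a g == dot l (alL D l j) g) = true)

theorem cert_of {p : ℕ} {J : List (Option (Fin l))} {g : List ℤ} {i0 : Option (Fin l)} {S : List (List ℤ)}
    (h : certB D l p (rootsL D l) J g i0 S = true) : Cert D l p (sv l S) := by
  simp only [certB, Bool.and_eq_true, List.all_eq_true, decide_eq_true_eq, beq_iff_eq, bne_iff_ne] at h
  obtain ⟨⟨⟨h1, h2⟩, h3⟩, h4⟩ := h
  intro H hS hd hg
  have hz : ∀ j, J.elem j = true → al D l j ∈ H := fun j hj =>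
    hS _ ⟨_, List.mem_of_elem_eq_true (h1 j (List.mem_of_elem_eq_true hj)), tv_alL j⟩
  have h3' : ¬ (p : ℤ) ∣ mk D l i0 := fun e => h3 (Int.emod_eq_zero_of_dvd e)
  have h5 : ∀ j, j ≠ i0 → al D l j ∈ H := fun j hj => by
    rcases (h4 j).resolve_left hj with h6 | h6
    · exact hz j h6
    · simp only [nodeB, Bool.and_eq_true, decide_eq_true_eq, bne_iff_ne] at h6
      have h7 := hd _ _ h3' (smul_mem_of H hz i0 h6.2)
      have h8 := hg (psi (tv l g)) (by
        rintro _ ⟨x, hx, rfl⟩
        rw [← dot_eq]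
        exact h2 x hx) (dot l (alL D l j) g)
      rw [← lvl_eq] at h8
      have h9 := H.sub_mem h8 h7
      rw [sub_sub_cancel] at h9
      exact hd _ _ (fun e => h6.1 (Nat.mod_eq_zero_of_dvd (Int.natCast_dvd_natCast.1 e))) h9
  have h6 : al D l i0 ∈ H := by
    refine hd _ _ h3' ?_
    have e := sum_mk (D := D) (l := l)
    rw [← Finset.add_sum_erase _ _ (Finset.mem_univ i0), add_eq_zero_iff_eq_neg] at e
    rw [e]
    exact neg_mem (sum_mem fun j hj => H.zsmul_mem (h5 j (Finset.ne_of_mem_erase hj)) _)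
  intro i
  by_cases h7 : some i = i0
  · rw [← h7] at h6
    exact h6
  · exact h5 _ h7

/-! ### forms and frames -/

/-- the form with the rows `B` -/
def fm (l : ℕ) (B : List (List ℤ)) (x y : Fin l → ℤ) : ℤ := ∑ i, x i * psi (tv l (B.getD i [])) y

/-- the product of a matrix and a vector -/
def mv (l : ℕ) (B : List (List ℤ)) (y : List ℤ) : List ℤ := (List.range l).map fun i => dot l y (B.getD i [])

theorem dot_mv (B : List (List ℤ)) (x y : List ℤ) : dot l x (mv l B y) = fm l B (tv l x) (tv l y) := by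
  rw [dot_eq, psi_apply, fm]
  exact Finset.sum_congr rfl fun i _ => by rw [mv, tv_range, dot_eq]

/-- the form is symmetric, and the norms of the roots are between `mn` and `mx` -/
def formB (l : ℕ) (R B : List (List ℤ)) (mn mx : ℤ) : Bool :=
  decide (∀ i j : Fin l, (B.getD i []).getD j 0 = (B.getD j []).getD i 0) && decide (0 < mn) &&
    R.all fun a => decide (mn ≤ dot l a (mv l B a) ∧ dot l a (mv l B a) ≤ mx)

/-- the properties of the form -/
structure FormP (D : ChevalleyDatum) (l : ℕ) (B : List (List ℤ)) (mn mx : ℤ) : Prop where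
  symm : ∀ x y, fm l B x y = fm l B y x
  pos : 0 < mn
  bd : ∀ a, Rt D l a → mn ≤ fm l B a a ∧ fm l B a a ≤ mx

theorem formP_of {B : List (List ℤ)} {mn mx : ℤ} (h : formB l (rootsL D l) B mn mx = true) : FormP D l B mn mx := by
  simp only [formB, Bool.and_eq_true, List.all_eq_true, decide_eq_true_eq] at h
  refine ⟨fun x y => ?_, h.1.2, fun a ha => ?_⟩
  · simp only [fm, psi_apply, Finset.mul_sum]
    rw [Finset.sum_comm]
    refine Finset.sum_congr rfl fun i _ => Finset.sum_congr rfl fun j _ => ?_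
    rw [tv, tv, h.1.1 i j]
    ring
  · obtain ⟨x, hx, rfl⟩ := mem_sv_roots.2 ha
    rw [← dot_mv]
    exact h.2 x hx

theorem fm_lin (B : List (List ℤ)) (x y z : Fin l → ℤ) (m n : ℤ) :
    fm l B x (m • y + n • z) = m * fm l B x y + n * fm l B x z := by
  simp only [fm, map_add, map_zsmul, smul_eq_mul, Finset.mul_sum, ← Finset.sum_add_distrib]
  exact Finset.sum_congr rfl fun i _ => by ring

variable {B : List (List ℤ)} {mn mx : ℤ}

theorem FormP.norm (F : FormP D l B mn mx) (y z : Fin l → ℤ) (m n : ℤ) : fm l B (m • y + n • z) (m • y + n • z) =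
    m ^ 2 * fm l B y y + 2 * m * n * fm l B y z + n ^ 2 * fm l B z z := by
  rw [fm_lin, F.symm _ y, F.symm _ z, fm_lin, fm_lin, F.symm z y]
  ring

theorem FormP.so (F : FormP D l B mn mx) {a b : Fin l → ℤ} (ha : 0 < fm l B a a) (hb : 0 ≤ fm l B b b)
    (h0 : fm l B a b = 0) (h : mx < fm l B a a + fm l B b b) : SO D l a b := by
  refine ⟨fun e => ?_, fun m n hm hn h1 => ?_⟩
  · have h1 := fm_lin B a a a (-1) 0
    rw [zero_smul, add_zero, neg_smul, one_smul, ← e, h0] at h1
    omega
  · have h2 := (F.bd _ h1).2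
    rw [F.norm, h0] at h2
    have h3 : (1 : ℤ) ≤ (m : ℤ) ^ 2 := one_le_pow₀ (by exact_mod_cast hm)
    have h4 : (1 : ℤ) ≤ (n : ℤ) ^ 2 := one_le_pow₀ (by exact_mod_cast hn)
    nlinarith

theorem FormP.afr (F : FormP D l B mn mx) {n : ℕ} {ev : Fin (n + 1) → Fin l → ℤ} {N : ℤ}
    (h : ∀ i j, i ≠ j → Rt D l (ev i - ev j) ∧ fm l B (ev i - ev j) (ev i - ev j) = N) (h0 : 0 < N) (h3 : mx < 3 * N)
    (h2 : n = 2 ∨ mx < 2 * N) : AFr D l ev := by
  have key : ∀ i j k, i ≠ j → j ≠ k → i ≠ k → 2 * fm l B (ev i - ev j) (ev j - ev k) = -N := fun i j k h1 h2 h3 => by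
    have h4 := F.norm (ev i - ev j) (ev j - ev k) 1 1
    rw [one_smul, one_smul, sub_add_sub_cancel, (h i k h3).2, (h i j h1).2, (h j k h2).2] at h4
    omega
  refine ⟨fun i j hij => (h i j hij).1, fun i j k h1 h4 h5 => ?_, fun i j k m h1 h4 h5 h6 h7 h8 => ?_⟩
  · have h6 := key i j k h1 h4 h5
    have h7 : ∀ m n : ℤ, Rt D l (m • (ev i - ev j) + n • (ev j - ev k)) → (m ^ 2 - m * n + n ^ 2) * N ≤ mx :=
      fun m n h7 => by
        have h8 := (F.bd _ h7).2
        rw [F.norm, (h i j h1).2, (h j k h4).2] at h8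
        refine le_trans (le_of_eq ?_) h8
        linear_combination (-(m * n)) * h6
    refine ⟨(h i j h1).1, (h j k h4).1, by rw [sub_add_sub_cancel]; exact (h i k h5).1, fun h8 => ?_, fun h8 => ?_,
      fun h8 => ?_⟩
    · have := h7 (-1) 1 (by rwa [neg_smul, one_smul, one_smul, neg_add_eq_sub])
      omega
    · have := h7 2 1 (by rwa [one_smul, add_comm])
      omega
    · have := h7 1 2 (by rwa [one_smul])
      omega
  · have h9 : mx < 2 * N := h2.resolve_left fun e => by
      subst e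
      omega
    refine F.so (by rw [(h i j h1).2]; exact h0) (by rw [(h k m h4).2]; exact h0.le) ?_
      (by rw [(h i j h1).2, (h k m h4).2]; omega)
    have a1 := key i j m h1 h8 h6
    have a2 := key i j k h1 h5 h7
    have a3 := fm_lin B (ev i - ev j) (ev j - ev m) (ev j - ev k) 1 (-1)
    rw [show (1 : ℤ) • (ev j - ev m) + (-1 : ℤ) • (ev j - ev k) = ev k - ev m by module] at a3
    omega

/-- the frame of a list -/
def evL (l : ℕ) (E : List (List ℤ)) : Fin (E.length - 1 + 1) → Fin l → ℤ := fun i => tv l (E.getD i [])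

/-- the differences -/
def difs (E : List (List ℤ)) : List (List ℤ) :=
  (List.range (E.length - 1 + 1)).flatMap fun i => ((List.range (E.length - 1 + 1)).filter fun j => i != j).map fun j =>
    vsub (E.getD i []) (E.getD j [])

theorem sv_difs (E : List (List ℤ)) : sv l (difs E) = Rts (evL l E) := by
  ext a
  simp only [sv, difs, List.mem_flatMap, List.mem_map, List.mem_filter, List.mem_range, bne_iff_ne, Set.mem_ofPred_eq]
  constructor
  · rintro ⟨_, ⟨i, hi, j, ⟨hj, hij⟩, rfl⟩, rfl⟩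
    exact ⟨⟨i, hi⟩, ⟨j, hj⟩, fun e => hij (congrArg Fin.val e), tv_vsub _ _⟩
  · rintro ⟨i, j, hij, rfl⟩
    exact ⟨_, ⟨i, i.2, j, ⟨j.2, fun e => hij (Fin.ext e)⟩, rfl⟩, tv_vsub _ _⟩

/-- the check of a frame whose roots have the norm `N` -/
def afrB (l p : ℕ) (R B : List (List ℤ)) (mx : ℤ) (E : ℤ × List (List ℤ)) : Bool :=
  decide (2 ≤ E.2.length - 1 ∧ (E.2.length - 1 = 2 → p = 3) ∧ 0 < E.1 ∧ mx < 3 * E.1 ∧
    (E.2.length - 1 = 2 ∨ mx < 2 * E.1)) && (difs E.2).all fun a => R.elem a && dot l a (mv l B a) == E.1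

/-- the properties of a frame -/
structure FrP (D : ChevalleyDatum) (l p : ℕ) (B : List (List ℤ)) (E : ℤ × List (List ℤ)) : Prop where
  afr : AFr D l (evL l E.2)
  two : 2 ≤ E.2.length - 1
  three : E.2.length - 1 = 2 → p = 3
  pos : 0 < E.1
  norm : ∀ a ∈ Rts (evL l E.2), fm l B a a = E.1

theorem frP_of (F : FormP D l B mn mx) {p : ℕ} {E : ℤ × List (List ℤ)} (h : afrB l p (rootsL D l) B mx E = true) :
    FrP D l p B E := by
  simp only [afrB, Bool.and_eq_true, List.all_eq_true, decide_eq_true_eq, beq_iff_eq] at h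
  obtain ⟨⟨h1, h2, h3, h4, h5⟩, h6⟩ := h
  have h7 : ∀ a ∈ Rts (evL l E.2), Rt D l a ∧ fm l B a a = E.1 := by
    rw [← sv_difs]
    rintro _ ⟨x, hx, rfl⟩
    exact ⟨mem_sv_roots.1 ⟨x, List.mem_of_elem_eq_true (h6 x hx).1, rfl⟩, by rw [← dot_mv]; exact (h6 x hx).2⟩
  exact ⟨F.afr (fun i j hij => h7 _ ⟨i, j, hij, rfl⟩) h3 h4 h5, h1, h2, h3, fun a ha => (h7 a ha).2⟩

/-- `b` is orthogonal to the vectors `W` -/
def orth (l : ℕ) (W : List (List ℤ)) (b : List ℤ) : Bool := W.all fun w => dot l b w == 0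

/-- the functionals of a frame -/
def wts (l : ℕ) (B E : List (List ℤ)) : List (List ℤ) := E.map fun x => mv l B (vsub x (E.getD 0 []))

theorem orth_iff {E : List (List ℤ)} (h : 2 ≤ E.length - 1) (b : List ℤ) :
    orth l (wts l B E) b = true ↔ ∀ a ∈ Rts (evL l E), fm l B (tv l b) a = 0 := by
  simp only [orth, wts, List.all_eq_true, List.forall_mem_map, beq_iff_eq, dot_mv, tv_vsub]
  constructor
  · rintro h1 _ ⟨i, j, -, rfl⟩
    have h2 : ∀ i : Fin (E.length - 1 + 1), fm l B (tv l b) (evL l E i - tv l (E.getD 0 [])) = 0 := fun i =>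
      h1 _ (by
        rw [List.getD_eq_getElem _ _ (by have := i.2; omega)]
        exact List.getElem_mem _)
    have h3 := fm_lin B (tv l b) (evL l E i - tv l (E.getD 0 [])) (evL l E j - tv l (E.getD 0 [])) 1 (-1)
    rw [h2, h2, show (1 : ℤ) • (evL l E i - tv l (E.getD 0 [])) + (-1 : ℤ) • (evL l E j - tv l (E.getD 0 [])) =
      evL l E i - evL l E j by module] at h3
    omega
  · intro h1 x hx
    obtain ⟨i, hi, rfl⟩ := List.getElem_of_mem hx
    rw [← List.getD_eq_getElem _ [] hi]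
    by_cases h0 : i = 0
    · have h3 := fm_lin B (tv l b) 0 0 0 0
      rw [h0, sub_self]
      simpa using h3
    · exact h1 _ ⟨⟨i, by omega⟩, 0, fun e => h0 (congrArg Fin.val e), rfl⟩

/-- the check of `Dec` -/
def decB (l : ℕ) (B : List (List ℤ)) (mn mx : ℤ) (fin : List (List ℤ) → Bool) :
    List (ℤ × List (List ℤ)) → List (List ℤ) → Bool
  | [], S => fin S
  | E :: Es, S => ((difs E.2).all fun a => S.elem a) &&
    (S.all fun b => orth l (wts l B E.2) b || (difs E.2).elem b) &&
    (decide (mx < E.1 + mn) || (S.filter (orth l (wts l B E.2))).isEmpty) &&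
    decB l B mn mx fin Es (S.filter (orth l (wts l B E.2)))

theorem dec_of (F : FormP D l B mn mx) {p : ℕ} {fin : List (List ℤ) → Bool} {P : Set (Fin l → ℤ) → Prop}
    (hP : ∀ S, fin S = true → P (sv l S)) : ∀ (Es : List (ℤ × List (List ℤ))), (∀ E ∈ Es, FrP D l p B E) →
      ∀ S : List (List ℤ), (∀ a ∈ sv l S, Rt D l a) → decB l B mn mx fin Es S = true → Dec D l p P (sv l S)
  | [], _, S, _, h => .base _ (hP S h)
  | E :: Es, hE, S, hS, h => by
    simp only [decB, Bool.and_eq_true, List.all_eq_true, Bool.or_eq_true, decide_eq_true_eq] at h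
    obtain ⟨⟨⟨h1, h2⟩, h3⟩, h4⟩ := h
    have H := hE E List.mem_cons_self
    have e1 := sv_filter (l := l) (P := fun b => ∀ a ∈ Rts (evL l E.2), fm l B b a = 0) S (orth_iff (B := B) H.two)
    have e2 : sv l S \ Rts (evL l E.2) = sv l (S.filter (orth l (wts l B E.2))) := by
      rw [e1]
      ext b
      constructor
      · rintro ⟨⟨x, hx, rfl⟩, h5⟩
        refine ⟨⟨x, hx, rfl⟩, (orth_iff H.two x).1 ((h2 x hx).resolve_right fun h6 => h5 ?_)⟩
        rw [← sv_difs]
        exact ⟨x, List.mem_of_elem_eq_true h6, rfl⟩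
      · rintro ⟨h5, h6⟩
        refine ⟨h5, fun h7 => ?_⟩
        have h8 := H.norm b h7
        have h9 := H.pos
        rw [h6 b h7] at h8
        omega
    refine .step _ _ (evL l E.2) H.afr H.two H.three ⟨?_, fun a ha b hb hn => ?_⟩ ?_
    · rw [← sv_difs]
      rintro _ ⟨x, hx, rfl⟩
      exact ⟨x, List.mem_of_elem_eq_true (h1 x hx), rfl⟩
    · have h5 : b ∈ sv l (S.filter (orth l (wts l B E.2))) := e2 ▸ ⟨hb, hn⟩
      have h6 := (F.bd b (hS b hb)).1
      have h7 := F.pos
      have h8 : mx < E.1 + mn := h3.resolve_right fun h8 => by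
        obtain ⟨x, hx, -⟩ := h5
        rw [List.isEmpty_iff.1 h8] at hx
        exact List.not_mem_nil hx
      rw [e1] at h5
      exact F.so (by rw [H.norm a ha]; exact H.pos) (by omega) (by rw [F.symm]; exact h5.2 a ha)
        (by rw [H.norm a ha]; omega)
    · rw [e2]
      refine dec_of F hP Es (fun E' hE' => hE E' (List.mem_cons_of_mem _ hE')) _ (fun a ha => hS a ?_) h4
      rw [e1] at ha
      exact ha.1

/-! ### Kac coordinates -/

/-- `f` holds for all `c` with `∑ m i * c i ≤ n` -/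
def allS : List ℕ → ℕ → (List ℤ → Bool) → Bool
  | [], _, f => f []
  | m :: ms, n, f => (List.range (n + 1)).all fun c => decide (n < m * c) || allS ms (n - m * c) fun v => f ((c : ℤ) :: v)

theorem allS_spec : ∀ (k : ℕ) (m c : Fin k → ℕ) (n : ℕ) (f : List ℤ → Bool), (∀ i, 0 < m i) → ∑ i, m i * c i ≤ n →
    allS (List.ofFn m) n f = true → f (List.ofFn fun i => (c i : ℤ)) = true
  | 0, _, _, _, _, _, _, h => h
  | k + 1, m, c, n, f, h0, h1, h => by
    rw [Fin.sum_univ_succ] at h1
    rw [List.ofFn_succ, allS, List.all_eq_true] at h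
    have h2 : c 0 ≤ m 0 * c 0 := Nat.le_mul_of_pos_left _ (h0 0)
    have h3 := h (c 0) (List.mem_range.2 (by omega))
    rw [Bool.or_eq_true, decide_eq_true_eq] at h3
    rw [List.ofFn_succ]
    exact allS_spec k (fun i => m i.succ) (fun i => c i.succ) _ _ (fun i => h0 _) (by omega) (h3.resolve_left (by omega))

theorem tv_ofFn (c : Fin l → ℤ) : tv l (List.ofFn c) = c := funext fun i => by simp [tv]

/-- the roots of the centralizer -/
def skL (l p : ℕ) (R : List (List ℤ)) (c : List ℤ) : List (List ℤ) := R.filter fun a => dot l a c % p == 0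

theorem sv_skL (p : ℕ) (c : Fin l → ℕ) :
    sv l (skL l p (rootsL D l) (List.ofFn fun i => (c i : ℤ))) = SK D l p c := by
  rw [skL, sv_filter (P := fun a => (p : ℤ) ∣ bb c a) _ fun x => by
    rw [beq_iff_eq, dot_eq, tv_ofFn]
    exact (Int.dvd_iff_emod_eq_zero ..).symm]
  ext a
  exact and_congr_left fun _ => mem_sv_roots

theorem kac_spec {p : ℕ} {c : Fin l → ℕ} {c0 : ℕ} (K : Kac D l p c c0) {m : Fin l → ℕ} (hm : ∀ i, hr D l i = m i ∧ 0 < m i)
    {f : List ℤ → Bool} (h : allS (List.ofFn m) p f = true) : f (List.ofFn fun i => (c i : ℤ)) = true := by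
  refine allS_spec l m c p f (fun i => (hm i).2) ?_ h
  have h1 := K.sum
  simp only [(hm _).1] at h1
  have h2 : c0 + ∑ i, m i * c i = p := by exact_mod_cast h1
  omega

/-- an entry of a table: Kac coordinates, frames, and the data of `certB` -/
structure Ent (l : ℕ) where
  /-- Kac coordinates -/
  c : List ℤ
  /-- frames -/
  fr : List ℕ
  /-- nodes in the rest -/
  J : List (Option (Fin l))
  /-- the functional -/
  g : List ℤ
  /-- the exceptional node -/
  i0 : Option (Fin l)

/-- the check of an entry -/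
def entB (l p : ℕ) (R B : List (List ℤ)) (mn mx : ℤ) (FL : List (ℤ × List (List ℤ))) {l' : ℕ}
    (fin : Ent l' → List (List ℤ) → Bool) (e : Ent l') : Bool :=
  (e.fr.all fun i => decide (i < FL.length)) &&
    decB l B mn mx (fin e) (e.fr.map fun i => FL.getD i (0, [])) (skL l p R e.c)

/-- **The table.** -/
theorem tab_of (F : FormP D l B mn mx) {p : ℕ} {FL : List (ℤ × List (List ℤ))}
    (hF : (FL.all (afrB l p (rootsL D l) B mx)) = true) {l' : ℕ} {fin : Ent l' → List (List ℤ) → Bool}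
    {P : Set (Fin l → ℤ) → Prop} (hP : ∀ e S, fin e S = true → P (sv l S)) {T : List (Ent l')}
    (hT : (T.all (entB l p (rootsL D l) B mn mx FL fin)) = true) {X : List (List ℤ)} {m : Fin l → ℕ}
    (hm : ∀ i, hr D l i = m i ∧ 0 < m i)
    (h : (allS (List.ofFn m) p fun v => X.elem v || T.any fun e => e.c == v) = true) {c : Fin l → ℕ} {c0 : ℕ}
    (K : Kac D l p c c0) : (List.ofFn fun i => (c i : ℤ)) ∈ X ∨ Dec D l p P (SK D l p c) := by
  have h1 := kac_spec K hm h
  rw [Bool.or_eq_true, List.any_eq_true] at h1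
  refine h1.imp List.mem_of_elem_eq_true ?_
  rintro ⟨e, he, h2⟩
  have h3 := List.all_eq_true.1 hT e he
  rw [entB, Bool.and_eq_true, List.all_eq_true, beq_iff_eq.1 h2] at h3
  rw [← sv_skL]
  refine dec_of F (hP e) _ (fun E hE => ?_) _ (fun a ha => ?_) h3.2
  · obtain ⟨i, hi, rfl⟩ := List.mem_map.1 hE
    rw [List.getD_eq_getElem _ _ (of_decide_eq_true (h3.1 i hi))]
    exact frP_of F (List.all_eq_true.1 hF _ (List.getElem_mem _))
  · rw [sv_skL] at ha
    exact ha.1

end Cfsg.Agent.BHZ.Exc.CovI
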