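import Cfsg.Agent.BHZ.Exc.CovIB

/-!
# S4806, exceptional groups: the roots and the forms (helper56)
-/

set_option autoImplicit false
set_option maxRecDepth 100000

namespace Cfsg.Agent.BHZ.Exc.CovI

open Cfsg Cfsg.Lie Cfsg.Lie.ChevalleyDatum
open Cfsg.Agent.H931.KC (Kac hr)

/-- the roots -/
def rG2 : List (List ℤ) := [
  ([-3, -2] : List ℤ), ([-3, -1] : List ℤ), ([-2, -1] : List ℤ), ([-1, -1] : List ℤ), ([-1, 0] : List ℤ),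
  ([0, -1] : List ℤ), ([0, 1] : List ℤ), ([1, 0] : List ℤ), ([1, 1] : List ℤ), ([2, 1] : List ℤ),
  ([3, 1] : List ℤ), ([3, 2] : List ℤ)]

theorem rG2_eq : rootsL chevG2 2 = rG2 := by decide +kernel

/-- the form -/
def bG2 : List (List ℤ) := [[2, -3], [-3, 6]]

theorem formG2 : FormP chevG2 2 bG2 2 6 := formP_of (by rw [rG2_eq]; decide +kernel)

theorem hrG2 : ∀ i, hr chevG2 2 i = (![3, 2] : Fin 2 → ℕ) i ∧ 0 < (![3, 2] : Fin 2 → ℕ) i := by decide +kernel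

/-- the roots -/
def rD4 : List (List ℤ) := [
  ([-1, -2, -1, -1] : List ℤ), ([-1, -1, -1, -1] : List ℤ), ([-1, -1, -1, 0] : List ℤ),
  ([-1, -1, 0, -1] : List ℤ), ([-1, -1, 0, 0] : List ℤ), ([-1, 0, 0, 0] : List ℤ),
  ([0, -1, -1, -1] : List ℤ), ([0, -1, -1, 0] : List ℤ), ([0, -1, 0, -1] : List ℤ),
  ([0, -1, 0, 0] : List ℤ), ([0, 0, -1, 0] : List ℤ), ([0, 0, 0, -1] : List ℤ),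
  ([0, 0, 0, 1] : List ℤ), ([0, 0, 1, 0] : List ℤ), ([0, 1, 0, 0] : List ℤ),
  ([0, 1, 0, 1] : List ℤ), ([0, 1, 1, 0] : List ℤ), ([0, 1, 1, 1] : List ℤ),
  ([1, 0, 0, 0] : List ℤ), ([1, 1, 0, 0] : List ℤ), ([1, 1, 0, 1] : List ℤ),
  ([1, 1, 1, 0] : List ℤ), ([1, 1, 1, 1] : List ℤ), ([1, 2, 1, 1] : List ℤ)]

theorem rD4_eq : rootsL chevD4 4 = rD4 := by decide +kernel

/-- the form -/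
def bD4 : List (List ℤ) := [[2, -1, 0, 0], [-1, 2, -1, -1], [0, -1, 2, 0], [0, -1, 0, 2]]

theorem formD4 : FormP chevD4 4 bD4 2 2 := formP_of (by rw [rD4_eq]; decide +kernel)

theorem hrD4 : ∀ i, hr chevD4 4 i = (![1, 2, 1, 1] : Fin 4 → ℕ) i ∧ 0 < (![1, 2, 1, 1] : Fin 4 → ℕ) i := by decide +kernel

/-- the roots -/
def rF4 : List (List ℤ) := [
  ([-2, -4, -3, -2] : List ℤ), ([-2, -4, -3, -1] : List ℤ), ([-2, -4, -2, -1] : List ℤ),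
  ([-2, -3, -2, -1] : List ℤ), ([-2, -2, -2, -1] : List ℤ), ([-2, -2, -1, -1] : List ℤ),
  ([-2, -2, -1, 0] : List ℤ), ([-1, -3, -2, -1] : List ℤ), ([-1, -2, -2, -1] : List ℤ),
  ([-1, -2, -1, -1] : List ℤ), ([-1, -2, -1, 0] : List ℤ), ([-1, -1, -1, -1] : List ℤ),
  ([-1, -1, -1, 0] : List ℤ), ([-1, -1, 0, 0] : List ℤ), ([-1, 0, 0, 0] : List ℤ),
  ([0, -2, -2, -1] : List ℤ), ([0, -2, -1, -1] : List ℤ), ([0, -2, -1, 0] : List ℤ),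
  ([0, -1, -1, -1] : List ℤ), ([0, -1, -1, 0] : List ℤ), ([0, -1, 0, 0] : List ℤ),
  ([0, 0, -1, -1] : List ℤ), ([0, 0, -1, 0] : List ℤ), ([0, 0, 0, -1] : List ℤ),
  ([0, 0, 0, 1] : List ℤ), ([0, 0, 1, 0] : List ℤ), ([0, 0, 1, 1] : List ℤ),
  ([0, 1, 0, 0] : List ℤ), ([0, 1, 1, 0] : List ℤ), ([0, 1, 1, 1] : List ℤ),
  ([0, 2, 1, 0] : List ℤ), ([0, 2, 1, 1] : List ℤ), ([0, 2, 2, 1] : List ℤ),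
  ([1, 0, 0, 0] : List ℤ), ([1, 1, 0, 0] : List ℤ), ([1, 1, 1, 0] : List ℤ),
  ([1, 1, 1, 1] : List ℤ), ([1, 2, 1, 0] : List ℤ), ([1, 2, 1, 1] : List ℤ),
  ([1, 2, 2, 1] : List ℤ), ([1, 3, 2, 1] : List ℤ), ([2, 2, 1, 0] : List ℤ),
  ([2, 2, 1, 1] : List ℤ), ([2, 2, 2, 1] : List ℤ), ([2, 3, 2, 1] : List ℤ),
  ([2, 4, 2, 1] : List ℤ), ([2, 4, 3, 1] : List ℤ), ([2, 4, 3, 2] : List ℤ)]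

theorem rF4_eq : rootsL chevF4 4 = rF4 := by decide +kernel

/-- the form -/
def bF4 : List (List ℤ) := [[2, -1, 0, 0], [-1, 2, -2, 0], [0, -2, 4, -2], [0, 0, -2, 4]]

theorem formF4 : FormP chevF4 4 bF4 2 4 := formP_of (by rw [rF4_eq]; decide +kernel)

theorem hrF4 : ∀ i, hr chevF4 4 i = (![2, 4, 3, 2] : Fin 4 → ℕ) i ∧ 0 < (![2, 4, 3, 2] : Fin 4 → ℕ) i := by decide +kernel

/-- the roots -/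
def rE6 : List (List ℤ) := [
  ([-1, -2, -2, -3, -2, -1] : List ℤ), ([-1, -1, -2, -3, -2, -1] : List ℤ),
  ([-1, -1, -2, -2, -2, -1] : List ℤ), ([-1, -1, -2, -2, -1, -1] : List ℤ),
  ([-1, -1, -2, -2, -1, 0] : List ℤ), ([-1, -1, -1, -2, -2, -1] : List ℤ),
  ([-1, -1, -1, -2, -1, -1] : List ℤ), ([-1, -1, -1, -2, -1, 0] : List ℤ),
  ([-1, -1, -1, -1, -1, -1] : List ℤ), ([-1, -1, -1, -1, -1, 0] : List ℤ),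
  ([-1, -1, -1, -1, 0, 0] : List ℤ), ([-1, 0, -1, -1, -1, -1] : List ℤ),
  ([-1, 0, -1, -1, -1, 0] : List ℤ), ([-1, 0, -1, -1, 0, 0] : List ℤ),
  ([-1, 0, -1, 0, 0, 0] : List ℤ), ([-1, 0, 0, 0, 0, 0] : List ℤ),
  ([0, -1, -1, -2, -2, -1] : List ℤ), ([0, -1, -1, -2, -1, -1] : List ℤ),
  ([0, -1, -1, -2, -1, 0] : List ℤ), ([0, -1, -1, -1, -1, -1] : List ℤ),
  ([0, -1, -1, -1, -1, 0] : List ℤ), ([0, -1, -1, -1, 0, 0] : List ℤ),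
  ([0, -1, 0, -1, -1, -1] : List ℤ), ([0, -1, 0, -1, -1, 0] : List ℤ),
  ([0, -1, 0, -1, 0, 0] : List ℤ), ([0, -1, 0, 0, 0, 0] : List ℤ),
  ([0, 0, -1, -1, -1, -1] : List ℤ), ([0, 0, -1, -1, -1, 0] : List ℤ),
  ([0, 0, -1, -1, 0, 0] : List ℤ), ([0, 0, -1, 0, 0, 0] : List ℤ),
  ([0, 0, 0, -1, -1, -1] : List ℤ), ([0, 0, 0, -1, -1, 0] : List ℤ),
  ([0, 0, 0, -1, 0, 0] : List ℤ), ([0, 0, 0, 0, -1, -1] : List ℤ),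
  ([0, 0, 0, 0, -1, 0] : List ℤ), ([0, 0, 0, 0, 0, -1] : List ℤ),
  ([0, 0, 0, 0, 0, 1] : List ℤ), ([0, 0, 0, 0, 1, 0] : List ℤ),
  ([0, 0, 0, 0, 1, 1] : List ℤ), ([0, 0, 0, 1, 0, 0] : List ℤ),
  ([0, 0, 0, 1, 1, 0] : List ℤ), ([0, 0, 0, 1, 1, 1] : List ℤ),
  ([0, 0, 1, 0, 0, 0] : List ℤ), ([0, 0, 1, 1, 0, 0] : List ℤ),
  ([0, 0, 1, 1, 1, 0] : List ℤ), ([0, 0, 1, 1, 1, 1] : List ℤ),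
  ([0, 1, 0, 0, 0, 0] : List ℤ), ([0, 1, 0, 1, 0, 0] : List ℤ),
  ([0, 1, 0, 1, 1, 0] : List ℤ), ([0, 1, 0, 1, 1, 1] : List ℤ),
  ([0, 1, 1, 1, 0, 0] : List ℤ), ([0, 1, 1, 1, 1, 0] : List ℤ),
  ([0, 1, 1, 1, 1, 1] : List ℤ), ([0, 1, 1, 2, 1, 0] : List ℤ),
  ([0, 1, 1, 2, 1, 1] : List ℤ), ([0, 1, 1, 2, 2, 1] : List ℤ),
  ([1, 0, 0, 0, 0, 0] : List ℤ), ([1, 0, 1, 0, 0, 0] : List ℤ),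
  ([1, 0, 1, 1, 0, 0] : List ℤ), ([1, 0, 1, 1, 1, 0] : List ℤ),
  ([1, 0, 1, 1, 1, 1] : List ℤ), ([1, 1, 1, 1, 0, 0] : List ℤ),
  ([1, 1, 1, 1, 1, 0] : List ℤ), ([1, 1, 1, 1, 1, 1] : List ℤ),
  ([1, 1, 1, 2, 1, 0] : List ℤ), ([1, 1, 1, 2, 1, 1] : List ℤ),
  ([1, 1, 1, 2, 2, 1] : List ℤ), ([1, 1, 2, 2, 1, 0] : List ℤ),
  ([1, 1, 2, 2, 1, 1] : List ℤ), ([1, 1, 2, 2, 2, 1] : List ℤ),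
  ([1, 1, 2, 3, 2, 1] : List ℤ), ([1, 2, 2, 3, 2, 1] : List ℤ)]

theorem rE6_eq : rootsL chevE6 6 = rE6 := by decide +kernel

/-- the form -/
def bE6 : List (List ℤ) := [[2, 0, -1, 0, 0, 0], [0, 2, 0, -1, 0, 0], [-1, 0, 2, -1, 0, 0], [0, -1, -1, 2, -1, 0], [0, 0, 0, -1, 2, -1], [0, 0, 0, 0, -1, 2]]

theorem formE6 : FormP chevE6 6 bE6 2 2 := formP_of (by rw [rE6_eq]; decide +kernel)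

theorem hrE6 : ∀ i, hr chevE6 6 i = (![1, 2, 2, 3, 2, 1] : Fin 6 → ℕ) i ∧ 0 < (![1, 2, 2, 3, 2, 1] : Fin 6 → ℕ) i := by decide +kernel

/-- the roots -/
def rE7 : List (List ℤ) := [
  ([-2, -2, -3, -4, -3, -2, -1] : List ℤ), ([-1, -2, -3, -4, -3, -2, -1] : List ℤ),
  ([-1, -2, -2, -4, -3, -2, -1] : List ℤ), ([-1, -2, -2, -3, -3, -2, -1] : List ℤ),
  ([-1, -2, -2, -3, -2, -2, -1] : List ℤ), ([-1, -2, -2, -3, -2, -1, -1] : List ℤ),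
  ([-1, -2, -2, -3, -2, -1, 0] : List ℤ), ([-1, -1, -2, -3, -3, -2, -1] : List ℤ),
  ([-1, -1, -2, -3, -2, -2, -1] : List ℤ), ([-1, -1, -2, -3, -2, -1, -1] : List ℤ),
  ([-1, -1, -2, -3, -2, -1, 0] : List ℤ), ([-1, -1, -2, -2, -2, -2, -1] : List ℤ),
  ([-1, -1, -2, -2, -2, -1, -1] : List ℤ), ([-1, -1, -2, -2, -2, -1, 0] : List ℤ),
  ([-1, -1, -2, -2, -1, -1, -1] : List ℤ), ([-1, -1, -2, -2, -1, -1, 0] : List ℤ),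
  ([-1, -1, -2, -2, -1, 0, 0] : List ℤ), ([-1, -1, -1, -2, -2, -2, -1] : List ℤ),
  ([-1, -1, -1, -2, -2, -1, -1] : List ℤ), ([-1, -1, -1, -2, -2, -1, 0] : List ℤ),
  ([-1, -1, -1, -2, -1, -1, -1] : List ℤ), ([-1, -1, -1, -2, -1, -1, 0] : List ℤ),
  ([-1, -1, -1, -2, -1, 0, 0] : List ℤ), ([-1, -1, -1, -1, -1, -1, -1] : List ℤ),
  ([-1, -1, -1, -1, -1, -1, 0] : List ℤ), ([-1, -1, -1, -1, -1, 0, 0] : List ℤ),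
  ([-1, -1, -1, -1, 0, 0, 0] : List ℤ), ([-1, 0, -1, -1, -1, -1, -1] : List ℤ),
  ([-1, 0, -1, -1, -1, -1, 0] : List ℤ), ([-1, 0, -1, -1, -1, 0, 0] : List ℤ),
  ([-1, 0, -1, -1, 0, 0, 0] : List ℤ), ([-1, 0, -1, 0, 0, 0, 0] : List ℤ),
  ([-1, 0, 0, 0, 0, 0, 0] : List ℤ), ([0, -1, -1, -2, -2, -2, -1] : List ℤ),
  ([0, -1, -1, -2, -2, -1, -1] : List ℤ), ([0, -1, -1, -2, -2, -1, 0] : List ℤ),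
  ([0, -1, -1, -2, -1, -1, -1] : List ℤ), ([0, -1, -1, -2, -1, -1, 0] : List ℤ),
  ([0, -1, -1, -2, -1, 0, 0] : List ℤ), ([0, -1, -1, -1, -1, -1, -1] : List ℤ),
  ([0, -1, -1, -1, -1, -1, 0] : List ℤ), ([0, -1, -1, -1, -1, 0, 0] : List ℤ),
  ([0, -1, -1, -1, 0, 0, 0] : List ℤ), ([0, -1, 0, -1, -1, -1, -1] : List ℤ),
  ([0, -1, 0, -1, -1, -1, 0] : List ℤ), ([0, -1, 0, -1, -1, 0, 0] : List ℤ),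
  ([0, -1, 0, -1, 0, 0, 0] : List ℤ), ([0, -1, 0, 0, 0, 0, 0] : List ℤ),
  ([0, 0, -1, -1, -1, -1, -1] : List ℤ), ([0, 0, -1, -1, -1, -1, 0] : List ℤ),
  ([0, 0, -1, -1, -1, 0, 0] : List ℤ), ([0, 0, -1, -1, 0, 0, 0] : List ℤ),
  ([0, 0, -1, 0, 0, 0, 0] : List ℤ), ([0, 0, 0, -1, -1, -1, -1] : List ℤ),
  ([0, 0, 0, -1, -1, -1, 0] : List ℤ), ([0, 0, 0, -1, -1, 0, 0] : List ℤ),
  ([0, 0, 0, -1, 0, 0, 0] : List ℤ), ([0, 0, 0, 0, -1, -1, -1] : List ℤ),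
  ([0, 0, 0, 0, -1, -1, 0] : List ℤ), ([0, 0, 0, 0, -1, 0, 0] : List ℤ),
  ([0, 0, 0, 0, 0, -1, -1] : List ℤ), ([0, 0, 0, 0, 0, -1, 0] : List ℤ),
  ([0, 0, 0, 0, 0, 0, -1] : List ℤ), ([0, 0, 0, 0, 0, 0, 1] : List ℤ),
  ([0, 0, 0, 0, 0, 1, 0] : List ℤ), ([0, 0, 0, 0, 0, 1, 1] : List ℤ),
  ([0, 0, 0, 0, 1, 0, 0] : List ℤ), ([0, 0, 0, 0, 1, 1, 0] : List ℤ),
  ([0, 0, 0, 0, 1, 1, 1] : List ℤ), ([0, 0, 0, 1, 0, 0, 0] : List ℤ),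
  ([0, 0, 0, 1, 1, 0, 0] : List ℤ), ([0, 0, 0, 1, 1, 1, 0] : List ℤ),
  ([0, 0, 0, 1, 1, 1, 1] : List ℤ), ([0, 0, 1, 0, 0, 0, 0] : List ℤ),
  ([0, 0, 1, 1, 0, 0, 0] : List ℤ), ([0, 0, 1, 1, 1, 0, 0] : List ℤ),
  ([0, 0, 1, 1, 1, 1, 0] : List ℤ), ([0, 0, 1, 1, 1, 1, 1] : List ℤ),
  ([0, 1, 0, 0, 0, 0, 0] : List ℤ), ([0, 1, 0, 1, 0, 0, 0] : List ℤ),
  ([0, 1, 0, 1, 1, 0, 0] : List ℤ), ([0, 1, 0, 1, 1, 1, 0] : List ℤ),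
  ([0, 1, 0, 1, 1, 1, 1] : List ℤ), ([0, 1, 1, 1, 0, 0, 0] : List ℤ),
  ([0, 1, 1, 1, 1, 0, 0] : List ℤ), ([0, 1, 1, 1, 1, 1, 0] : List ℤ),
  ([0, 1, 1, 1, 1, 1, 1] : List ℤ), ([0, 1, 1, 2, 1, 0, 0] : List ℤ),
  ([0, 1, 1, 2, 1, 1, 0] : List ℤ), ([0, 1, 1, 2, 1, 1, 1] : List ℤ),
  ([0, 1, 1, 2, 2, 1, 0] : List ℤ), ([0, 1, 1, 2, 2, 1, 1] : List ℤ),
  ([0, 1, 1, 2, 2, 2, 1] : List ℤ), ([1, 0, 0, 0, 0, 0, 0] : List ℤ),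
  ([1, 0, 1, 0, 0, 0, 0] : List ℤ), ([1, 0, 1, 1, 0, 0, 0] : List ℤ),
  ([1, 0, 1, 1, 1, 0, 0] : List ℤ), ([1, 0, 1, 1, 1, 1, 0] : List ℤ),
  ([1, 0, 1, 1, 1, 1, 1] : List ℤ), ([1, 1, 1, 1, 0, 0, 0] : List ℤ),
  ([1, 1, 1, 1, 1, 0, 0] : List ℤ), ([1, 1, 1, 1, 1, 1, 0] : List ℤ),
  ([1, 1, 1, 1, 1, 1, 1] : List ℤ), ([1, 1, 1, 2, 1, 0, 0] : List ℤ),
  ([1, 1, 1, 2, 1, 1, 0] : List ℤ), ([1, 1, 1, 2, 1, 1, 1] : List ℤ),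
  ([1, 1, 1, 2, 2, 1, 0] : List ℤ), ([1, 1, 1, 2, 2, 1, 1] : List ℤ),
  ([1, 1, 1, 2, 2, 2, 1] : List ℤ), ([1, 1, 2, 2, 1, 0, 0] : List ℤ),
  ([1, 1, 2, 2, 1, 1, 0] : List ℤ), ([1, 1, 2, 2, 1, 1, 1] : List ℤ),
  ([1, 1, 2, 2, 2, 1, 0] : List ℤ), ([1, 1, 2, 2, 2, 1, 1] : List ℤ),
  ([1, 1, 2, 2, 2, 2, 1] : List ℤ), ([1, 1, 2, 3, 2, 1, 0] : List ℤ),
  ([1, 1, 2, 3, 2, 1, 1] : List ℤ), ([1, 1, 2, 3, 2, 2, 1] : List ℤ),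
  ([1, 1, 2, 3, 3, 2, 1] : List ℤ), ([1, 2, 2, 3, 2, 1, 0] : List ℤ),
  ([1, 2, 2, 3, 2, 1, 1] : List ℤ), ([1, 2, 2, 3, 2, 2, 1] : List ℤ),
  ([1, 2, 2, 3, 3, 2, 1] : List ℤ), ([1, 2, 2, 4, 3, 2, 1] : List ℤ),
  ([1, 2, 3, 4, 3, 2, 1] : List ℤ), ([2, 2, 3, 4, 3, 2, 1] : List ℤ)]

theorem rE7_eq : rootsL chevE7 7 = rE7 := by decide +kernel

/-- the form -/
def bE7 : List (List ℤ) := [[2, 0, -1, 0, 0, 0, 0], [0, 2, 0, -1, 0, 0, 0], [-1, 0, 2, -1, 0, 0, 0], [0, -1, -1, 2, -1, 0, 0], [0, 0, 0, -1, 2, -1, 0], [0, 0, 0, 0, -1, 2, -1], [0, 0, 0, 0, 0, -1, 2]]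

theorem formE7 : FormP chevE7 7 bE7 2 2 := formP_of (by rw [rE7_eq]; decide +kernel)

theorem hrE7 : ∀ i, hr chevE7 7 i = (![2, 2, 3, 4, 3, 2, 1] : Fin 7 → ℕ) i ∧ 0 < (![2, 2, 3, 4, 3, 2, 1] : Fin 7 → ℕ) i := by decide +kernel

/-- the roots -/
def rE8 : List (List ℤ) := [
  ([-2, -3, -4, -6, -5, -4, -3, -2] : List ℤ), ([-2, -3, -4, -6, -5, -4, -3, -1] : List ℤ),
  ([-2, -3, -4, -6, -5, -4, -2, -1] : List ℤ), ([-2, -3, -4, -6, -5, -3, -2, -1] : List ℤ),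
  ([-2, -3, -4, -6, -4, -3, -2, -1] : List ℤ), ([-2, -3, -4, -5, -4, -3, -2, -1] : List ℤ),
  ([-2, -3, -3, -5, -4, -3, -2, -1] : List ℤ), ([-2, -2, -4, -5, -4, -3, -2, -1] : List ℤ),
  ([-2, -2, -3, -5, -4, -3, -2, -1] : List ℤ), ([-2, -2, -3, -4, -4, -3, -2, -1] : List ℤ),
  ([-2, -2, -3, -4, -3, -3, -2, -1] : List ℤ), ([-2, -2, -3, -4, -3, -2, -2, -1] : List ℤ),
  ([-2, -2, -3, -4, -3, -2, -1, -1] : List ℤ), ([-2, -2, -3, -4, -3, -2, -1, 0] : List ℤ),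
  ([-1, -3, -3, -5, -4, -3, -2, -1] : List ℤ), ([-1, -2, -3, -5, -4, -3, -2, -1] : List ℤ),
  ([-1, -2, -3, -4, -4, -3, -2, -1] : List ℤ), ([-1, -2, -3, -4, -3, -3, -2, -1] : List ℤ),
  ([-1, -2, -3, -4, -3, -2, -2, -1] : List ℤ), ([-1, -2, -3, -4, -3, -2, -1, -1] : List ℤ),
  ([-1, -2, -3, -4, -3, -2, -1, 0] : List ℤ), ([-1, -2, -2, -4, -4, -3, -2, -1] : List ℤ),
  ([-1, -2, -2, -4, -3, -3, -2, -1] : List ℤ), ([-1, -2, -2, -4, -3, -2, -2, -1] : List ℤ),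
  ([-1, -2, -2, -4, -3, -2, -1, -1] : List ℤ), ([-1, -2, -2, -4, -3, -2, -1, 0] : List ℤ),
  ([-1, -2, -2, -3, -3, -3, -2, -1] : List ℤ), ([-1, -2, -2, -3, -3, -2, -2, -1] : List ℤ),
  ([-1, -2, -2, -3, -3, -2, -1, -1] : List ℤ), ([-1, -2, -2, -3, -3, -2, -1, 0] : List ℤ),
  ([-1, -2, -2, -3, -2, -2, -2, -1] : List ℤ), ([-1, -2, -2, -3, -2, -2, -1, -1] : List ℤ),
  ([-1, -2, -2, -3, -2, -2, -1, 0] : List ℤ), ([-1, -2, -2, -3, -2, -1, -1, -1] : List ℤ),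
  ([-1, -2, -2, -3, -2, -1, -1, 0] : List ℤ), ([-1, -2, -2, -3, -2, -1, 0, 0] : List ℤ),
  ([-1, -1, -2, -3, -3, -3, -2, -1] : List ℤ), ([-1, -1, -2, -3, -3, -2, -2, -1] : List ℤ),
  ([-1, -1, -2, -3, -3, -2, -1, -1] : List ℤ), ([-1, -1, -2, -3, -3, -2, -1, 0] : List ℤ),
  ([-1, -1, -2, -3, -2, -2, -2, -1] : List ℤ), ([-1, -1, -2, -3, -2, -2, -1, -1] : List ℤ),
  ([-1, -1, -2, -3, -2, -2, -1, 0] : List ℤ), ([-1, -1, -2, -3, -2, -1, -1, -1] : List ℤ),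
  ([-1, -1, -2, -3, -2, -1, -1, 0] : List ℤ), ([-1, -1, -2, -3, -2, -1, 0, 0] : List ℤ),
  ([-1, -1, -2, -2, -2, -2, -2, -1] : List ℤ), ([-1, -1, -2, -2, -2, -2, -1, -1] : List ℤ),
  ([-1, -1, -2, -2, -2, -2, -1, 0] : List ℤ), ([-1, -1, -2, -2, -2, -1, -1, -1] : List ℤ),
  ([-1, -1, -2, -2, -2, -1, -1, 0] : List ℤ), ([-1, -1, -2, -2, -2, -1, 0, 0] : List ℤ),
  ([-1, -1, -2, -2, -1, -1, -1, -1] : List ℤ), ([-1, -1, -2, -2, -1, -1, -1, 0] : List ℤ),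
  ([-1, -1, -2, -2, -1, -1, 0, 0] : List ℤ), ([-1, -1, -2, -2, -1, 0, 0, 0] : List ℤ),
  ([-1, -1, -1, -2, -2, -2, -2, -1] : List ℤ), ([-1, -1, -1, -2, -2, -2, -1, -1] : List ℤ),
  ([-1, -1, -1, -2, -2, -2, -1, 0] : List ℤ), ([-1, -1, -1, -2, -2, -1, -1, -1] : List ℤ),
  ([-1, -1, -1, -2, -2, -1, -1, 0] : List ℤ), ([-1, -1, -1, -2, -2, -1, 0, 0] : List ℤ),
  ([-1, -1, -1, -2, -1, -1, -1, -1] : List ℤ), ([-1, -1, -1, -2, -1, -1, -1, 0] : List ℤ),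
  ([-1, -1, -1, -2, -1, -1, 0, 0] : List ℤ), ([-1, -1, -1, -2, -1, 0, 0, 0] : List ℤ),
  ([-1, -1, -1, -1, -1, -1, -1, -1] : List ℤ), ([-1, -1, -1, -1, -1, -1, -1, 0] : List ℤ),
  ([-1, -1, -1, -1, -1, -1, 0, 0] : List ℤ), ([-1, -1, -1, -1, -1, 0, 0, 0] : List ℤ),
  ([-1, -1, -1, -1, 0, 0, 0, 0] : List ℤ), ([-1, 0, -1, -1, -1, -1, -1, -1] : List ℤ),
  ([-1, 0, -1, -1, -1, -1, -1, 0] : List ℤ), ([-1, 0, -1, -1, -1, -1, 0, 0] : List ℤ),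
  ([-1, 0, -1, -1, -1, 0, 0, 0] : List ℤ), ([-1, 0, -1, -1, 0, 0, 0, 0] : List ℤ),
  ([-1, 0, -1, 0, 0, 0, 0, 0] : List ℤ), ([-1, 0, 0, 0, 0, 0, 0, 0] : List ℤ),
  ([0, -1, -1, -2, -2, -2, -2, -1] : List ℤ), ([0, -1, -1, -2, -2, -2, -1, -1] : List ℤ),
  ([0, -1, -1, -2, -2, -2, -1, 0] : List ℤ), ([0, -1, -1, -2, -2, -1, -1, -1] : List ℤ),
  ([0, -1, -1, -2, -2, -1, -1, 0] : List ℤ), ([0, -1, -1, -2, -2, -1, 0, 0] : List ℤ),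
  ([0, -1, -1, -2, -1, -1, -1, -1] : List ℤ), ([0, -1, -1, -2, -1, -1, -1, 0] : List ℤ),
  ([0, -1, -1, -2, -1, -1, 0, 0] : List ℤ), ([0, -1, -1, -2, -1, 0, 0, 0] : List ℤ),
  ([0, -1, -1, -1, -1, -1, -1, -1] : List ℤ), ([0, -1, -1, -1, -1, -1, -1, 0] : List ℤ),
  ([0, -1, -1, -1, -1, -1, 0, 0] : List ℤ), ([0, -1, -1, -1, -1, 0, 0, 0] : List ℤ),
  ([0, -1, -1, -1, 0, 0, 0, 0] : List ℤ), ([0, -1, 0, -1, -1, -1, -1, -1] : List ℤ),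
  ([0, -1, 0, -1, -1, -1, -1, 0] : List ℤ), ([0, -1, 0, -1, -1, -1, 0, 0] : List ℤ),
  ([0, -1, 0, -1, -1, 0, 0, 0] : List ℤ), ([0, -1, 0, -1, 0, 0, 0, 0] : List ℤ),
  ([0, -1, 0, 0, 0, 0, 0, 0] : List ℤ), ([0, 0, -1, -1, -1, -1, -1, -1] : List ℤ),
  ([0, 0, -1, -1, -1, -1, -1, 0] : List ℤ), ([0, 0, -1, -1, -1, -1, 0, 0] : List ℤ),
  ([0, 0, -1, -1, -1, 0, 0, 0] : List ℤ), ([0, 0, -1, -1, 0, 0, 0, 0] : List ℤ),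
  ([0, 0, -1, 0, 0, 0, 0, 0] : List ℤ), ([0, 0, 0, -1, -1, -1, -1, -1] : List ℤ),
  ([0, 0, 0, -1, -1, -1, -1, 0] : List ℤ), ([0, 0, 0, -1, -1, -1, 0, 0] : List ℤ),
  ([0, 0, 0, -1, -1, 0, 0, 0] : List ℤ), ([0, 0, 0, -1, 0, 0, 0, 0] : List ℤ),
  ([0, 0, 0, 0, -1, -1, -1, -1] : List ℤ), ([0, 0, 0, 0, -1, -1, -1, 0] : List ℤ),
  ([0, 0, 0, 0, -1, -1, 0, 0] : List ℤ), ([0, 0, 0, 0, -1, 0, 0, 0] : List ℤ),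
  ([0, 0, 0, 0, 0, -1, -1, -1] : List ℤ), ([0, 0, 0, 0, 0, -1, -1, 0] : List ℤ),
  ([0, 0, 0, 0, 0, -1, 0, 0] : List ℤ), ([0, 0, 0, 0, 0, 0, -1, -1] : List ℤ),
  ([0, 0, 0, 0, 0, 0, -1, 0] : List ℤ), ([0, 0, 0, 0, 0, 0, 0, -1] : List ℤ),
  ([0, 0, 0, 0, 0, 0, 0, 1] : List ℤ), ([0, 0, 0, 0, 0, 0, 1, 0] : List ℤ),
  ([0, 0, 0, 0, 0, 0, 1, 1] : List ℤ), ([0, 0, 0, 0, 0, 1, 0, 0] : List ℤ),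
  ([0, 0, 0, 0, 0, 1, 1, 0] : List ℤ), ([0, 0, 0, 0, 0, 1, 1, 1] : List ℤ),
  ([0, 0, 0, 0, 1, 0, 0, 0] : List ℤ), ([0, 0, 0, 0, 1, 1, 0, 0] : List ℤ),
  ([0, 0, 0, 0, 1, 1, 1, 0] : List ℤ), ([0, 0, 0, 0, 1, 1, 1, 1] : List ℤ),
  ([0, 0, 0, 1, 0, 0, 0, 0] : List ℤ), ([0, 0, 0, 1, 1, 0, 0, 0] : List ℤ),
  ([0, 0, 0, 1, 1, 1, 0, 0] : List ℤ), ([0, 0, 0, 1, 1, 1, 1, 0] : List ℤ),
  ([0, 0, 0, 1, 1, 1, 1, 1] : List ℤ), ([0, 0, 1, 0, 0, 0, 0, 0] : List ℤ),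
  ([0, 0, 1, 1, 0, 0, 0, 0] : List ℤ), ([0, 0, 1, 1, 1, 0, 0, 0] : List ℤ),
  ([0, 0, 1, 1, 1, 1, 0, 0] : List ℤ), ([0, 0, 1, 1, 1, 1, 1, 0] : List ℤ),
  ([0, 0, 1, 1, 1, 1, 1, 1] : List ℤ), ([0, 1, 0, 0, 0, 0, 0, 0] : List ℤ),
  ([0, 1, 0, 1, 0, 0, 0, 0] : List ℤ), ([0, 1, 0, 1, 1, 0, 0, 0] : List ℤ),
  ([0, 1, 0, 1, 1, 1, 0, 0] : List ℤ), ([0, 1, 0, 1, 1, 1, 1, 0] : List ℤ),
  ([0, 1, 0, 1, 1, 1, 1, 1] : List ℤ), ([0, 1, 1, 1, 0, 0, 0, 0] : List ℤ),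
  ([0, 1, 1, 1, 1, 0, 0, 0] : List ℤ), ([0, 1, 1, 1, 1, 1, 0, 0] : List ℤ),
  ([0, 1, 1, 1, 1, 1, 1, 0] : List ℤ), ([0, 1, 1, 1, 1, 1, 1, 1] : List ℤ),
  ([0, 1, 1, 2, 1, 0, 0, 0] : List ℤ), ([0, 1, 1, 2, 1, 1, 0, 0] : List ℤ),
  ([0, 1, 1, 2, 1, 1, 1, 0] : List ℤ), ([0, 1, 1, 2, 1, 1, 1, 1] : List ℤ),
  ([0, 1, 1, 2, 2, 1, 0, 0] : List ℤ), ([0, 1, 1, 2, 2, 1, 1, 0] : List ℤ),
  ([0, 1, 1, 2, 2, 1, 1, 1] : List ℤ), ([0, 1, 1, 2, 2, 2, 1, 0] : List ℤ),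
  ([0, 1, 1, 2, 2, 2, 1, 1] : List ℤ), ([0, 1, 1, 2, 2, 2, 2, 1] : List ℤ),
  ([1, 0, 0, 0, 0, 0, 0, 0] : List ℤ), ([1, 0, 1, 0, 0, 0, 0, 0] : List ℤ),
  ([1, 0, 1, 1, 0, 0, 0, 0] : List ℤ), ([1, 0, 1, 1, 1, 0, 0, 0] : List ℤ),
  ([1, 0, 1, 1, 1, 1, 0, 0] : List ℤ), ([1, 0, 1, 1, 1, 1, 1, 0] : List ℤ),
  ([1, 0, 1, 1, 1, 1, 1, 1] : List ℤ), ([1, 1, 1, 1, 0, 0, 0, 0] : List ℤ),
  ([1, 1, 1, 1, 1, 0, 0, 0] : List ℤ), ([1, 1, 1, 1, 1, 1, 0, 0] : List ℤ),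
  ([1, 1, 1, 1, 1, 1, 1, 0] : List ℤ), ([1, 1, 1, 1, 1, 1, 1, 1] : List ℤ),
  ([1, 1, 1, 2, 1, 0, 0, 0] : List ℤ), ([1, 1, 1, 2, 1, 1, 0, 0] : List ℤ),
  ([1, 1, 1, 2, 1, 1, 1, 0] : List ℤ), ([1, 1, 1, 2, 1, 1, 1, 1] : List ℤ),
  ([1, 1, 1, 2, 2, 1, 0, 0] : List ℤ), ([1, 1, 1, 2, 2, 1, 1, 0] : List ℤ),
  ([1, 1, 1, 2, 2, 1, 1, 1] : List ℤ), ([1, 1, 1, 2, 2, 2, 1, 0] : List ℤ),
  ([1, 1, 1, 2, 2, 2, 1, 1] : List ℤ), ([1, 1, 1, 2, 2, 2, 2, 1] : List ℤ),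
  ([1, 1, 2, 2, 1, 0, 0, 0] : List ℤ), ([1, 1, 2, 2, 1, 1, 0, 0] : List ℤ),
  ([1, 1, 2, 2, 1, 1, 1, 0] : List ℤ), ([1, 1, 2, 2, 1, 1, 1, 1] : List ℤ),
  ([1, 1, 2, 2, 2, 1, 0, 0] : List ℤ), ([1, 1, 2, 2, 2, 1, 1, 0] : List ℤ),
  ([1, 1, 2, 2, 2, 1, 1, 1] : List ℤ), ([1, 1, 2, 2, 2, 2, 1, 0] : List ℤ),
  ([1, 1, 2, 2, 2, 2, 1, 1] : List ℤ), ([1, 1, 2, 2, 2, 2, 2, 1] : List ℤ),
  ([1, 1, 2, 3, 2, 1, 0, 0] : List ℤ), ([1, 1, 2, 3, 2, 1, 1, 0] : List ℤ),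
  ([1, 1, 2, 3, 2, 1, 1, 1] : List ℤ), ([1, 1, 2, 3, 2, 2, 1, 0] : List ℤ),
  ([1, 1, 2, 3, 2, 2, 1, 1] : List ℤ), ([1, 1, 2, 3, 2, 2, 2, 1] : List ℤ),
  ([1, 1, 2, 3, 3, 2, 1, 0] : List ℤ), ([1, 1, 2, 3, 3, 2, 1, 1] : List ℤ),
  ([1, 1, 2, 3, 3, 2, 2, 1] : List ℤ), ([1, 1, 2, 3, 3, 3, 2, 1] : List ℤ),
  ([1, 2, 2, 3, 2, 1, 0, 0] : List ℤ), ([1, 2, 2, 3, 2, 1, 1, 0] : List ℤ),
  ([1, 2, 2, 3, 2, 1, 1, 1] : List ℤ), ([1, 2, 2, 3, 2, 2, 1, 0] : List ℤ),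
  ([1, 2, 2, 3, 2, 2, 1, 1] : List ℤ), ([1, 2, 2, 3, 2, 2, 2, 1] : List ℤ),
  ([1, 2, 2, 3, 3, 2, 1, 0] : List ℤ), ([1, 2, 2, 3, 3, 2, 1, 1] : List ℤ),
  ([1, 2, 2, 3, 3, 2, 2, 1] : List ℤ), ([1, 2, 2, 3, 3, 3, 2, 1] : List ℤ),
  ([1, 2, 2, 4, 3, 2, 1, 0] : List ℤ), ([1, 2, 2, 4, 3, 2, 1, 1] : List ℤ),
  ([1, 2, 2, 4, 3, 2, 2, 1] : List ℤ), ([1, 2, 2, 4, 3, 3, 2, 1] : List ℤ),
  ([1, 2, 2, 4, 4, 3, 2, 1] : List ℤ), ([1, 2, 3, 4, 3, 2, 1, 0] : List ℤ),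
  ([1, 2, 3, 4, 3, 2, 1, 1] : List ℤ), ([1, 2, 3, 4, 3, 2, 2, 1] : List ℤ),
  ([1, 2, 3, 4, 3, 3, 2, 1] : List ℤ), ([1, 2, 3, 4, 4, 3, 2, 1] : List ℤ),
  ([1, 2, 3, 5, 4, 3, 2, 1] : List ℤ), ([1, 3, 3, 5, 4, 3, 2, 1] : List ℤ),
  ([2, 2, 3, 4, 3, 2, 1, 0] : List ℤ), ([2, 2, 3, 4, 3, 2, 1, 1] : List ℤ),
  ([2, 2, 3, 4, 3, 2, 2, 1] : List ℤ), ([2, 2, 3, 4, 3, 3, 2, 1] : List ℤ),
  ([2, 2, 3, 4, 4, 3, 2, 1] : List ℤ), ([2, 2, 3, 5, 4, 3, 2, 1] : List ℤ),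
  ([2, 2, 4, 5, 4, 3, 2, 1] : List ℤ), ([2, 3, 3, 5, 4, 3, 2, 1] : List ℤ),
  ([2, 3, 4, 5, 4, 3, 2, 1] : List ℤ), ([2, 3, 4, 6, 4, 3, 2, 1] : List ℤ),
  ([2, 3, 4, 6, 5, 3, 2, 1] : List ℤ), ([2, 3, 4, 6, 5, 4, 2, 1] : List ℤ),
  ([2, 3, 4, 6, 5, 4, 3, 1] : List ℤ), ([2, 3, 4, 6, 5, 4, 3, 2] : List ℤ)]

theorem rE8_eq : rootsL chevE8 8 = rE8 := by decide +kernel

/-- the form -/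
def bE8 : List (List ℤ) := [[2, 0, -1, 0, 0, 0, 0, 0], [0, 2, 0, -1, 0, 0, 0, 0], [-1, 0, 2, -1, 0, 0, 0, 0], [0, -1, -1, 2, -1, 0, 0, 0], [0, 0, 0, -1, 2, -1, 0, 0], [0, 0, 0, 0, -1, 2, -1, 0], [0, 0, 0, 0, 0, -1, 2, -1], [0, 0, 0, 0, 0, 0, -1, 2]]

theorem formE8 : FormP chevE8 8 bE8 2 2 := formP_of (by rw [rE8_eq]; decide +kernel)

theorem hrE8 : ∀ i, hr chevE8 8 i = (![2, 3, 4, 6, 5, 4, 3, 2] : Fin 8 → ℕ) i ∧ 0 < (![2, 3, 4, 6, 5, 4, 3, 2] : Fin 8 → ℕ) i := by decide +kernel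

/-- the final check -/
def finB (D : ChevalleyDatum) (l p : ℕ) (R : List (List ℤ)) (e : Ent l) (S : List (List ℤ)) : Bool :=
  certB D l p R e.J e.g e.i0 S

end Cfsg.Agent.BHZ.Exc.CovI
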