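import Cfsg.Agent.BHZ.Exc.CovIR

/-!
# S4806, exceptional groups: tables of centralizers (helper56)
-/

set_option autoImplicit false
set_option maxRecDepth 100000

namespace Cfsg.Agent.BHZ.Exc.CovI

open Cfsg Cfsg.Lie Cfsg.Lie.ChevalleyDatum
open Cfsg.Agent.H931.KC (Kac hr)

/-- frames -/
def flG2x3 : List (ℤ × List (List ℤ)) := [
  (6, [[0, 0], [0, -1], [3, 1]])]

/-- the table -/
def tbG2x3 : List (Ent 2) := [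
  ⟨[0, 0], [], [some 0, some 1], [0, 0], none⟩,
  ⟨[0, 1], [], [some 0], [0, 2], none⟩,
  ⟨[1, 0], [0], [], [4, 1], none⟩]

theorem flG2x3_ok : (flG2x3.all (afrB 2 3 rG2 bG2 6)) = true := by decide +kernel

theorem tbG2x3_ok : (tbG2x3.all (entB 2 3 rG2 bG2 2 6 flG2x3 (finB chevG2 2 3 rG2))) = true := by
  decide +kernel

theorem tabG2x3 {c : Fin 2 → ℕ} {c0 : ℕ} (K : Kac chevG2 2 3 c c0) :
    (List.ofFn fun i => (c i : ℤ)) ∈ ([] : List (List ℤ)) ∨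
      Dec chevG2 2 3 (Cert chevG2 2 3) (SK chevG2 2 3 c) :=
  tab_of formG2 (by rw [rG2_eq]; exact flG2x3_ok) (fin := finB chevG2 2 3 (rootsL chevG2 2))
    (fun _ _ => cert_of) (by rw [rG2_eq]; exact tbG2x3_ok) hrG2 (by decide +kernel) K

/-- frames -/
def flD4x3 : List (ℤ × List (List ℤ)) := [
  (2, [[0, 0, 0, 0], [-1, 0, 0, 0], [-1, -1, 0, 0], [-1, -1, -1, 0]]),
  (2, [[0, 0, 0, 0], [-1, 0, 0, 0], [-1, -1, 0, 0], [-1, -1, 0, -1]]),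
  (2, [[0, 0, 0, 0], [-1, 0, 0, 0], [-1, -1, 0, 0]]),
  (2, [[0, 0, 0, 0], [-1, 0, 0, 0], [-1, -1, 0, 0], [0, 1, 1, 1]]),
  (2, [[0, 0, 0, 0], [0, 0, -1, 0], [0, -1, -1, 0], [0, -1, -1, -1]]),
  (2, [[0, 0, 0, 0], [0, -1, 0, 0], [0, -1, -1, 0]]),
  (2, [[0, 0, 0, 0], [0, 0, -1, 0], [0, -1, -1, 0], [1, 1, 0, 1]]),
  (2, [[0, 0, 0, 0], [0, -1, 0, 0], [0, -1, 0, -1]]),
  (2, [[0, 0, 0, 0], [0, -1, 0, 0], [1, 1, 1, 1]]),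
  (2, [[0, 0, 0, 0], [0, 0, 0, -1], [0, -1, 0, -1], [1, 1, 1, 0]])]

/-- the table -/
def tbD4x3 : List (Ent 4) := [
  ⟨[0, 0, 0, 0], [], [some 0, some 1, some 2, some 3], [0, 0, 0, 0], none⟩,
  ⟨[0, 0, 0, 1], [0], [], [-32, 15, -9, 4], some 0⟩,
  ⟨[0, 0, 0, 2], [0], [], [-28, 2, -7, 16], some 0⟩,
  ⟨[0, 0, 0, 3], [], [some 0, some 1, some 2, none], [0, 0, 0, 0], some 3⟩,
  ⟨[0, 0, 1, 0], [1], [], [30, -11, -9, -2], some 0⟩,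
  ⟨[0, 0, 1, 1], [2], [], [-18, -1, 4, 10], some 0⟩,
  ⟨[0, 0, 1, 2], [3], [], [-20, 2, 7, 3], some 0⟩,
  ⟨[0, 0, 2, 0], [1], [], [-34, 10, 9, 8], some 0⟩,
  ⟨[0, 0, 2, 1], [3], [], [-19, 2, 18, -16], some 0⟩,
  ⟨[0, 0, 3, 0], [], [some 0, some 1, some 3, none], [0, 0, 0, 0], some 2⟩,
  ⟨[0, 1, 0, 0], [], [some 0, some 2, some 3], [0, -1, 0, 0], none⟩,
  ⟨[0, 1, 0, 1], [], [some 0, some 2, none], [0, 1, 0, -2], some 3⟩,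
  ⟨[0, 1, 1, 0], [], [some 0, some 3, none], [0, 1, -2, 0], some 2⟩,
  ⟨[1, 0, 0, 0], [4], [], [-27, 12, -2, 1], some 0⟩,
  ⟨[1, 0, 0, 1], [5], [], [14, -2, -1, -5], some 0⟩,
  ⟨[1, 0, 0, 2], [6], [], [-23, 5, 4, -3], some 0⟩,
  ⟨[1, 0, 1, 0], [7], [], [-19, 12, 6, -13], some 0⟩,
  ⟨[1, 0, 1, 1], [8], [], [-24, 9, 3, 10], some 0⟩,
  ⟨[1, 0, 2, 0], [9], [], [18, -1, 3, -8], some 0⟩,
  ⟨[1, 1, 0, 0], [], [some 2, some 3, none], [-2, 1, 0, 0], some 0⟩,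
  ⟨[2, 0, 0, 0], [4], [], [11, -4, 10, -8], some 0⟩,
  ⟨[2, 0, 0, 1], [6], [], [14, -4, -1, -2], some 0⟩,
  ⟨[2, 0, 1, 0], [9], [], [17, -7, 2, -4], some 0⟩,
  ⟨[3, 0, 0, 0], [], [some 1, some 2, some 3, none], [0, 0, 0, 0], some 0⟩]

theorem flD4x3_ok : (flD4x3.all (afrB 4 3 rD4 bD4 2)) = true := by decide +kernel

theorem tbD4x3_ok : (tbD4x3.all (entB 4 3 rD4 bD4 2 2 flD4x3 (finB chevD4 4 3 rD4))) = true := by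
  decide +kernel

theorem tabD4x3 {c : Fin 4 → ℕ} {c0 : ℕ} (K : Kac chevD4 4 3 c c0) :
    (List.ofFn fun i => (c i : ℤ)) ∈ ([] : List (List ℤ)) ∨
      Dec chevD4 4 3 (Cert chevD4 4 3) (SK chevD4 4 3 c) :=
  tab_of formD4 (by rw [rD4_eq]; exact flD4x3_ok) (fin := finB chevD4 4 3 (rootsL chevD4 4))
    (fun _ _ => cert_of) (by rw [rD4_eq]; exact tbD4x3_ok) hrD4 (by decide +kernel) K

/-- frames -/
def flF4x3 : List (ℤ × List (List ℤ)) := [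
  (4, [[0, 0, 0, 0], [0, 0, 0, -1], [2, 4, 3, 1]]),
  (2, [[0, 0, 0, 0], [-1, 0, 0, 0], [-1, -1, 0, 0]])]

/-- the table -/
def tbF4x3 : List (Ent 4) := [
  ⟨[0, 0, 0, 0], [], [some 0, some 1, some 2, some 3], [0, 0, 0, 0], none⟩,
  ⟨[0, 0, 0, 1], [], [some 0, some 1, some 2], [0, 0, 0, -1], none⟩,
  ⟨[0, 0, 1, 0], [0, 1], [], [13, 19, 1, -12], none⟩,
  ⟨[1, 0, 0, 0], [], [some 1, some 2, some 3], [-1, 0, 0, 0], none⟩]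

theorem flF4x3_ok : (flF4x3.all (afrB 4 3 rF4 bF4 4)) = true := by decide +kernel

theorem tbF4x3_ok : (tbF4x3.all (entB 4 3 rF4 bF4 2 4 flF4x3 (finB chevF4 4 3 rF4))) = true := by
  decide +kernel

theorem tabF4x3 {c : Fin 4 → ℕ} {c0 : ℕ} (K : Kac chevF4 4 3 c c0) :
    (List.ofFn fun i => (c i : ℤ)) ∈ ([] : List (List ℤ)) ∨
      Dec chevF4 4 3 (Cert chevF4 4 3) (SK chevF4 4 3 c) :=
  tab_of formF4 (by rw [rF4_eq]; exact flF4x3_ok) (fin := finB chevF4 4 3 (rootsL chevF4 4))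
    (fun _ _ => cert_of) (by rw [rF4_eq]; exact tbF4x3_ok) hrF4 (by decide +kernel) K

/-- frames -/
def flE6x5 : List (ℤ × List (List ℤ)) := [
  (2, [[0, 0, 0, 0, 0, 0], [-1, 0, 0, 0, 0, 0], [-1, 0, -1, 0, 0, 0], [-1, 0, -1, -1, 0, 0], [-1, -1, -1, -1, 0, 0]]),
  (2, [[0, 0, 0, 0, 0, 0], [0, -1, 0, 0, 0, 0], [0, -1, 0, -1, 0, 0], [0, -1, 0, -1, -1, 0], [0, -1, 0, -1, -1, -1]]),
  (2, [[0, 0, 0, 0, 0, 0], [0, 0, 0, 0, -1, 0], [0, 0, 0, -1, -1, 0], [0, -1, 0, -1, -1, 0], [1, 1, 2, 2, 1, 1]]),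
  (2, [[0, 0, 0, 0, 0, 0], [-1, 0, 0, 0, 0, 0], [-1, 0, -1, 0, 0, 0], [-1, 0, -1, -1, 0, 0], [-1, 0, -1, -1, -1, 0]]),
  (2, [[0, 0, 0, 0, 0, 0], [0, 0, -1, 0, 0, 0], [0, 0, -1, -1, 0, 0], [0, -1, -1, -1, 0, 0], [1, 1, 1, 2, 2, 1]]),
  (2, [[0, 0, 0, 0, 0, 0], [0, 0, -1, 0, 0, 0], [0, 0, -1, -1, 0, 0], [0, 0, -1, -1, -1, 0], [0, 0, -1, -1, -1, -1]])]

/-- the table -/
def tbE6x5 : List (Ent 6) := [
  ⟨[0, 0, 0, 0, 0, 0], [], [some 0, some 1, some 2, some 3, some 4, some 5], [0, 0, 0, 0, 0, 0], none⟩,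
  ⟨[0, 0, 0, 0, 0, 1], [], [some 0, some 1, some 2, some 3, some 4], [0, 0, 0, 0, 0, -1], some 5⟩,
  ⟨[0, 0, 0, 0, 0, 2], [], [some 0, some 1, some 2, some 3, some 4], [0, 0, 0, 0, 0, -1], some 5⟩,
  ⟨[0, 0, 0, 0, 0, 3], [], [some 0, some 1, some 2, some 3, some 4], [0, 0, 0, 0, 0, 2], some 5⟩,
  ⟨[0, 0, 0, 0, 0, 4], [], [some 0, some 1, some 2, some 3, some 4], [0, 0, 0, 0, 0, 3], some 5⟩,
  ⟨[0, 0, 0, 0, 0, 5], [], [some 0, some 1, some 2, some 3, some 4, none], [0, 0, 0, 0, 0, 0], some 5⟩,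
  ⟨[0, 0, 0, 0, 1, 0], [0], [some 5], [74, 17, 5, -23, -21, 0], some 0⟩,
  ⟨[0, 0, 0, 0, 1, 1], [0], [], [-49, 13, 38, 15, -27, -9], some 0⟩,
  ⟨[0, 0, 0, 0, 1, 2], [0], [], [-87, -12, 22, 13, 10, 24], some 0⟩,
  ⟨[0, 0, 0, 0, 1, 3], [], [some 0, some 1, some 2, some 3, none], [0, 0, 0, 0, 2, -4], some 4⟩,
  ⟨[0, 0, 0, 0, 2, 0], [0], [some 5], [-81, 11, 9, 8, 5, 0], some 0⟩,
  ⟨[0, 0, 0, 0, 2, 1], [], [some 0, some 1, some 2, some 3, none], [0, 0, 0, 0, -1, 2], some 4⟩,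
  ⟨[0, 0, 0, 1, 0, 0], [], [some 0, some 2, some 1, some 4, some 5], [0, 0, 0, 1, 0, 0], none⟩,
  ⟨[0, 0, 0, 1, 0, 1], [], [some 0, some 2, some 1, some 4], [0, 0, 0, 5, 0, -13], some 5⟩,
  ⟨[0, 0, 0, 1, 0, 2], [], [some 0, some 2, some 1, none, some 4], [0, 0, 0, -1, 0, 3], some 5⟩,
  ⟨[0, 0, 0, 1, 1, 0], [], [some 0, some 2, some 1, none, some 5], [0, 0, 0, -2, 3, 0], some 4⟩,
  ⟨[0, 0, 1, 0, 0, 0], [1], [some 0], [0, -16, 8, 19, -7, -22], some 5⟩,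
  ⟨[0, 0, 1, 0, 0, 1], [], [some 0, some 1, some 3, some 4], [0, 0, 1, 0, 0, -6], some 5⟩,
  ⟨[0, 0, 1, 0, 0, 2], [], [some 0, some 1, some 3, some 4], [0, 0, -3, 0, 0, 8], some 5⟩,
  ⟨[0, 0, 1, 0, 0, 3], [2], [some 0], [0, 13, -4, 14, 2, -56], some 5⟩,
  ⟨[0, 0, 1, 0, 1, 0], [], [some 0, some 1, some 3, some 5], [0, 0, -5, 0, 1, 0], none⟩,
  ⟨[0, 0, 1, 0, 1, 1], [], [some 0, some 1, some 3, none], [0, 0, 3, 0, 1, -8], some 5⟩,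
  ⟨[0, 0, 1, 1, 0, 0], [], [some 0, some 1, none, some 4, some 5], [0, 0, -3, 2, 0, 0], some 2⟩,
  ⟨[0, 0, 2, 0, 0, 0], [1], [some 0], [0, 10, -1, 9, 11, -71], some 5⟩,
  ⟨[0, 0, 2, 0, 0, 1], [2], [some 0], [0, 19, 18, 14, -26, -69], some 5⟩,
  ⟨[0, 1, 0, 0, 0, 0], [], [some 0, some 2, some 3, some 4, some 5], [0, 1, 0, 0, 0, 0], some 1⟩,
  ⟨[0, 1, 0, 0, 0, 1], [3], [], [-85, 26, -6, 20, -21, 9], some 0⟩,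
  ⟨[0, 1, 0, 0, 0, 2], [3], [], [-162, -6, 23, 21, 28, 25], some 0⟩,
  ⟨[0, 1, 0, 0, 0, 3], [3], [none], [138, -17, -16, -13, -12, -9], some 0⟩,
  ⟨[0, 1, 0, 0, 1, 0], [], [some 0, some 2, some 3, some 5], [0, 1, 0, 0, -4, 0], none⟩,
  ⟨[0, 1, 0, 0, 1, 1], [], [some 0, some 2, some 3, none], [0, -2, 0, 0, -4, 12], some 5⟩,
  ⟨[0, 1, 0, 1, 0, 0], [], [some 0, some 2, some 4, some 5, none], [0, 6, 0, -4, 0, 0], some 1⟩,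
  ⟨[0, 1, 1, 0, 0, 0], [], [some 0, some 3, some 4, some 5], [0, -4, -2, 0, 0, 0], none⟩,
  ⟨[0, 1, 1, 0, 0, 1], [], [some 0, some 3, some 4, none], [0, 2, 1, 0, 0, -6], some 5⟩,
  ⟨[0, 2, 0, 0, 0, 0], [], [some 0, some 2, some 3, some 4, some 5], [0, 1, 0, 0, 0, 0], some 1⟩,
  ⟨[0, 2, 0, 0, 0, 1], [3], [none], [97, -1, -9, -13, -20, 2], some 0⟩,
  ⟨[1, 0, 0, 0, 0, 0], [], [some 1, some 2, some 3, some 4, some 5], [1, 0, 0, 0, 0, 0], some 0⟩,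
  ⟨[1, 0, 0, 0, 0, 1], [], [some 1, some 2, some 3, some 4], [4, 0, 0, 0, 0, -3], some 0⟩,
  ⟨[1, 0, 0, 0, 0, 2], [], [some 1, some 2, some 3, some 4], [4, 0, 0, 0, 0, -1], some 0⟩,
  ⟨[1, 0, 0, 0, 0, 3], [], [some 1, some 2, some 3, some 4], [3, 0, 0, 0, 0, 1], some 0⟩,
  ⟨[1, 0, 0, 0, 0, 4], [], [some 1, some 2, some 3, some 4, none], [-2, 0, 0, 0, 0, 2], some 0⟩,
  ⟨[1, 0, 0, 0, 1, 0], [], [some 1, some 2, some 3, some 5], [1, 0, 0, 0, -3, 0], some 0⟩,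
  ⟨[1, 0, 0, 0, 1, 1], [], [some 1, some 2, some 3], [15, 0, 0, 0, -7, 4], some 0⟩,
  ⟨[1, 0, 0, 0, 1, 2], [4], [], [-113, 26, -2, 32, -23, 36], some 0⟩,
  ⟨[1, 0, 0, 0, 2, 0], [4], [some 5], [44, -12, -8, -5, 4, 0], some 0⟩,
  ⟨[1, 0, 0, 1, 0, 0], [], [some 1, some 2, some 4, some 5], [-16, 0, 0, 3, 0, 0], some 0⟩,
  ⟨[1, 0, 0, 1, 0, 1], [], [some 1, none, some 2, some 4], [9, 0, 0, -4, 0, 3], some 0⟩,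
  ⟨[1, 0, 1, 0, 0, 0], [1], [], [-147, 22, 14, 17, 7, -3], some 0⟩,
  ⟨[1, 0, 1, 0, 0, 1], [], [some 1, some 3, some 4], [9, 0, -2, 0, 0, -4], some 0⟩,
  ⟨[1, 0, 1, 0, 0, 2], [2], [], [-37, 25, -26, 15, -9, -12], some 0⟩,
  ⟨[1, 0, 1, 0, 1, 0], [], [some 1, some 3, none, some 5], [8, 0, -3, 0, -1, 0], some 0⟩,
  ⟨[1, 0, 2, 0, 0, 0], [], [some 1, some 3, some 4, some 5, none], [-2, 0, 1, 0, 0, 0], some 2⟩,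
  ⟨[1, 1, 0, 0, 0, 0], [5], [], [69, 10, -11, -12, -16, -3], some 0⟩,
  ⟨[1, 1, 0, 0, 0, 1], [], [some 2, some 3, some 4], [-9, 3, 0, 0, 0, -2], some 0⟩,
  ⟨[1, 1, 0, 0, 0, 2], [], [some 2, some 3, some 4, none], [-9, 7, 0, 0, 0, -5], some 0⟩,
  ⟨[1, 1, 0, 0, 1, 0], [], [some 2, some 3, some 5, none], [10, -4, 0, 0, -1, 0], some 0⟩,
  ⟨[1, 1, 1, 0, 0, 0], [], [some 3, some 4, some 5, none], [6, -2, -1, 0, 0, 0], some 0⟩,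
  ⟨[1, 2, 0, 0, 0, 0], [5], [none], [-42, 4, 1, 8, 3, 2], some 0⟩,
  ⟨[2, 0, 0, 0, 0, 0], [], [some 1, some 2, some 3, some 4, some 5], [1, 0, 0, 0, 0, 0], some 0⟩,
  ⟨[2, 0, 0, 0, 0, 1], [], [some 1, some 2, some 3, some 4], [-3, 0, 0, 0, 0, 1], some 0⟩,
  ⟨[2, 0, 0, 0, 0, 2], [], [some 1, some 2, some 3, some 4], [-4, 0, 0, 0, 0, 5], some 0⟩,
  ⟨[2, 0, 0, 0, 0, 3], [], [some 1, some 2, some 3, some 4, none], [-1, 0, 0, 0, 0, 1], some 0⟩,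
  ⟨[2, 0, 0, 0, 1, 0], [], [some 1, some 2, some 3, some 5], [-5, 0, 0, 0, 1, 0], some 0⟩,
  ⟨[2, 0, 0, 0, 1, 1], [4], [], [-78, 14, 9, 1, 20, 8], some 0⟩,
  ⟨[2, 0, 0, 1, 0, 0], [], [some 1, none, some 2, some 4, some 5], [-3, 0, 0, 1, 0, 0], some 0⟩,
  ⟨[2, 0, 1, 0, 0, 0], [1], [], [147, -23, -22, -9, 1, -13], some 0⟩,
  ⟨[2, 0, 1, 0, 0, 1], [2], [], [-207, 41, 21, -6, 34, 25], some 0⟩,
  ⟨[2, 1, 0, 0, 0, 0], [5], [], [71, -10, 2, -5, -22, 34], some 0⟩,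
  ⟨[2, 1, 0, 0, 0, 1], [], [some 2, some 3, some 4, none], [-7, 4, 0, 0, 0, -1], some 0⟩,
  ⟨[3, 0, 0, 0, 0, 0], [], [some 1, some 2, some 3, some 4, some 5], [2, 0, 0, 0, 0, 0], some 0⟩,
  ⟨[3, 0, 0, 0, 0, 1], [], [some 1, some 2, some 3, some 4], [4, 0, 0, 0, 0, -3], some 0⟩,
  ⟨[3, 0, 0, 0, 0, 2], [], [some 1, some 2, some 3, some 4, none], [1, 0, 0, 0, 0, -1], some 0⟩,
  ⟨[3, 0, 0, 0, 1, 0], [4], [some 5], [-40, -14, -25, 23, 15, 0], some 0⟩,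
  ⟨[3, 0, 1, 0, 0, 0], [], [some 1, some 3, some 4, some 5, none], [2, 0, -1, 0, 0, 0], some 2⟩,
  ⟨[3, 1, 0, 0, 0, 0], [5], [none], [-54, -12, 4, 7, 15, 19], some 0⟩,
  ⟨[4, 0, 0, 0, 0, 0], [], [some 1, some 2, some 3, some 4, some 5], [1, 0, 0, 0, 0, 0], some 0⟩,
  ⟨[4, 0, 0, 0, 0, 1], [], [some 1, some 2, some 3, some 4, none], [1, 0, 0, 0, 0, -1], some 0⟩,
  ⟨[5, 0, 0, 0, 0, 0], [], [some 1, some 2, some 3, some 4, some 5, none], [0, 0, 0, 0, 0, 0], some 0⟩]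

theorem flE6x5_ok : (flE6x5.all (afrB 6 5 rE6 bE6 2)) = true := by decide +kernel

theorem tbE6x5_ok : (tbE6x5.all (entB 6 5 rE6 bE6 2 2 flE6x5 (finB chevE6 6 5 rE6))) = true := by
  decide +kernel

theorem tabE6x5 {c : Fin 6 → ℕ} {c0 : ℕ} (K : Kac chevE6 6 5 c c0) :
    (List.ofFn fun i => (c i : ℤ)) ∈ ([] : List (List ℤ)) ∨
      Dec chevE6 6 5 (Cert chevE6 6 5) (SK chevE6 6 5 c) :=
  tab_of formE6 (by rw [rE6_eq]; exact flE6x5_ok) (fin := finB chevE6 6 5 (rootsL chevE6 6))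
    (fun _ _ => cert_of) (by rw [rE6_eq]; exact tbE6x5_ok) hrE6 (by decide +kernel) K

/-- frames -/
def flE7x3 : List (ℤ × List (List ℤ)) := [
  (2, [[0, 0, 0, 0, 0, 0, 0], [0, -1, 0, 0, 0, 0, 0], [0, -1, 0, -1, 0, 0, 0], [0, -1, -1, -1, 0, 0, 0], [-1, -1, -1, -1, 0, 0, 0], [1, 1, 2, 3, 3, 2, 1]]),
  (2, [[0, 0, 0, 0, 0, 0, 0], [0, 0, 0, 0, 0, -1, 0], [0, 0, 0, 0, 0, -1, -1]]),
  (2, [[0, 0, 0, 0, 0, 0, 0], [-1, 0, 0, 0, 0, 0, 0], [1, 2, 3, 4, 3, 2, 1]]),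
  (2, [[0, 0, 0, 0, 0, 0, 0], [0, -1, 0, 0, 0, 0, 0], [0, -1, 0, -1, 0, 0, 0], [0, -1, 0, -1, -1, 0, 0], [0, -1, 0, -1, -1, -1, 0], [0, -1, 0, -1, -1, -1, -1]])]

/-- the table -/
def tbE7x3 : List (Ent 7) := [
  ⟨[0, 0, 0, 0, 0, 0, 0], [], [some 0, some 1, some 2, some 3, some 4, some 5, some 6], [0, 0, 0, 0, 0, 0, 0], none⟩,
  ⟨[0, 0, 0, 0, 0, 0, 3], [], [some 0, some 1, some 2, some 3, some 4, some 5, none], [0, 0, 0, 0, 0, 0, 0], some 6⟩,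
  ⟨[0, 0, 0, 0, 0, 1, 0], [], [some 0, some 1, some 2, some 3, some 4, some 6], [0, 0, 0, 0, 0, -1, 0], none⟩,
  ⟨[0, 0, 0, 0, 0, 1, 1], [], [some 0, some 1, some 2, some 3, some 4, none], [0, 0, 0, 0, 0, 1, -2], some 6⟩,
  ⟨[0, 0, 0, 0, 1, 0, 0], [0, 1], [], [-35, 23, -9, -29, -32, -24, 323], some 6⟩,
  ⟨[0, 0, 1, 0, 0, 0, 0], [2, 3], [], [-27, 28, 20, 29, 33, -38, -198], some 6⟩,
  ⟨[0, 1, 0, 0, 0, 0, 0], [], [some 0, some 2, some 3, some 4, some 5, some 6], [0, -2, 0, 0, 0, 0, 0], none⟩,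
  ⟨[0, 1, 0, 0, 0, 0, 1], [], [some 0, some 2, some 3, some 4, some 5, none], [0, -1, 0, 0, 0, 0, 2], some 6⟩,
  ⟨[1, 0, 0, 0, 0, 0, 0], [], [some 1, some 2, some 3, some 4, some 5, some 6], [2, 0, 0, 0, 0, 0, 0], none⟩,
  ⟨[1, 0, 0, 0, 0, 0, 1], [], [some 1, some 2, some 3, some 4, some 5, none], [-2, 0, 0, 0, 0, 0, 4], some 6⟩]

theorem flE7x3_ok : (flE7x3.all (afrB 7 3 rE7 bE7 2)) = true := by decide +kernel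

theorem tbE7x3_ok : (tbE7x3.all (entB 7 3 rE7 bE7 2 2 flE7x3 (finB chevE7 7 3 rE7))) = true := by
  decide +kernel

theorem tabE7x3 {c : Fin 7 → ℕ} {c0 : ℕ} (K : Kac chevE7 7 3 c c0) :
    (List.ofFn fun i => (c i : ℤ)) ∈ ([[0, 0, 0, 0, 0, 0, 1], [0, 0, 0, 0, 0, 0, 2]] : List (List ℤ)) ∨
      Dec chevE7 7 3 (Cert chevE7 7 3) (SK chevE7 7 3 c) :=
  tab_of formE7 (by rw [rE7_eq]; exact flE7x3_ok) (fin := finB chevE7 7 3 (rootsL chevE7 7))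
    (fun _ _ => cert_of) (by rw [rE7_eq]; exact tbE7x3_ok) hrE7 (by decide +kernel) K

/-- frames -/
def flE7x5 : List (ℤ × List (List ℤ)) := [
  (2, [[0, 0, 0, 0, 0, 0, 0], [-1, 0, 0, 0, 0, 0, 0], [-1, 0, -1, 0, 0, 0, 0], [-1, 0, -1, -1, 0, 0, 0], [-1, -1, -1, -1, 0, 0, 0]]),
  (2, [[0, 0, 0, 0, 0, 0, 0], [0, -1, 0, 0, 0, 0, 0], [0, -1, 0, -1, 0, 0, 0], [0, -1, 0, -1, -1, 0, 0], [0, -1, 0, -1, -1, -1, 0]]),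
  (2, [[0, 0, 0, 0, 0, 0, 0], [-1, 0, 0, 0, 0, 0, 0], [-1, 0, -1, 0, 0, 0, 0], [-1, 0, -1, -1, 0, 0, 0], [-1, 0, -1, -1, -1, 0, 0]]),
  (2, [[0, 0, 0, 0, 0, 0, 0], [0, 0, 0, -1, 0, 0, 0], [0, 0, -1, -1, 0, 0, 0], [-1, 0, -1, -1, 0, 0, 0], [1, 2, 2, 3, 3, 2, 1]]),
  (2, [[0, 0, 0, 0, 0, 0, 0], [0, 0, 0, -1, 0, 0, 0], [0, 0, 0, -1, -1, 0, 0], [0, 0, 0, -1, -1, -1, 0], [0, 0, 0, -1, -1, -1, -1]]),
  (2, [[0, 0, 0, 0, 0, 0, 0], [0, 0, -1, 0, 0, 0, 0], [0, 0, -1, -1, 0, 0, 0], [0, 0, -1, -1, -1, 0, 0], [0, 0, -1, -1, -1, -1, 0]])]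

/-- the table -/
def tbE7x5 : List (Ent 7) := [
  ⟨[0, 0, 0, 0, 0, 0, 0], [], [some 0, some 1, some 2, some 3, some 4, some 5, some 6], [0, 0, 0, 0, 0, 0, 0], none⟩,
  ⟨[0, 0, 0, 0, 0, 0, 1], [], [some 0, some 1, some 2, some 3, some 4, some 5], [0, 0, 0, 0, 0, 0, 1], some 6⟩,
  ⟨[0, 0, 0, 0, 0, 0, 2], [], [some 0, some 1, some 2, some 3, some 4, some 5], [0, 0, 0, 0, 0, 0, 1], some 6⟩,
  ⟨[0, 0, 0, 0, 0, 0, 3], [], [some 0, some 1, some 2, some 3, some 4, some 5], [0, 0, 0, 0, 0, 0, 2], some 6⟩,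
  ⟨[0, 0, 0, 0, 0, 0, 4], [], [some 0, some 1, some 2, some 3, some 4, some 5], [0, 0, 0, 0, 0, 0, 1], some 6⟩,
  ⟨[0, 0, 0, 0, 0, 0, 5], [], [some 0, some 1, some 2, some 3, some 4, some 5, none], [0, 0, 0, 0, 0, 0, 0], some 6⟩,
  ⟨[0, 0, 0, 0, 0, 1, 0], [], [some 0, some 1, some 2, some 3, some 4, some 6], [0, 0, 0, 0, 0, 1, 0], none⟩,
  ⟨[0, 0, 0, 0, 0, 1, 1], [], [some 0, some 1, some 2, some 3, some 4], [0, 0, 0, 0, 0, -1, -4], none⟩,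
  ⟨[0, 0, 0, 0, 0, 1, 2], [], [some 0, some 1, some 2, some 3, some 4], [0, 0, 0, 0, 0, 4, 2], none⟩,
  ⟨[0, 0, 0, 0, 0, 1, 3], [], [some 0, some 1, some 2, some 3, some 4, none], [0, 0, 0, 0, 0, -1, 2], some 6⟩,
  ⟨[0, 0, 0, 0, 0, 2, 0], [], [some 0, some 1, some 2, some 3, some 4, some 6], [0, 0, 0, 0, 0, -1, 0], none⟩,
  ⟨[0, 0, 0, 0, 0, 2, 1], [], [some 0, some 1, some 2, some 3, some 4, none], [0, 0, 0, 0, 0, 1, -2], some 6⟩,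
  ⟨[0, 0, 0, 0, 1, 0, 0], [0], [some 5, some 6], [-6, -15, -10, -23, -13, 0, 0], none⟩,
  ⟨[0, 0, 0, 0, 1, 0, 1], [0], [some 5], [-40, 17, -1, 32, 4, 0, -102], some 6⟩,
  ⟨[0, 0, 0, 0, 1, 0, 2], [], [some 0, some 1, some 2, some 3, none, some 5], [0, 0, 0, 0, -1, 0, 3], some 4⟩,
  ⟨[0, 0, 0, 0, 1, 1, 0], [], [some 0, some 1, some 2, some 3, none, some 6], [0, 0, 0, 0, 2, -3, 0], some 4⟩,
  ⟨[0, 0, 0, 1, 0, 0, 0], [], [some 0, some 2, some 1, some 4, some 5, some 6], [0, 0, 0, 2, 0, 0, 0], none⟩,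
  ⟨[0, 0, 0, 1, 0, 0, 1], [], [some 0, some 2, none, some 1, some 4, some 5], [0, 0, 0, 2, 0, 0, -8], some 6⟩,
  ⟨[0, 0, 1, 0, 0, 0, 0], [], [some 0, some 1, some 3, some 4, some 5, some 6], [0, 0, -1, 0, 0, 0, 0], some 2⟩,
  ⟨[0, 0, 1, 0, 0, 0, 1], [1], [some 0], [0, 12, 21, 22, 9, 17, -218], some 6⟩,
  ⟨[0, 0, 1, 0, 0, 0, 2], [1], [some 0, none], [0, 3, -24, -21, -19, -28, 263], some 6⟩,
  ⟨[0, 0, 1, 0, 0, 1, 0], [], [some 0, none, some 1, some 3, some 4, some 6], [0, 0, -2, 0, 0, 3, 0], some 5⟩,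
  ⟨[0, 1, 0, 0, 0, 0, 0], [], [some 0, some 2, some 3, some 4, some 5, some 6], [0, -1, 0, 0, 0, 0, 0], some 1⟩,
  ⟨[0, 1, 0, 0, 0, 0, 1], [], [some 0, some 2, some 3, some 4, some 5], [0, 5, 0, 0, 0, 0, -8], some 1⟩,
  ⟨[0, 1, 0, 0, 0, 0, 2], [], [some 0, some 2, some 3, some 4, some 5], [0, 3, 0, 0, 0, 0, -4], some 1⟩,
  ⟨[0, 1, 0, 0, 0, 0, 3], [], [some 0, some 2, some 3, some 4, some 5, none], [0, 2, 0, 0, 0, 0, -4], some 1⟩,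
  ⟨[0, 1, 0, 0, 0, 1, 0], [2], [some 6], [35, -5, 23, 47, -4, 13, 0], none⟩,
  ⟨[0, 1, 0, 0, 0, 1, 1], [], [some 0, some 2, some 3, some 4, none], [0, 5, 0, 0, 0, -4, -2], some 1⟩,
  ⟨[0, 1, 0, 0, 1, 0, 0], [3], [some 5, some 6], [3, -4, 11, 5, 7, 0, 0], none⟩,
  ⟨[0, 1, 1, 0, 0, 0, 0], [4], [some 0, none], [0, -27, -9, -12, 17, 36, 6], some 6⟩,
  ⟨[0, 2, 0, 0, 0, 0, 0], [], [some 0, some 2, some 3, some 4, some 5, some 6], [0, 1, 0, 0, 0, 0, 0], some 1⟩,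
  ⟨[0, 2, 0, 0, 0, 0, 1], [], [some 0, some 2, some 3, some 4, some 5, none], [0, 1, 0, 0, 0, 0, -2], some 1⟩,
  ⟨[1, 0, 0, 0, 0, 0, 0], [], [some 1, some 2, some 3, some 4, some 5, some 6], [-1, 0, 0, 0, 0, 0, 0], none⟩,
  ⟨[1, 0, 0, 0, 0, 0, 1], [], [some 1, some 2, some 3, some 4, some 5], [-2, 0, 0, 0, 0, 0, 5], some 6⟩,
  ⟨[1, 0, 0, 0, 0, 0, 2], [], [some 1, some 2, some 3, some 4, some 5], [4, 0, 0, 0, 0, 0, 1], some 6⟩,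
  ⟨[1, 0, 0, 0, 0, 0, 3], [], [some 1, some 2, some 3, some 4, some 5, none], [2, 0, 0, 0, 0, 0, -4], some 6⟩,
  ⟨[1, 0, 0, 0, 0, 1, 0], [], [some 1, some 2, some 3, some 4, some 6], [-1, 0, 0, 0, 0, 3, 0], none⟩,
  ⟨[1, 0, 0, 0, 0, 1, 1], [], [some 1, some 2, some 3, some 4, none], [3, 0, 0, 0, 0, 2, -10], some 6⟩,
  ⟨[1, 0, 0, 0, 1, 0, 0], [], [some 1, some 2, some 3, some 5, some 6, none], [3, 0, 0, 0, -2, 0, 0], some 0⟩,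
  ⟨[1, 0, 1, 0, 0, 0, 0], [], [some 1, some 3, some 4, some 5, some 6, none], [-3, 0, 2, 0, 0, 0, 0], some 2⟩,
  ⟨[1, 1, 0, 0, 0, 0, 0], [], [some 2, some 3, some 4, some 5, some 6], [4, -5, 0, 0, 0, 0, 0], some 1⟩,
  ⟨[1, 1, 0, 0, 0, 0, 1], [5], [none], [-8, 29, -24, -12, -20, 2, 134], some 6⟩,
  ⟨[2, 0, 0, 0, 0, 0, 0], [], [some 1, some 2, some 3, some 4, some 5, some 6], [-1, 0, 0, 0, 0, 0, 0], none⟩,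
  ⟨[2, 0, 0, 0, 0, 0, 1], [], [some 1, some 2, some 3, some 4, some 5, none], [-1, 0, 0, 0, 0, 0, 2], some 6⟩]

theorem flE7x5_ok : (flE7x5.all (afrB 7 5 rE7 bE7 2)) = true := by decide +kernel

theorem tbE7x5_ok : (tbE7x5.all (entB 7 5 rE7 bE7 2 2 flE7x5 (finB chevE7 7 5 rE7))) = true := by
  decide +kernel

theorem tabE7x5 {c : Fin 7 → ℕ} {c0 : ℕ} (K : Kac chevE7 7 5 c c0) :
    (List.ofFn fun i => (c i : ℤ)) ∈ ([] : List (List ℤ)) ∨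
      Dec chevE7 7 5 (Cert chevE7 7 5) (SK chevE7 7 5 c) :=
  tab_of formE7 (by rw [rE7_eq]; exact flE7x5_ok) (fin := finB chevE7 7 5 (rootsL chevE7 7))
    (fun _ _ => cert_of) (by rw [rE7_eq]; exact tbE7x5_ok) hrE7 (by decide +kernel) K

end Cfsg.Agent.BHZ.Exc.CovI
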