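import Cfsg.Agent.BHZ.Exc.CovIR

/-!
# S4806, exceptional groups: the table of `E₆`, `p = 3` (helper56)
-/

set_option autoImplicit false
set_option maxRecDepth 100000

namespace Cfsg.Agent.BHZ.Exc.CovI

open Cfsg Cfsg.Lie Cfsg.Lie.ChevalleyDatum
open Cfsg.Agent.H931.KC (Kac hr psi)

/-- the root lattice of `E₆` in the root lattice of `E₇` -/
def ext7 (a : Fin 6 → ℤ) : Fin 7 → ℤ := fun i => if h : i.val < 6 then a ⟨i, h⟩ else 0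

/-- the criterion for the universal group: `Cert` and a level set in `E₇` -/
def Cert6 (S : Set (Fin 6 → ℤ)) : Prop := Cert chevE6 6 3 S ∧
  ∃ g : (Fin 7 → ℤ) →+ ℤ, (∀ a ∈ S, g (ext7 a) = 0) ∧ ∃ k, ¬ (3 : ℤ) ∣ lvl chevE7 7 g k 6

/-- the final check -/
def finB6 (R R' : List (List ℤ)) (e : Ent 6) (S : List (List ℤ)) : Bool :=
  certB chevE6 6 3 R e.J e.g e.i0 S && (S.all fun a => dot 6 a e.g == 0) &&
    (vsum (R'.filter fun a => dot 7 a e.g == e.g.getD 7 0)).getD 6 0 % 3 != 0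

theorem cert6_of {e : Ent 6} {S : List (List ℤ)} (h : finB6 (rootsL chevE6 6) (rootsL chevE7 7) e S = true) :
    Cert6 (sv 6 S) := by
  simp only [finB6, Bool.and_eq_true, List.all_eq_true, beq_iff_eq, bne_iff_ne] at h
  refine ⟨cert_of h.1.1, psi (tv 7 e.g), ?_, e.g.getD 7 0, fun h1 => h.2 ?_⟩
  · rintro _ ⟨x, hx, rfl⟩
    have h2 := h.1.2 x hx
    rw [dot_eq, H931.KC.psi_apply] at h2
    rw [H931.KC.psi_apply, Fin.sum_univ_castSucc, ← h2]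
    exact (congrArg₂ (· + ·) (Finset.sum_congr rfl fun i _ => congrArg₂ (· * ·) (dif_pos i.2) rfl) (zero_mul _)).trans
      (add_zero _)
  · rw [← lvl_eq] at h1
    exact Int.emod_eq_zero_of_dvd h1

/-- frames -/
def flE6x3 : List (ℤ × List (List ℤ)) := [
  (2, [[0, 0, 0, 0, 0, 0], [-1, 0, 0, 0, 0, 0], [-1, 0, -1, 0, 0, 0], [-1, 0, -1, -1, 0, 0], [-1, -1, -1, -1, 0, 0], [0, 1, 1, 2, 2, 1]]),
  (2, [[0, 0, 0, 0, 0, 0], [-1, 0, 0, 0, 0, 0], [-1, 0, -1, 0, 0, 0]]),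
  (2, [[0, 0, 0, 0, 0, 0], [0, -1, 0, 0, 0, 0], [1, 1, 2, 3, 2, 1]]),
  (2, [[0, 0, 0, 0, 0, 0], [0, 0, 0, 0, -1, 0], [0, 0, 0, 0, -1, -1]]),
  (2, [[0, 0, 0, 0, 0, 0], [-1, 0, 0, 0, 0, 0], [-1, 0, -1, 0, 0, 0], [-1, 0, -1, -1, 0, 0], [-1, 0, -1, -1, -1, 0], [-1, 0, -1, -1, -1, -1]]),
  (2, [[0, 0, 0, 0, 0, 0], [0, 0, 0, 0, 0, -1], [0, 0, 0, 0, -1, -1], [0, 0, 0, -1, -1, -1], [0, -1, 0, -1, -1, -1], [1, 1, 2, 2, 1, 0]])]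

/-- the table -/
def tbE6x3 : List (Ent 6) := [
  ⟨[0, 0, 0, 0, 0, 1], [], [some 0, some 1, some 2, some 3, some 4], [0, 0, 0, 0, 0, 2, 0, 2], some 5⟩,
  ⟨[0, 0, 0, 0, 0, 2], [], [some 0, some 1, some 2, some 3, some 4], [0, 0, 0, 0, 0, 1, 0, 1], some 5⟩,
  ⟨[0, 0, 0, 0, 1, 0], [], [some 0, some 1, some 2, some 3, some 5], [0, 0, 0, 0, 1, 0, 0, 1], none⟩,
  ⟨[0, 0, 0, 0, 1, 1], [0], [], [217, -10, -23, -32, -6, -15, 0, 7], some 0⟩,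
  ⟨[0, 0, 0, 1, 0, 0], [1, 2, 3], [], [-128, 16, 21, 23, -13, 7, 0, 3], some 0⟩,
  ⟨[0, 0, 1, 0, 0, 0], [], [some 0, some 1, some 3, some 4, some 5], [0, 0, -1, 0, 0, 0, 0, 1], none⟩,
  ⟨[0, 0, 1, 0, 0, 1], [], [some 0, some 1, some 3, some 4, none], [0, 0, 2, 0, 0, -4, 0, 2], some 5⟩,
  ⟨[0, 1, 0, 0, 0, 0], [4], [], [105, 10, -4, -39, -3, 5, 0, 2], some 0⟩,
  ⟨[0, 1, 0, 0, 0, 1], [], [some 0, some 2, some 3, some 4, none], [0, -1, 0, 0, 0, 2, 0, 1], some 5⟩,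
  ⟨[1, 0, 0, 0, 0, 0], [], [some 1, some 2, some 3, some 4, some 5], [1, 0, 0, 0, 0, 0, 0, 1], some 0⟩,
  ⟨[1, 0, 0, 0, 0, 1], [], [some 1, some 2, some 3, some 4], [-1, 0, 0, 0, 0, 3, 0, 2], some 0⟩,
  ⟨[1, 0, 0, 0, 0, 2], [], [some 1, some 2, some 3, some 4, none], [-1, 0, 0, 0, 0, 1, 0, 1], some 0⟩,
  ⟨[1, 0, 0, 0, 1, 0], [], [some 1, some 2, some 3, none, some 5], [-2, 0, 0, 0, 1, 0, 0, 1], some 0⟩,
  ⟨[1, 0, 1, 0, 0, 0], [5], [], [128, -3, -11, -26, -2, -6, 0, 4], some 0⟩,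
  ⟨[1, 1, 0, 0, 0, 0], [], [some 2, some 3, some 4, some 5, none], [2, -1, 0, 0, 0, 0, 0, 1], some 0⟩,
  ⟨[2, 0, 0, 0, 0, 0], [], [some 1, some 2, some 3, some 4, some 5], [1, 0, 0, 0, 0, 0, 0, 1], some 0⟩,
  ⟨[2, 0, 0, 0, 0, 1], [], [some 1, some 2, some 3, some 4, none], [-1, 0, 0, 0, 0, 1, 0, 1], some 0⟩]

theorem flE6x3_ok : (flE6x3.all (afrB 6 3 rE6 bE6 2)) = true := by decide +kernel

theorem tbE6x3_ok : (tbE6x3.all (entB 6 3 rE6 bE6 2 2 flE6x3 (finB6 rE6 rE7))) = true := by decide +kernel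

/-- **The table of `E₆`, `p = 3`.** -/
theorem tabE6x3 {c : Fin 6 → ℕ} {c0 : ℕ} (K : Kac chevE6 6 3 c c0) :
    (List.ofFn fun i => (c i : ℤ)) ∈ ([[0, 0, 0, 0, 0, 0], [0, 0, 0, 0, 0, 3], [3, 0, 0, 0, 0, 0]] : List (List ℤ)) ∨
      Dec chevE6 6 3 Cert6 (SK chevE6 6 3 c) :=
  tab_of formE6 (by rw [rE6_eq]; exact flE6x3_ok) (fin := finB6 (rootsL chevE6 6) (rootsL chevE7 7))
    (fun _ _ => cert6_of) (by rw [rE6_eq, rE7_eq]; exact tbE6x3_ok) hrE6 (by decide +kernel) K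

/-- type `D₄` -/
theorem cert6_D4 : Cert6 (SK chevE6 6 3 ![1, 0, 0, 0, 0, 1]) := by
  rw [← sv_skL]
  refine cert6_of (e := ⟨[1, 0, 0, 0, 0, 1], [], [some 1, some 2, some 3, some 4], [-1, 0, 0, 0, 0, 3, 0, 2], some 0⟩) ?_
  rw [rE6_eq, rE7_eq]
  decide +kernel

end Cfsg.Agent.BHZ.Exc.CovI
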