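import Cfsg.Agent.BHZ.Exc.Tools
import Cfsg.Agent.H629.ExcTor
import Cfsg.Agent.Nodes.ChevCls
import Cfsg.Agent.BpExc.Sig

/-!
# S4806, exceptional groups, type `D₄ T₂` (helper25): the torus `T₂`

* `SS x = C(C(x))`, `exists_pow_ppart`;
* `TZ t` : the elements of the torus which are trivial on the roots of the centralizer of `t`; `mem_SS_iff`;
* for the standard element `StdD`: `T_split`, `L_split`, `triv_Y`, `rot_onto`, `rot_fix`, `lang_TZ`.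
-/

set_option autoImplicit false

namespace Cfsg.Agent.BHZ.Exc

open CoxeterSystem Cfsg Cfsg.Lie Cfsg.Lie.ChevalleyDatum
open Cfsg.Agent.ChevalleyStructure Cfsg.Agent.ChevalleyStructure.Elts Cfsg.Agent.ChevalleyStructure.CoxeterGeom
  Cfsg.Agent.ChevalleyStructure.CoxeterGeomTypes
open Cfsg.Agent.Tits.Roots Cfsg.Agent.Tits.Core Cfsg.Agent.Nodes Cfsg.Agent.Nodes.Reps Cfsg.Agent.Nodes.BNOf
  Cfsg.Agent.Nodes.RGDChev Cfsg.Agent.Nodes.Bruhat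
open Cfsg.Agent.KFacts.RgdField Cfsg.Agent.KFacts.RgdChevCoord
open Cfsg.Agent.BpExc Cfsg.Agent.BpExc.TorCent Cfsg.Agent.BpExc.TorChev Cfsg.Agent.BpExc.Tow
  Cfsg.Agent.BpExc.TowChev Cfsg.Agent.BpExc.Fr Cfsg.Agent.BpExc.LangFr
open Cfsg.Agent.H469.Exc Cfsg.Agent.H795.SetCent Cfsg.Agent.H129.TorusChar Cfsg.Agent.DS.Ex Cfsg.Agent.DS.Nt
open Cfsg.Agent.H931.KC (al hr)
open scoped commutatorElement

namespace DT

section Grp

variable {L : Type*} [Group L]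

/-- the double centralizer -/
def SS (x : L) : Subgroup L := Subgroup.centralizer (Subgroup.centralizer ({x} : Set L) : Set L)

theorem mem_SS {x u : L} : u ∈ SS x ↔ ∀ y, y * x = x * y → y * u = u * y :=
  ⟨fun h y hy => Subgroup.mem_centralizer_iff.1 h y (Subgroup.mem_centralizer_singleton_iff.2 hy),
    fun h => Subgroup.mem_centralizer_iff.2 fun y hy => h y (Subgroup.mem_centralizer_singleton_iff.1 hy)⟩

theorem self_mem_SS (x : L) : x ∈ SS x := mem_SS.2 fun _ h => h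

theorem SS_comm {x u v : L} (hu : u ∈ SS x) (hv : v ∈ SS x) : u * v = v * u :=
  mem_SS.1 hv u (mem_SS.1 hu x rfl).symm

theorem map_mem_SS (α : MulAut L) {x u : L} (h : u ∈ SS x) : α u ∈ SS (α x) := by
  refine mem_SS.2 fun y hy => ?_
  obtain ⟨y, rfl⟩ := α.surjective y
  rw [← map_mul, ← map_mul] at hy ⊢
  rw [mem_SS.1 h y (α.injective hy)]

theorem conj_mem_SS (w : L) {x u : L} (h : u ∈ SS x) : w * u * w⁻¹ ∈ SS (w * x * w⁻¹) :=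
  map_mem_SS (MulAut.conj w) h

theorem conj_mem_SS' {w x u : L} (h : u ∈ SS (w * x * w⁻¹)) : w⁻¹ * u * w ∈ SS x := by
  have h1 := conj_mem_SS w⁻¹ h
  rwa [inv_inv, show w⁻¹ * (w * x * w⁻¹) * w = x by group] at h1

variable {Y : Type*} [Group Y] {θ : L →* Y}

theorem mem_SS_of_eq (hc : θ.ker ≤ Subgroup.center L) {x x' u : L} (h : θ x = θ x') (hu : u ∈ SS x) : u ∈ SS x' :=
  mem_SS.2 fun y hy => mem_SS.1 hu y (comm_of_eq hc h hy.symm).symm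

theorem ker_mem_SS (hc : θ.ker ≤ Subgroup.center L) {k : L} (hk : θ k = 1) (x : L) : k ∈ SS x :=
  mem_SS.2 fun y _ => Nil.cent_comm hc hk y

/-- a power with an exponent congruent to `1` modulo `p ^ n` is a `p`-element -/
theorem exists_pow_ppart {p : ℕ} (hp : p.Prime) {g : L} (hg : IsOfFinOrder g) (n : ℕ) :
    ∃ k m : ℕ, k ≡ 1 [MOD p ^ n] ∧ (g ^ k) ^ p ^ m = 1 := by
  obtain ⟨a, N, hN, e⟩ := Nat.exists_eq_pow_mul_and_not_dvd hg.orderOf_pos.ne' p hp.ne_one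
  obtain ⟨k, hk1, hk2⟩ := Nat.chineseRemainder (((Nat.Prime.coprime_iff_not_dvd hp).2 hN).pow_left n) 1 0
  refine ⟨k, a, hk1, ?_⟩
  rw [← pow_mul, ← orderOf_dvd_iff_pow_eq_one, e, mul_comm]
  exact Nat.mul_dvd_mul_right ((Nat.modEq_zero_iff_dvd).1 hk2) _

theorem pow_pow_mul {p : ℕ} {a b : L} (h : a * b = b * a) {m n : ℕ} (ha : a ^ p ^ m = 1) (hb : b ^ p ^ n = 1) :
    (a * b) ^ p ^ (m + n) = 1 := by
  rw [(show Commute a b from h).mul_pow, pow_add, pow_mul, ha, one_pow, one_mul, mul_comm, pow_mul, hb, one_pow]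

end Grp

section Gen

variable {D : ChevalleyDatum} {l : ℕ} {M : CoxeterMatrix (Fin l)} {hp : IsType D l M} {r : ℕ} [Fact r.Prime]

theorem fin_ord' (hp : IsType D l M) (y : YY D r) : IsOfFinOrder y := by
  obtain ⟨E, hE⟩ := TowChev.exists_level hp (locFin r) y
  obtain ⟨y', rfl⟩ := hE E le_rfl
  have : Finite ↥(D.group ↥E.1) := TowChev.finite_group
  exact (GpExc.Field.emb hp.inList E.1.subtype).isOfFinOrder (isOfFinOrder_of_finite y')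

variable (hp) in
/-- the centre of the connected centralizer -/
def TZ (t : YY D r) : Subgroup (YY D r) where
  carrier := {s | s ∈ TT D (KK r) ∧ ∀ a ∈ Ps hp r {t}, cX hp s a = 1}
  one_mem' := ⟨one_mem _, fun a _ => cX_one hp a⟩
  mul_mem' := fun {a b} ha hb => ⟨mul_mem ha.1 hb.1, fun x hx => by
    rw [cX_mul hp ha.1 hb.1, ha.2 x hx, hb.2 x hx, one_mul]⟩
  inv_mem' := fun {a} ha => ⟨inv_mem ha.1, fun x hx => by rw [cX_inv ha.1, ha.2 x hx, inv_one]⟩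

theorem self_mem_TZ {t : YY D r} (ht : t ∈ TT D (KK r)) : t ∈ TZ hp t := ⟨ht, fun _ h => ((mem_Ps_one ht).1 h).2⟩

theorem sigma_mem_TZ {σ : MulAut (YY D r)} {e : ℕ} {g : (Fin l → ℤ) ≃+ (Fin l → ℤ)} (hσ : IsFrob r e σ)
    (F : Fr M.toCoxeterSystem hp.isCartan (TT D (KK r)) (XX D l (KK r)) σ g) {t : YY D r} (ht : t ∈ TT D (KK r))
    (hσt : σ t = t) {s : YY D r} (hs : s ∈ TZ hp t) : σ s ∈ TZ hp t := by
  refine ⟨(F.tor s).2 hs.1, fun a ha => ?_⟩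
  obtain ⟨a, rfl⟩ := g.surjective a
  rw [cX_sigma hp M.toCoxeterSystem hσ F hs.1, hs.2 a ((fr_mem_Ps F ht hσt a).1 ha), one_pow]

theorem sigma_mem_Mz {σ : MulAut (YY D r)} {g : (Fin l → ℤ) ≃+ (Fin l → ℤ)}
    (F : Fr M.toCoxeterSystem hp.isCartan (TT D (KK r)) (XX D l (KK r)) σ g) {t : YY D r} (ht : t ∈ TT D (KK r))
    (hσt : σ t = t) {m : YY D r} (hm : m ∈ Mz hp r {t}) : σ m ∈ Mz hp r {t} :=
  Mz_le (K := (Mz hp r {t}).comap σ.toMonoidHom) (fun a ha y hy =>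
    X_le_Mz ((fr_mem_Ps F ht hσt a).2 ha) ((F.map a ha.1 y).2 hy)) hm

variable {L : Type} [Group L] {θ : L →* YY D r} {p : ℕ}

theorem fin_ord_L (hp : IsType D l M) (C : Cov0 p θ) (hp0 : 0 < p) (x : L) : IsOfFinOrder x := by
  obtain ⟨n, hn, h⟩ := isOfFinOrder_iff_pow_eq_one.1 (fin_ord' hp (θ x))
  exact isOfFinOrder_iff_pow_eq_one.2 ⟨n * p, Nat.mul_pos hn hp0, by
    rw [pow_mul]
    exact C.expo _ (by rw [map_pow, h])⟩

/-- the double centralizer of a lift of an element of order `p` of the torus -/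
theorem mem_SS_iff (C : Cov hp p θ) (hr : r.Coprime p) {a : L} (ha : θ a ∈ TT D (KK r)) (hap : θ a ^ p = 1) {u : L} :
    u ∈ SS a ↔ θ u ∈ TZ hp (θ a) := by
  constructor
  · intro hu
    have key : ∀ y ∈ DZ hp r {θ a}, y * θ u = θ u * y := by
      intro y hy
      obtain ⟨y, rfl⟩ := C.surj y
      rw [← map_mul, mem_SS.1 hu y (comm_of_DZ_one C hr ha hy), map_mul]
    have hT : θ u ∈ TT D (KK r) := mem_T_of_comm hp fun s hs => (key s (T_le_DZ hs)).symm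
    exact ⟨hT, fun b hb => cX_eq_one_of_comm hT hb.1 one_ne_zero
      (key _ (Mz_le_DZ (X_le_Mz hb (xc_mem hb.1 1)))).symm⟩
  · intro hu
    exact mem_SS.2 fun y hy => comm_of_DZ C hr (C.conn a y ha hap hy) hu.1 hu.2

/-- elements of order `r` over `Sup X S` lie in `Mh S` -/
theorem mem_Mh_of_pow (C : Cov0 p θ) (hr : r.Coprime p) {S : Set (Fin l → ℤ)}
    (hS : ∀ a ∈ S, IsRoot M.toCoxeterSystem hp.isCartan a) {v : L} (hv : v ^ r = 1)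
    (h : θ v ∈ RGD.Sup (XX D l (KK r)) S) : v ∈ Mh l θ S := by
  obtain ⟨m, hm, e⟩ := exists_Mh hp C hr hS h
  have hk : θ (m⁻¹ * v) = 1 := by rw [map_mul, map_inv, e, inv_mul_cancel]
  have h1 : (m⁻¹ * v) ^ r = (m ^ r)⁻¹ := by
    rw [eq_inv_iff_mul_eq_one, ← Commute.mul_pow (C.comm_ker hk m).symm, ← C.comm_ker hk m, mul_inv_cancel_left, hv]
  have h2 : m⁻¹ * v ∈ Mh l θ S :=
    mem_of_pow_coprime (by rw [h1]; exact inv_mem (pow_mem hm _)) (by rw [C.expo _ hk]; exact one_mem _) hr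
  have h3 := mul_mem hm h2
  rwa [mul_inv_cancel_left] at h3

theorem conj_mem_Mh (C : Cov0 p θ) (hr : r.Coprime p) {t : YY D r} (ht : t ∈ TT D (KK r)) {x : L}
    (hx : θ x * t = t * θ x) {m : L} (hm : m ∈ Mh l θ (Ps hp r {t})) : x * m * x⁻¹ ∈ Mh l θ (Ps hp r {t}) :=
  Mh_le (H := (Mh l θ (Ps hp r {t})).comap (MulAut.conj x).toMonoidHom) (fun u hu a ha h => by
    refine mem_Mh_of_pow (hp := hp) C hr (fun _ => Ps_root) (v := x * u * x⁻¹)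
      (by rw [conj_pow, hu, mul_one, mul_inv_cancel]) ?_
    rw [map_mul, map_mul, map_inv]
    exact conj_mem_Mz (Set.finite_singleton t) (Set.singleton_subset_iff.2 ht) (fun s hs => by rw [hs]; exact hx)
      (X_le_Mz ha h)) hm

end Gen

section Six

variable {r : ℕ} [Fact r.Prime] {ζ : KK r} {t : YY chevE6 r}

theorem tab_ps : ∀ s < chevE6.nroots, (3 : ℤ) ∣ vec chevE6 6 s 0 + vec chevE6 6 s 5 →
    vec chevE6 6 s 0 = 0 ∧ vec chevE6 6 s 5 = 0 := by decide +kernel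

theorem tab_hr : hr chevE6 6 = ![1, 2, 2, 3, 2, 1] := by decide +kernel

theorem tab_cartan : ∀ i j, cartanOf chevE6 6 i j = ![![2, 0, -1, 0, 0, 0], ![0, 2, 0, -1, 0, 0],
    ![-1, 0, 2, -1, 0, 0], ![0, -1, -1, 2, -1, 0], ![0, 0, 0, -1, 2, -1], ![0, 0, 0, 0, -1, 2]] i j := by
  decide +kernel

theorem StdD.pow (h : StdD ζ t) : t ^ 3 = 1 :=
  pow_eq_one_of_cX (hp := hpE6) h.2.1 fun x => by
    rw [h.2.2, ← zpow_natCast, ← zpow_mul, mul_comm, zpow_mul, zpow_natCast, h.1.pow_eq_one, one_zpow]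

theorem ps_iff (h : StdD ζ t) {a : Fin 6 → ℤ} : a ∈ Ps hpE6 r {t} ↔
    IsRoot CoxeterMatrix.E₆.toCoxeterSystem hpE6.isCartan a ∧ a 0 = 0 ∧ a 5 = 0 := by
  rw [mem_Ps_one h.2.1]
  refine and_congr_right fun ha => ?_
  rw [h.2.2, h.1.zpow_eq_one_iff_dvd]
  constructor
  · obtain ⟨s, hs, rfl⟩ := (isRoot_iff hpE6 CoxeterMatrix.E₆.toCoxeterSystem a).1 ha
    exact tab_ps s hs
  · rintro ⟨h1, h2⟩
    rw [h1, h2]
    exact dvd_zero _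

theorem sr_mem (h : StdD ζ t) {i : Fin 6} (h0 : i ≠ 0) (h5 : i ≠ 5) :
    sr i ∈ Ps hpE6 r {t} ∧ -sr i ∈ Ps hpE6 r {t} := by
  rw [ps_iff h, ps_iff h, Pi.neg_apply, Pi.neg_apply, sr_ne h0.symm, sr_ne h5.symm, neg_zero]
  exact ⟨⟨isRoot_sr _ _ i, rfl, rfl⟩, (isRoot_sr _ _ i).neg, rfl, rfl⟩

theorem mem_TZ (h : StdD ζ t) {s : YY chevE6 r} (hs : s ∈ TT chevE6 (KK r)) (h1 : cX hpE6 s (sr 1) = 1)
    (h2 : cX hpE6 s (sr 2) = 1) (h3 : cX hpE6 s (sr 3) = 1) (h4 : cX hpE6 s (sr 4) = 1) : s ∈ TZ hpE6 t := by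
  refine ⟨hs, fun a ha => ?_⟩
  obtain ⟨-, a0, a5⟩ := (ps_iff h).1 ha
  rw [(isMC_cX hpE6 hs).eq_prod, Fin.prod_univ_six, h1, h2, h3, h4, a0, a5]
  simp only [zpow_zero, one_zpow, mul_one]

theorem cX_TZ (h : StdD ζ t) {s : YY chevE6 r} (hs : s ∈ TZ hpE6 t) (x : Fin 6 → ℤ) :
    cX hpE6 s x = cX hpE6 s (sr 0) ^ x 0 * cX hpE6 s (sr 5) ^ x 5 := by
  rw [(isMC_cX hpE6 hs.1).eq_prod, Fin.prod_univ_six, hs.2 _ (sr_mem h (i := 1) (by decide) (by decide)).1,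
    hs.2 _ (sr_mem h (i := 2) (by decide) (by decide)).1, hs.2 _ (sr_mem h (i := 3) (by decide) (by decide)).1,
    hs.2 _ (sr_mem h (i := 4) (by decide) (by decide)).1]
  simp only [one_zpow, mul_one]

theorem TZ_ext (h : StdD ζ t) {s s' : YY chevE6 r} (hs : s ∈ TZ hpE6 t) (hs' : s' ∈ TZ hpE6 t)
    (h0 : cX hpE6 s (sr 0) = cX hpE6 s' (sr 0)) (h5 : cX hpE6 s (sr 5) = cX hpE6 s' (sr 5)) : s = s' :=
  cX_inj hpE6 hs.1 hs'.1 fun i => by rw [cX_TZ h hs, cX_TZ h hs', h0, h5]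

theorem exists_TZ (h : StdD ζ t) {a b : KK r} (ha : a ≠ 0) (hb : b ≠ 0) :
    ∃ s ∈ TZ hpE6 t, cX hpE6 s (sr 0) = a ∧ cX hpE6 s (sr 5) = b := by
  obtain ⟨s, hs, e⟩ := exists_tor' hpE6 (φ := fun x => a ^ x 0 * b ^ x 5) ⟨by simp, fun x y => by
    rw [Pi.add_apply, Pi.add_apply, zpow_add₀ ha, zpow_add₀ hb]
    ring⟩
  refine ⟨s, ⟨hs, fun x hx => ?_⟩, ?_, ?_⟩
  · obtain ⟨-, a0, a5⟩ := (ps_iff h).1 hx
    rw [e, a0, a5, zpow_zero, zpow_zero, mul_one]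
  · rw [e, sr_self, sr_ne (by decide), zpow_one, zpow_zero, mul_one]
  · rw [e, sr_self, sr_ne (by decide), zpow_one, zpow_zero, one_mul]

/-- `T = (T ∩ M₄) T₂` -/
theorem T_split (h : StdD ζ t) {s : YY chevE6 r} (hs : s ∈ TT chevE6 (KK r)) :
    ∃ m ∈ Mz hpE6 r {t}, m ∈ TT chevE6 (KK r) ∧ m⁻¹ * s ∈ TZ hpE6 t := by
  choose ν hν using fun i : Fin 6 => IsAlgClosed.exists_pow_nat_eq (cX hpE6 s (sr i)) two_pos
  have h0 : ∀ i, ν i ≠ 0 := fun i e => (isMC_cX hpE6 hs).ne_zero (sr i) (by rw [← hν i, e, zero_pow two_ne_zero])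
  have h1 := h0 1
  have h2 := h0 2
  have h3 := h0 3
  have h4 := h0 4
  have hM : ∀ i : Fin 6, i ≠ 0 → i ≠ 5 → ∀ c : KK r, hc hpE6 i c ∈ Mz hpE6 r {t} := fun i i0 i5 c =>
    sup_le (X_le_Mz (sr_mem h i0 i5).1) (X_le_Mz (sr_mem h i0 i5).2) (ChevCls.hc_mem_sup hpE6 i c)
  have n1 : ν 1 ^ 2 * ν 2 * ν 4 * ν 3 ^ 2 ≠ 0 := by simp [h1, h2, h3, h4]
  have n2 : ν 1 * ν 2 ^ 2 * ν 4 * ν 3 ^ 2 ≠ 0 := by simp [h1, h2, h3, h4]
  have n3 : ν 1 ^ 2 * ν 2 ^ 2 * ν 4 ^ 2 * ν 3 ^ 4 ≠ 0 := by simp [h1, h2, h3, h4]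
  have n4 : ν 1 * ν 2 * ν 4 ^ 2 * ν 3 ^ 2 ≠ 0 := by simp [h1, h2, h3, h4]
  have t1 := hc_mem hpE6 1 n1
  have t2 := hc_mem hpE6 2 n2
  have t3 := hc_mem hpE6 3 n3
  have t4 := hc_mem hpE6 4 n4
  have hT := mul_mem (mul_mem (mul_mem t1 t2) t3) t4
  refine ⟨_, mul_mem (mul_mem (mul_mem (hM 1 (by decide) (by decide) _) (hM 2 (by decide) (by decide) _))
    (hM 3 (by decide) (by decide) _)) (hM 4 (by decide) (by decide) _), hT, ?_⟩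
  refine mem_TZ h (mul_mem (inv_mem hT) hs) ?_ ?_ ?_ ?_ <;>
  · rw [cX_mul hpE6 (inv_mem hT) hs, cX_inv hT, inv_mul_eq_one₀ ((isMC_cX hpE6 hT).ne_zero _),
      cX_mul hpE6 (mul_mem (mul_mem t1 t2) t3) t4, cX_mul hpE6 (mul_mem t1 t2) t3, cX_mul hpE6 t1 t2,
      H629.ExcTor.cX_hc hpE6 1 n1, H629.ExcTor.cX_hc hpE6 2 n2, H629.ExcTor.cX_hc hpE6 3 n3,
      H629.ExcTor.cX_hc hpE6 4 n4, H629.ExcTor.pairing_sr hpE6, H629.ExcTor.pairing_sr hpE6,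
      H629.ExcTor.pairing_sr hpE6, H629.ExcTor.pairing_sr hpE6, tab_cartan, tab_cartan, tab_cartan, tab_cartan, ← hν]
    simp only [Matrix.cons_val, zpow_neg, zpow_ofNat]
    field_simp

/-- the action of the non-trivial cosets on `T₂` -/
theorem rot_act (H : BoxTY2) (hr : r ≠ 3) (h : StdD ζ t) {b : YY chevE6 r} (hb : b * t = t * b)
    (hb' : b ∉ DZ hpE6 r {t}) :
    (∀ s ∈ TZ hpE6 t, b * s * b⁻¹ ∈ TZ hpE6 t ∧
      cX hpE6 (b * s * b⁻¹) (sr 0) = (cX hpE6 s (sr 0) * cX hpE6 s (sr 5))⁻¹ ∧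
      cX hpE6 (b * s * b⁻¹) (sr 5) = cX hpE6 s (sr 0)) ∨
    (∀ s ∈ TZ hpE6 t, b * s * b⁻¹ ∈ TZ hpE6 t ∧ cX hpE6 (b * s * b⁻¹) (sr 0) = cX hpE6 s (sr 5) ∧
      cX hpE6 (b * s * b⁻¹) (sr 5) = (cX hpE6 s (sr 0) * cX hpE6 s (sr 5))⁻¹) := by
  obtain ⟨m, hm, v, k, hk, hv, rfl⟩ := H r hr ζ t (Or.inr h) b hb hb'
  have key : ∀ s, k * s * k⁻¹ ∈ TZ hpE6 t → m * k * s * (m * k)⁻¹ = k * s * k⁻¹ := fun s hs =>
    calc m * k * s * (m * k)⁻¹ = m * (k * s * k⁻¹) * m⁻¹ := by group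
      _ = _ := by rw [← comm_Mz hs.1 hs.2 hm, mul_inv_cancel_right]
  have hi : ∀ s ∈ TZ hpE6 t, ∀ i : Fin 6, i ≠ 0 → i ≠ 5 → cX hpE6 s (sr i) = 1 := fun s hs i i0 i5 =>
    hs.2 _ (sr_mem h i0 i5).1
  have hn : ∀ s ∈ TZ hpE6 t, cX hpE6 s (al chevE6 6 none) = (cX hpE6 s (sr 0) * cX hpE6 s (sr 5))⁻¹ := by
    intro s hs
    show cX hpE6 s (-H931.KC.hr chevE6 6) = _
    rw [(isMC_cX hpE6 hs.1).neg, cX_TZ h hs, tab_hr]
    simp only [Matrix.cons_val, zpow_one]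
  rcases hv with hv | hv
  · refine Or.inl fun s hs => ?_
    have e : ∀ i, cX hpE6 (k * s * k⁻¹) (al chevE6 6 (rho i)) = cX hpE6 s (al chevE6 6 i) := fun i => by
      rw [← hv, hk.cX hs.1]
    have h1 : k * s * k⁻¹ ∈ TZ hpE6 t := mem_TZ h (hk.conj_mem hs.1)
      ((e (some 4)).trans (hi s hs 4 (by decide) (by decide)))
      ((e (some 1)).trans (hi s hs 1 (by decide) (by decide)))
      ((e (some 3)).trans (hi s hs 3 (by decide) (by decide)))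
      ((e (some 2)).trans (hi s hs 2 (by decide) (by decide)))
    rw [key s h1]
    exact ⟨h1, (e none).trans (hn s hs), e (some 0)⟩
  · refine Or.inr fun s hs => ?_
    have e : ∀ i, cX hpE6 (k * s * k⁻¹) (al chevE6 6 i) = cX hpE6 s (al chevE6 6 (rho i)) := fun i => by
      rw [← hv i, hk.cX hs.1]
    have h1 : k * s * k⁻¹ ∈ TZ hpE6 t := mem_TZ h (hk.conj_mem hs.1)
      ((e (some 1)).trans (hi s hs 2 (by decide) (by decide)))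
      ((e (some 2)).trans (hi s hs 4 (by decide) (by decide)))
      ((e (some 3)).trans (hi s hs 3 (by decide) (by decide)))
      ((e (some 4)).trans (hi s hs 1 (by decide) (by decide)))
    rw [key s h1]
    exact ⟨h1, e (some 0), (e (some 5)).trans (hn s hs)⟩

theorem rot_onto (H : BoxTY2) (hr : r ≠ 3) (h : StdD ζ t) {b : YY chevE6 r} (hb : b * t = t * b)
    (hb' : b ∉ DZ hpE6 r {t}) {s' : YY chevE6 r} (hs' : s' ∈ TZ hpE6 t) :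
    ∃ s ∈ TZ hpE6 t, s * b * s⁻¹ * b⁻¹ = s' := by
  have a0 := (isMC_cX hpE6 hs'.1).ne_zero (sr 0)
  have b0 := (isMC_cX hpE6 hs'.1).ne_zero (sr 5)
  have key : ∀ s ∈ TZ hpE6 t, b * s * b⁻¹ ∈ TZ hpE6 t →
      cX hpE6 s (sr 0) * (cX hpE6 (b * s * b⁻¹) (sr 0))⁻¹ = cX hpE6 s' (sr 0) →
      cX hpE6 s (sr 5) * (cX hpE6 (b * s * b⁻¹) (sr 5))⁻¹ = cX hpE6 s' (sr 5) → s * b * s⁻¹ * b⁻¹ = s' := by
    intro s hs h1 h2 h3
    rw [show s * b * s⁻¹ * b⁻¹ = s * (b * s * b⁻¹)⁻¹ by group]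
    refine TZ_ext h (mul_mem hs (inv_mem h1)) hs' ?_ ?_
    · rw [cX_mul hpE6 hs.1 (inv_mem h1.1), cX_inv h1.1, h2]
    · rw [cX_mul hpE6 hs.1 (inv_mem h1.1), cX_inv h1.1, h3]
  rcases rot_act H hr h hb hb' with hv | hv
  · obtain ⟨c, hc⟩ := IsAlgClosed.exists_pow_nat_eq (cX hpE6 s' (sr 0) / cX hpE6 s' (sr 5)) three_pos
    have c0 : c ≠ 0 := fun e => div_ne_zero a0 b0 (by rw [← hc, e, zero_pow three_ne_zero])
    obtain ⟨s, hs, e0, e5⟩ := exists_TZ h c0 (mul_ne_zero b0 c0)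
    obtain ⟨h1, h2, h3⟩ := hv s hs
    refine ⟨s, hs, key s hs h1 ?_ ?_⟩
    · rw [h2, e0, e5, inv_inv, ← div_mul_cancel₀ (cX hpE6 s' (sr 0)) b0, ← hc]
      ring
    · rw [h3, e0, e5, mul_inv_cancel_right₀ c0]
  · obtain ⟨c, hc⟩ := IsAlgClosed.exists_pow_nat_eq (cX hpE6 s' (sr 5) / cX hpE6 s' (sr 0)) three_pos
    have c0 : c ≠ 0 := fun e => div_ne_zero b0 a0 (by rw [← hc, e, zero_pow three_ne_zero])
    obtain ⟨s, hs, e0, e5⟩ := exists_TZ h (mul_ne_zero a0 c0) c0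
    obtain ⟨h1, h2, h3⟩ := hv s hs
    refine ⟨s, hs, key s hs h1 ?_ ?_⟩
    · rw [h2, e0, e5, mul_inv_cancel_right₀ c0]
    · rw [h3, e0, e5, inv_inv, ← div_mul_cancel₀ (cX hpE6 s' (sr 5)) a0, ← hc]
      ring

theorem rot_fix (H : BoxTY2) (hr : r ≠ 3) (h : StdD ζ t) {b : YY chevE6 r} (hb : b * t = t * b)
    (hb' : b ∉ DZ hpE6 r {t}) {s : YY chevE6 r} (hs : s ∈ TZ hpE6 t) (hc : s * b = b * s) : ∃ i : ℕ, s = t ^ i := by
  have a0 := (isMC_cX hpE6 hs.1).ne_zero (sr 0)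
  have e : b * s * b⁻¹ = s := by rw [← hc, mul_inv_cancel_right]
  have key : cX hpE6 s (sr 5) = cX hpE6 s (sr 0) ∧
      cX hpE6 s (sr 0) = (cX hpE6 s (sr 0) * cX hpE6 s (sr 5))⁻¹ := by
    rcases rot_act H hr h hb hb' with hv | hv
    · obtain ⟨-, h2, h3⟩ := hv s hs
      rw [e] at h2 h3
      exact ⟨h3, h2⟩
    · obtain ⟨-, h2, h3⟩ := hv s hs
      rw [e] at h2 h3
      exact ⟨h2.symm, h2.trans h3⟩
  obtain ⟨h1, h2⟩ := key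
  rw [h1] at h2
  have h3 : cX hpE6 s (sr 0) ^ 3 = 1 := by
    have := mul_eq_one_iff_eq_inv₀ (mul_ne_zero a0 a0) |>.2 h2
    rw [← this]
    ring
  obtain ⟨i, -, hi⟩ := h.1.eq_pow_of_pow_eq_one h3
  refine ⟨i, TZ_ext h hs (pow_mem (self_mem_TZ h.2.1) i) ?_ ?_⟩
  · rw [cX_pow hpE6 h.2.1, h.2.2, sr_self, sr_ne (by decide), add_zero, zpow_one, hi]
  · rw [cX_pow hpE6 h.2.1, h.2.2, sr_self, sr_ne (by decide), zero_add, zpow_one, hi, h1]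

variable {L : Type} [Group L] {θ : L →* YY chevE6 r} {z : L}

theorem cop3 (hr : r ≠ 3) : r.Coprime 3 := (Nat.coprime_primes Fact.out Nat.prime_three).2 hr

theorem triv_L (C : Cov6 θ z) (h : StdD ζ t) {m : L} (hm : m ∈ Mh 6 θ (Ps hpE6 r {t})) (hs : θ m ∈ TZ hpE6 t)
    {n : ℕ} (hn : m ^ 3 ^ n = 1) : m = 1 := C.trivD ζ t h m hm hs.1 hs.2 n hn

theorem triv_Y (hr : r ≠ 3) (C : Cov6 θ z) (h : StdD ζ t) {e : YY chevE6 r} (he : e ∈ Mz hpE6 r {t})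
    (hs : e ∈ TZ hpE6 t) {n : ℕ} (hn : e ^ 3 ^ n = 1) : e = 1 := by
  obtain ⟨m, hm, rfl⟩ := exists_Mh hpE6 C.toCov0 (cop3 hr) (fun _ => Ps_root) he
  rw [triv_L C h hm hs (C.toCov0.pow_succ hn), map_one]

/-- the `3`-elements over the connected centralizer -/
theorem L_split (hr : r ≠ 3) (C : Cov0 3 θ) (h : StdD ζ t) {x : L} (hx : θ x ∈ DZ hpE6 r {t}) {n : ℕ}
    (hn : x ^ 3 ^ n = 1) : ∃ m ∈ Mh 6 θ (Ps hpE6 r {t}), ∃ s : L, θ s ∈ TZ hpE6 t ∧ (∃ k, s ^ 3 ^ k = 1) ∧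
      x = m * s := by
  obtain ⟨m, hm, s, hs, rfl⟩ := exists_of_DZ C (cop3 hr) hx
  obtain ⟨m', hm', -, h1⟩ := T_split h hs
  obtain ⟨m', hm'', rfl⟩ := exists_Mh hpE6 C (cop3 hr) (fun _ => Ps_root) hm'
  rw [← map_inv, ← map_mul] at h1
  obtain ⟨k, j, hk, hj⟩ := exists_pow_ppart Nat.prime_three (fin_ord_L hpE6 C three_pos (m'⁻¹ * s)) n
  have hc : Commute (m * m') (m'⁻¹ * s) :=
    T_comm_Mh C (cop3 hr) h1.1 (fun _ => Ps_root) h1.2 (mul_mem hm hm'')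
  refine ⟨(m * m') ^ k, pow_mem (mul_mem hm hm'') k, (m'⁻¹ * s) ^ k, by rw [map_pow]; exact pow_mem h1 k,
    ⟨j, hj⟩, ?_⟩
  rw [← hc.mul_pow, show m * m' * (m'⁻¹ * s) = m * s by group, pow_eq_pow_of_modEq hk hn, pow_one]

/-- Lang's theorem for `T₂` -/
theorem lang_TZ (hr : r ≠ 3) (C : Cov6 θ z) (h : StdD ζ t) {σ : MulAut (YY chevE6 r)} {e : ℕ}
    {g : (Fin 6 → ℤ) ≃+ (Fin 6 → ℤ)} (he : 0 < e) (hσ : IsFrob r e σ)
    (F : Fr CoxeterMatrix.E₆.toCoxeterSystem hpE6.isCartan (TT chevE6 (KK r)) (XX chevE6 6 (KK r)) σ g)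
    (hσt : σ t = t) : ∃ s ∈ TZ hpE6 t, s⁻¹ * σ s = t := by
  obtain ⟨u, hu, e1⟩ := lang_T (hp := hpE6) he hσ F h.2.1
  obtain ⟨m, hm, hmT, hs⟩ := T_split h hu
  set s := m⁻¹ * u with hsd
  have hσs := sigma_mem_TZ hσ F h.2.1 hσt hs
  have e2 : m⁻¹ * σ m * (s⁻¹ * σ s) = t := by
    rw [T_comm hpE6 (inv_mem hs.1) hσs.1, ← mul_assoc, mul_assoc m⁻¹, ← map_mul, hsd, mul_inv_cancel_left,
      T_comm hpE6 (mul_mem (inv_mem hmT) ((F.tor u).2 hu)) (inv_mem hs.1), e1, hsd]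
    group
  have h1 : m⁻¹ * σ m ∈ TZ hpE6 t := by
    rw [eq_mul_inv_iff_mul_eq.2 e2]
    exact mul_mem (self_mem_TZ h.2.1) (inv_mem (mul_mem (inv_mem hs) hσs))
  obtain ⟨k, j, hk, hj⟩ := exists_pow_ppart Nat.prime_three (fin_ord' hpE6 (m⁻¹ * σ m)) 1
  have h2 : (m⁻¹ * σ m) ^ k = 1 :=
    triv_Y hr C h (pow_mem (mul_mem (inv_mem hm) (sigma_mem_Mz F h.2.1 hσt hm)) k) (pow_mem h1 k) hj
  refine ⟨s ^ k, pow_mem hs k, ?_⟩
  have h3 : (m⁻¹ * σ m * (s⁻¹ * σ s)) ^ k = t ^ k := by rw [e2]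
  rw [Commute.mul_pow (T_comm hpE6 h1.1 (mul_mem (inv_mem hs.1) hσs.1)), h2, one_mul,
    Commute.mul_pow (T_comm hpE6 (inv_mem hs.1) hσs.1), pow_eq_pow_of_modEq (x := t) hk (by rw [pow_one]; exact StdD.pow h),
    pow_one] at h3
  rw [map_pow, ← inv_pow, h3]

end Six

end DT

end Cfsg.Agent.BHZ.Exc
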