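import Cfsg.Agent.BHZ.Exc.D0

/-!
# S4806, exceptional groups, type `D₄ T₂` (helper25): `boxC2`
-/

set_option autoImplicit false

namespace Cfsg.Agent.BHZ.Exc

open CoxeterSystem Cfsg Cfsg.Lie Cfsg.Lie.ChevalleyDatum
open Cfsg.Agent.ChevalleyStructure Cfsg.Agent.ChevalleyStructure.Elts Cfsg.Agent.ChevalleyStructure.CoxeterGeom
  Cfsg.Agent.ChevalleyStructure.CoxeterGeomTypes
open Cfsg.Agent.Tits.Roots Cfsg.Agent.Tits.Core Cfsg.Agent.Nodes Cfsg.Agent.Nodes.Reps Cfsg.Agent.Nodes.BNOf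
  Cfsg.Agent.Nodes.RGDChev Cfsg.Agent.Nodes.Bruhat
open Cfsg.Agent.KFacts.RgdField Cfsg.Agent.KFacts.RgdChevCoord
open Cfsg.Agent.BpExc Cfsg.Agent.BpExc.TorCent Cfsg.Agent.BpExc.TorChev Cfsg.Agent.BpExc.Tow
  Cfsg.Agent.BpExc.TowChev Cfsg.Agent.BpExc.Fr Cfsg.Agent.BpExc.LangFr
open Cfsg.Agent.H469.Exc Cfsg.Agent.H795.SetCent Cfsg.Agent.H129.TorusChar Cfsg.Agent.DS.Ex Cfsg.Agent.DS.Nt
open scoped commutatorElement

namespace DT

/-- a `p`-group normalizing a non-trivial finite `p`-group centralizes a non-trivial element of it -/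
theorem exists_fixed {G : Type*} [Group G] {p : ℕ} [Fact p.Prime] {T P : Subgroup G} [Finite P] (hT : IsPGroup p T)
    (hP : IsPGroup p P) (h1 : P ≠ ⊥) (hn : ∀ t ∈ T, ∀ d ∈ P, t * d * t⁻¹ ∈ P) :
    ∃ w ∈ P, w ≠ 1 ∧ ∀ t ∈ T, t * w = w * t := by
  let act : MulAction T P :=
    { smul := fun t d => ⟨t * d * (t : G)⁻¹, hn t t.2 d d.2⟩
      one_smul := fun d => Subtype.ext (by
        show ((1 : T) : G) * d * ((1 : T) : G)⁻¹ = d
        simp)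
      mul_smul := fun s t d => Subtype.ext (by
        show ((s * t : T) : G) * d * ((s * t : T) : G)⁻¹ = s * (t * d * (t : G)⁻¹) * (s : G)⁻¹
        simp [mul_assoc]) }
  have hsmul : ∀ (t : T) (d : P), ((t • d : P) : G) = t * d * (t : G)⁻¹ := fun t d => rfl
  have hdvd : p ∣ Nat.card P := by
    obtain ⟨n, hn⟩ := IsPGroup.iff_card.1 hP
    rcases Nat.eq_zero_or_pos n with h0 | h0
    · rw [h0, pow_zero] at hn
      exact absurd (Subgroup.eq_bot_of_card_eq P hn) h1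
    · rw [hn]
      exact dvd_pow_self p h0.ne'
  have h2 : (1 : P) ∈ MulAction.fixedPoints T P := by
    intro t
    apply Subtype.ext
    rw [hsmul]
    simp
  obtain ⟨b, hb, hb1⟩ := hT.exists_fixed_point_of_prime_dvd_card_of_fixed_point P hdvd h2
  refine ⟨b, b.2, fun h => hb1 (Subtype.ext h.symm), fun t ht => ?_⟩
  have := congrArg Subtype.val (hb ⟨t, ht⟩)
  rw [hsmul] at this
  exact mul_inv_eq_iff_eq_mul.1 this

end DT

open DT in
theorem boxC2 : BoxC2 := by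
  intro r _ hr L _ θ z C c X _ Q G hF hZ a ha ζ hD hQ
  have : Fact (Nat.Prime 3) := ⟨Nat.prime_three⟩
  have hr3 := cop3 hr
  have C0 := C.toCov0
  have hσt : G.σ (G.π a) = G.π a := G.fixπ a
  set t := G.π a with ht
  obtain ⟨a', ha'⟩ := C0.surj t
  have hS : ∀ u, u ∈ SS a' ↔ θ u ∈ TZ hpE6 t := fun u => by
    rw [← ha']
    exact mem_SS_iff C.toCov hr3 (by rw [ha']; exact hD.2.1) (by rw [ha']; exact StdD.pow hD)
  have hMS : ∀ m ∈ Mh 6 θ (Ps hpE6 r {t}), ∀ s ∈ SS a', m * s = s * m := fun m hm s hs =>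
    T_comm_Mh C0 hr3 ((hS s).1 hs).1 (fun _ => Ps_root) ((hS s).1 hs).2 hm
  have huniq : ∀ m ∈ Mh 6 θ (Ps hpE6 r {t}), ∀ m' ∈ Mh 6 θ (Ps hpE6 r {t}), ∀ s ∈ SS a', ∀ s' ∈ SS a',
      (∃ k, s ^ 3 ^ k = 1) → (∃ k, s' ^ 3 ^ k = 1) → m * s = m' * s' → m = m' := by
    rintro m hm m' hm' s hs s' hs' ⟨k, hk⟩ ⟨k', hk'⟩ e
    have e1 : m'⁻¹ * m = s' * s⁻¹ := by rw [inv_mul_eq_iff_eq_mul, ← mul_assoc, ← e, mul_inv_cancel_right]
    have h1 := triv_L C hD (mul_mem (inv_mem hm') hm) (n := k' + k)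
      (by rw [e1]; exact (hS _).1 (mul_mem hs' (inv_mem hs)))
      (by rw [e1]; exact pow_pow_mul (SS_comm hs' (inv_mem hs)) hk' (by rw [inv_pow, hk, inv_one]))
    exact (inv_mul_eq_one.1 h1).symm
  let P : Subgroup L :=
    { carrier := {m | m ∈ Mh 6 θ (Ps hpE6 r {t}) ∧ ∃ s ∈ SS a', (∃ k, s ^ 3 ^ k = 1) ∧ m * s ∈ G.Dh}
      one_mem' := ⟨one_mem _, 1, one_mem _, ⟨0, one_pow _⟩, by rw [mul_one]; exact one_mem _⟩
      mul_mem' := by
        rintro m m' ⟨hm, s, hs, ⟨k, hk⟩, h⟩ ⟨hm', s', hs', ⟨k', hk'⟩, h'⟩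
        refine ⟨mul_mem hm hm', s * s', mul_mem hs hs', ⟨k + k', pow_pow_mul (SS_comm hs hs') hk hk'⟩, ?_⟩
        rw [mul_assoc, ← mul_assoc m', hMS m' hm' s hs, mul_assoc, ← mul_assoc]
        exact mul_mem h h'
      inv_mem' := by
        rintro m ⟨hm, s, hs, ⟨k, hk⟩, h⟩
        refine ⟨inv_mem hm, s⁻¹, inv_mem hs, ⟨k, by rw [inv_pow, hk, inv_one]⟩, ?_⟩
        rw [← mul_inv_rev, ← hMS m hm s hs]
        exact inv_mem h }
  have hP : ∀ m, m ∈ P ↔ m ∈ Mh 6 θ (Ps hpE6 r {t}) ∧ ∃ s ∈ SS a', (∃ k, s ^ 3 ^ k = 1) ∧ m * s ∈ G.Dh :=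
    fun _ => Iff.rfl
  have hP3 : ∀ m ∈ P, ∃ k, m ^ 3 ^ k = 1 := by
    rintro m ⟨hm, s, hs, ⟨k, hk⟩, h⟩
    obtain ⟨j, hj⟩ := G.pelt_Dh C0 h
    refine ⟨j + k, ?_⟩
    have h1 := pow_pow_mul (a := m * s) (b := s⁻¹) (by
      rw [mul_inv_cancel_right, hMS m hm s hs, inv_mul_cancel_left]) hj (by rw [inv_pow, hk, inv_one])
    rwa [mul_inv_cancel_right] at h1
  have hfin : Finite P := by
    have := G.finite_Dh C0
    choose s hs hk h using fun m : P => ((hP m).1 m.2).2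
    exact Finite.of_injective (fun m : P => (⟨m * s m, h m⟩ : G.Dh)) fun m m' e =>
      Subtype.ext (huniq m m.2.1 m' m'.2.1 _ (hs m) _ (hs m') (hk m) (hk m') (congrArg Subtype.val e))
  have hcomm : ∀ x ∈ G.Dh, θ x * t = t * θ x := by
    rintro x ⟨d, hd, e⟩
    rw [← e]
    exact hQ d hd
  have hnorm : ∀ x ∈ G.Dh, ∀ m ∈ P, x * m * x⁻¹ ∈ P := by
    rintro x hx m ⟨hm, s, hs, ⟨k, hk⟩, h⟩
    refine ⟨conj_mem_Mh C0 hr3 hD.2.1 (hcomm x hx) hm, x * s * x⁻¹, mem_SS_of_eq C0.cent ?_ (conj_mem_SS x hs),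
      ⟨k, by rw [conj_pow, hk, mul_one, mul_inv_cancel]⟩, ?_⟩
    · rw [map_mul, map_mul, map_inv, ha', hcomm x hx, mul_inv_cancel_right]
    · rw [show x * m * x⁻¹ * (x * s * x⁻¹) = x * (m * s) * x⁻¹ by group]
      exact mul_mem (mul_mem hx h) (inv_mem hx)
  have hfix : ∀ m ∈ P, G.σL m = m := by
    rintro m ⟨hm, s, hs, ⟨k, hk⟩, d, hd, e⟩
    have h1 : θ ((m * s)⁻¹ * G.σL (m * s)) = 1 := by
      rw [map_mul, map_inv, G.lift, ← e, G.fixπ, inv_mul_cancel]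
    have h2 := ker_mem_SS C0.cent h1 a'
    refine huniq _ (fr_Mh hpE6 G.fr G.lift (fun _ => Ps_root)
      (fun b hb => (fr_mem_Ps G.fr hD.2.1 hσt b).2 hb) hm) m hm (G.σL s)
      (mem_SS_of_eq C0.cent (by rw [G.lift, ha', hσt]) (map_mem_SS G.σL hs)) _ (mul_mem hs h2)
      ⟨k, by rw [← map_pow, hk, map_one]⟩
      ⟨k + 1, pow_pow_mul (SS_comm hs h2) hk (by rw [pow_one]; exact C0.expo _ h1)⟩ ?_
    rw [← map_mul, ← mul_assoc, mul_inv_cancel_left]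
  have hbot : P = ⊥ := by
    by_contra h1
    obtain ⟨m, hm, hm1, hc⟩ := exists_fixed (G.isPGroup_Dh C0) (fun m : P => by
      obtain ⟨k, hk⟩ := hP3 m m.2
      exact ⟨k, Subtype.ext hk⟩) h1 hnorm
    obtain ⟨k, hk⟩ := hP3 m hm
    have h2 : m ∈ G.Dh := by
      refine G.mem_Dh_of_cent C0 (hF m (hfix m hm)) hk hc fun y hy hy3 => ?_
      obtain ⟨-, s, hs, -, d, hd, e⟩ := hm
      have hy' : ∀ d ∈ Q, G.π y * G.π d = G.π d * G.π y := fun d hd => by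
        rw [← map_mul, ← Subgroup.mem_centralizer_iff.1 hy d hd, map_mul]
      have h3 : G.π y ∈ DZ hpE6 r {t} := mem_DZ_of_coprime (Set.finite_singleton t)
        (Set.singleton_subset_iff.2 hD.2.1) Nat.prime_three
        (fun s hs => ⟨1, by rw [hs, pow_one]; exact StdD.pow hD⟩) (fun s hs => by rw [hs]; exact hy' a ha)
        ((Nat.Prime.coprime_iff_not_dvd Nat.prime_three).2 hy3) (by rw [← map_pow, pow_orderOf_eq_one, map_one])
      have h4 : Commute (G.π y) (θ s) := (comm_DZ ((hS s).1 hs).1 ((hS s).1 hs).2 h3).symm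
      have h5 : Commute (G.π y) (θ m * θ s) := by
        rw [← map_mul, ← e]
        exact hy' d hd
      have h6 := h5.mul_right h4.inv_right
      rwa [mul_inv_cancel_right] at h6
    have h3 := hZ m h2 fun y hy => (hc y hy).symm
    exact hm1 (triv_L C hD hm.1 (by rw [h3]; exact one_mem _) hk)
  intro d hd hdZ
  obtain ⟨x, hx⟩ := C0.surj (G.π d)
  have hxD := G.mem_Dh_of hd hx
  obtain ⟨n, hn⟩ := G.pelt_Dh C0 hxD
  obtain ⟨m, hm, s, hs, hk, rfl⟩ := L_split hr C0 hD (by rw [hx]; exact hdZ) hn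
  have h1 : m ∈ P := ⟨hm, s, (hS s).2 hs, hk, hxD⟩
  rw [hbot, Subgroup.mem_bot] at h1
  rw [← hx, h1, one_mul]
  exact hs

end Cfsg.Agent.BHZ.Exc
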