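import Cfsg.Agent.DS.Nt.Base
import Cfsg.Agent.H720.TwFr
import Cfsg.Agent.H123.ExcComb
import Cfsg.Agent.BpExc.NChev
import Cfsg.Agent.S1054

/-!
# S4806, exceptional groups: the normal form of a Frobenius map (helper37)

* `rigid` : an automorphism which is linear on all root groups and trivial on the simple ones is trivial;
* `eq_conj_mul` : two automorphisms of the form `Frm e g` differ by a torus element;
* `exists_nf` : type `E₆`, `σ = conj y * sg0 π`, `π` trivial or the graph symmetry.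
-/

set_option autoImplicit false
set_option linter.unusedSectionVars false

namespace Cfsg.Agent.BHZ.Exc.Six

open CoxeterSystem Cfsg Cfsg.Lie Cfsg.Lie.ChevalleyDatum
open Cfsg.Agent.ChevalleyStructure Cfsg.Agent.ChevalleyStructure.Elts Cfsg.Agent.ChevalleyStructure.CoxeterGeom
  Cfsg.Agent.ChevalleyStructure.CoxeterGeomTypes
open Cfsg.Agent.Tits.Roots Cfsg.Agent.Nodes Cfsg.Agent.Nodes.BNOf Cfsg.Agent.Nodes.RGDChev Cfsg.Agent.Nodes.Coroot
open Cfsg.Agent.KFacts.RgdChevCoord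
open Cfsg.Agent.BpExc Cfsg.Agent.BpExc.TowChev Cfsg.Agent.BpExc.Fr Cfsg.Agent.BpExc.LangFr
open Cfsg.Agent.H469.Exc Cfsg.Agent.H129.TorusChar Cfsg.Agent.DS.Ex Cfsg.Agent.DS.Nt
open Cfsg.Agent.H720.TwFr (permE rho6 sig6)

section Gen

variable {D : ChevalleyDatum} {l : ℕ} {M : CoxeterMatrix (Fin l)} {hp : IsType D l M} {r : ℕ} [Fact r.Prime]

theorem center_YY (hD : Typ D) (r : ℕ) [Fact r.Prime] : Subgroup.center (YY D r) = ⊥ := by
  obtain ⟨h1, h2⟩ := S1054.result (F := KK r) D (by rcases hD with rfl | rfl | rfl | rfl <;> simp)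
  rcases h1.eq_bot_or_eq_top_of_normal (Subgroup.center (YY D r)) inferInstance with h | h
  · exact h
  · exact absurd ⟨⟨fun x y => Subgroup.mem_center_iff.1 (h ▸ Subgroup.mem_top y) x⟩⟩ h2

theorem xc_injective {a : Fin l → ℤ} (ha : IsRoot M.toCoxeterSystem hp.isCartan a) :
    Function.Injective (xc (K := KK r) hp a) := by
  obtain ⟨s, hs, rfl⟩ := (isRoot_iff hp M.toCoxeterSystem a).1 ha
  exact xc_inj hp hs

theorem cX_act {a : Fin l → ℤ} (ha : IsRoot M.toCoxeterSystem hp.isCartan a) {t : YY D r} (ht : t ∈ TT D (KK r))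
    (s : KK r) : t * xc hp a s * t⁻¹ = xc hp a (cX hp t a * s) := by
  rw [cX_root hp M.toCoxeterSystem ht ha]
  obtain ⟨s', hs, rfl⟩ := (isRoot_iff hp M.toCoxeterSystem a).1 ha
  exact (act hp hs ht).2 s

theorem mem_Xj {E : Lev (KK r)} {a : Fin l → ℤ} (ha : IsRoot M.toCoxeterSystem hp.isCartan a) {y : YY D r} :
    y ∈ Xj hp E a ↔ ∃ s ∈ E.1, xc hp a s = y := by
  have := charP_lev r E.1
  have C := coords (K := ↥E.1) hp M.toCoxeterSystem r
  constructor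
  · rintro ⟨u, hu, rfl⟩
    obtain ⟨s, rfl⟩ := ((C.coord a ha).mem u).1 hu
    exact ⟨s, s.2, (emb_xc hp E.1.subtype a s).symm⟩
  · rintro ⟨s, hs, rfl⟩
    exact ⟨xc hp a (⟨s, hs⟩ : ↥E.1), ((C.coord a ha).mem _).2 ⟨_, rfl⟩, emb_xc hp _ a _⟩

/-- homomorphisms which agree on the root elements -/
theorem ext_xc {H : Type*} [Group H] {f f' : YY D r →* H}
    (h : ∀ a, IsRoot M.toCoxeterSystem hp.isCartan a → ∀ s, f (xc hp a s) = f' (xc hp a s)) (y : YY D r) :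
    f y = f' y := by
  induction y using FamExt.group_induction hp with
  | h1 => rw [map_one, map_one]
  | hm a b ha hb => rw [map_mul, map_mul, ha, hb]
  | hi a ha => rw [map_inv, map_inv, ha]
  | hx s hs t => exact h _ ((isRoot_iff hp M.toCoxeterSystem _).2 ⟨s, hs, rfl⟩) t

/-- **Rigidity.** -/
theorem rigid (hD : Typ D) {β : MulAut (YY D r)}
    (hx : ∀ a, IsRoot M.toCoxeterSystem hp.isCartan a → ∃ c : KK r, c ≠ 0 ∧ ∀ s, β (xc hp a s) = xc hp a (c * s))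
    (h1 : ∀ i s, β (xc hp (sr i) s) = xc hp (sr i) s) : β = 1 := by
  have := finW hp
  have hfix : ∀ t ∈ TT D (KK r), β t = t := by
    intro t ht
    have h2 : ∀ y, (MulAut.conj (β t)).toMonoidHom y = (MulAut.conj t).toMonoidHom y := by
      refine ext_xc (hp := hp) fun a ha s => ?_
      obtain ⟨c, hc, e⟩ := hx a ha
      have h2 := congrArg β (cX_act (hp := hp) ha ht (c⁻¹ * s))
      rw [map_mul, map_mul, map_inv, e, e, mul_inv_cancel_left₀ hc, mul_left_comm, mul_inv_cancel_left₀ hc,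
        ← cX_act ha ht] at h2
      exact h2
    have h3 : t⁻¹ * β t ∈ Subgroup.center (YY D r) := by
      refine Subgroup.mem_center_iff.2 fun y => ?_
      have h4 : β t * y * (β t)⁻¹ = t * y * t⁻¹ := h2 y
      calc y * (t⁻¹ * β t) = t⁻¹ * (t * y * t⁻¹) * β t := by group
        _ = t⁻¹ * β t * y := by rw [← h4]; group
    rw [center_YY hD, Subgroup.mem_bot] at h3
    exact (inv_mul_eq_one.1 h3).symm
  choose c hc0 hc using fun i : Fin l => hx (-sr i) (isRoot_sr _ _ i).neg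
  have key : ∀ a, IsRoot M.toCoxeterSystem hp.isCartan a → ∀ s : KK r, β (xc hp a s) = xc hp a s := by
    intro a ha s
    obtain ⟨E, hE⟩ := exists_lev (locFin r) (insert s (Set.range c)) ((Set.finite_range c).insert s)
    have R := (tw hp r).rgd E
    have hcE : ∀ i, c i ∈ E.1 := fun i => hE (Set.mem_insert_of_mem _ ⟨i, rfl⟩)
    have hpos : ∀ i, ∀ x ∈ Xj hp E (sr i), β x = x := by
      intro i x hx
      obtain ⟨u, -, rfl⟩ := (mem_Xj (isRoot_sr _ _ i)).1 hx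
      exact h1 i u
    have hTj : ∀ t ∈ Tj hp E, β t = t := fun t ht => hfix t (by
      rw [← TLe hp r]
      exact Tow.le_TL E ht)
    have Dβ : KFacts.RgdDiag.Diag (Tj hp E) (Xj hp E) β 1 := by
      refine ⟨fun t => ⟨fun h => ?_, fun h => ?_⟩, fun i x => ⟨fun h => ?_, fun h => ?_⟩,
        fun i x => ⟨fun h => ?_, fun h => ?_⟩⟩
      · rwa [β.injective (hTj _ h)] at h
      · rwa [hTj _ h]
      · rwa [β.injective (hpos i _ h)] at h
      · rw [hpos i _ h]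
        exact h
      · obtain ⟨u, hu, e⟩ := (mem_Xj (isRoot_sr _ _ i).neg).1 h
        refine (mem_Xj (isRoot_sr _ _ i).neg).2 ⟨(c i)⁻¹ * u, mul_mem (inv_mem (hcE i)) hu, β.injective ?_⟩
        rw [hc, mul_inv_cancel_left₀ (hc0 i), e]
      · obtain ⟨u, hu, rfl⟩ := (mem_Xj (isRoot_sr _ _ i).neg).1 h
        exact (mem_Xj (isRoot_sr _ _ i).neg).2 ⟨c i * u, mul_mem (hcE i) hu, (hc i u).symm⟩
    have h2 : RGD.Sup (Xj hp E) {x | IsRoot M.toCoxeterSystem hp.isCartan x} ≤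
        β.toMonoidHom.eqLocus (MonoidHom.id (YY D r)) :=
      KFacts.RgdRigid.Sup_le_of_simple R (fun i x hx => hpos i x hx)
        (fun i x hx => KFacts.RgdRigid.Diag.apply_neg R Dβ (hpos i) hx)
    exact h2 (RGD.le_Sup (X := Xj hp E) (S := {x | IsRoot M.toCoxeterSystem hp.isCartan x}) ha
      ((mem_Xj ha).2 ⟨s, hE (Set.mem_insert _ _), rfl⟩))
  ext1 y
  exact ext_xc (hp := hp) (f := β.toMonoidHom) (f' := MonoidHom.id _) key y

variable (hp) in
/-- `σ` has the form of a Frobenius map on the root groups -/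
def Frm (e : ℕ) (σ : MulAut (YY D r)) (g : (Fin l → ℤ) ≃+ (Fin l → ℤ)) : Prop :=
  ∀ a, IsRoot M.toCoxeterSystem hp.isCartan a →
    ∃ u : KK r, u ≠ 0 ∧ ∀ s : KK r, σ (xc hp a s) = xc hp (g a) (u * s ^ r ^ e)

variable {e : ℕ} {σ σ' : MulAut (YY D r)} {g g' : (Fin l → ℤ) ≃+ (Fin l → ℤ)}

theorem Frm.of_fr (h : IsFrob r e σ)
    (F : Fr M.toCoxeterSystem hp.isCartan (TT D (KK r)) (XX D l (KK r)) σ g) : Frm hp e σ g :=
  fun _ ha => HX.fr_xc hp M.toCoxeterSystem h F ha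

theorem Frm.mul_conj (h : Frm hp e σ g) {w : M.Group} {k : YY D r} (hk : RP hp r w k) :
    Frm hp e (σ * MulAut.conj k) ((repAut M.toCoxeterSystem hp.isCartan w).trans g) := by
  intro a ha
  obtain ⟨c, hc0, hc⟩ := Frm.of_fr (IsFrob.conj k) hk.fr a ha
  obtain ⟨u, hu0, hu⟩ := h _ (ha.act w)
  refine ⟨u * c ^ r ^ e, mul_ne_zero hu0 (pow_ne_zero _ hc0), fun s => ?_⟩
  rw [MulAut.mul_apply, hc, pow_zero, pow_one, repAut_apply, hu, mul_pow, mul_assoc]
  rfl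

/-- **Two maps of the same form differ by a torus element.** -/
theorem eq_conj_mul (hD : Typ D) (h : Frm hp e σ g) (h' : Frm hp e σ' g) :
    ∃ t ∈ TT D (KK r), σ = σ' * MulAut.conj t := by
  have hq : 0 < r ^ e := pow_pos (Fact.out : r.Prime).pos e
  have hinj : ∀ a b : KK r, a ^ r ^ e = b ^ r ^ e → a = b := fun a b hab =>
    (FamField.frb (KK r) r e).injective (by rw [FamField.frb_apply, FamField.frb_apply, hab])
  have hx : ∀ a, IsRoot M.toCoxeterSystem hp.isCartan a →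
      ∃ c : KK r, c ≠ 0 ∧ ∀ s, (σ'⁻¹ * σ) (xc hp a s) = xc hp a (c * s) := by
    intro a ha
    obtain ⟨u, hu0, hu⟩ := h a ha
    obtain ⟨v, hv0, hv⟩ := h' a ha
    obtain ⟨c, hc⟩ := IsAlgClosed.exists_pow_nat_eq (v⁻¹ * u) hq
    refine ⟨c, fun h0 => ?_, fun s => σ'.injective ?_⟩
    · rw [h0, zero_pow hq.ne'] at hc
      exact mul_ne_zero (inv_ne_zero hv0) hu0 hc.symm
    · rw [MulAut.mul_apply, MulAut.apply_inv_self, hu, hv, mul_pow, hc, ← mul_assoc, mul_inv_cancel_left₀ hv0]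
  choose c hc0 hc using fun i : Fin l => hx (sr i) (isRoot_sr _ _ i)
  obtain ⟨t, ht, hch⟩ := exists_tor hp hD (IsMC.of_prod c hc0)
  have hsr : ∀ i, cX hp t (sr i) = c i := by
    intro i
    rw [hch, Finset.prod_eq_single i]
    · rw [sr_self, zpow_one]
    · intro j _ hj
      rw [sr_ne hj, zpow_zero]
    · intro h
      exact absurd (Finset.mem_univ i) h
  have hinv : ∀ a, IsRoot M.toCoxeterSystem hp.isCartan a → ∀ s,
      (MulAut.conj t)⁻¹ (xc hp a s) = xc hp a ((cX hp t a)⁻¹ * s) := by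
    intro a ha s
    apply (MulAut.conj t).injective
    rw [MulAut.apply_inv_self, MulAut.conj_apply, cX_act ha ht,
      mul_inv_cancel_left₀ ((isMC_cX hp ht).ne_zero a)]
  have h1 : (MulAut.conj t)⁻¹ * (σ'⁻¹ * σ) = 1 := by
    refine rigid (hp := hp) hD (fun a ha => ?_) fun i s => ?_
    · obtain ⟨b, hb0, hb⟩ := hx a ha
      refine ⟨(cX hp t a)⁻¹ * b, mul_ne_zero (inv_ne_zero ((isMC_cX hp ht).ne_zero a)) hb0, fun s => ?_⟩
      rw [MulAut.mul_apply, hb, hinv a ha, mul_assoc]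
    · rw [MulAut.mul_apply, hc, hinv _ (isRoot_sr _ _ i), hsr, inv_mul_cancel_left₀ (hc0 i)]
  refine ⟨t, ht, ?_⟩
  rw [inv_mul_eq_one.1 h1, mul_inv_cancel_left]

/-- an automorphism of the root system which preserves the positive roots permutes the simple roots -/
theorem exists_perm (hg : ∀ a, IsRoot M.toCoxeterSystem hp.isCartan (g a) ↔ IsRoot M.toCoxeterSystem hp.isCartan a)
    (hpos : ∀ a, IsRoot M.toCoxeterSystem hp.isCartan a → 0 ≤ a → 0 ≤ g a) (i : Fin l) : ∃ j, g (sr i) = sr j := by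
  have hi := isRoot_sr M.toCoxeterSystem hp.isCartan i
  have hbr := (hg _).2 hi
  have hb0 : 0 ≤ g (sr i) := hpos _ hi (sr_nonneg i)
  obtain ⟨j, hj⟩ := Function.ne_iff.1 hbr.ne_zero
  have ha : ∀ k, IsRoot M.toCoxeterSystem hp.isCartan (g.symm (sr k)) := fun k => by
    rw [← hg, g.apply_symm_apply]
    exact isRoot_sr _ _ k
  have ha0 : ∀ k, 0 ≤ g.symm (sr k) := by
    intro k
    rcases (ha k).pos_or_neg with h | h
    · exact h
    · have h1 := hpos _ (ha k).neg (neg_nonneg.2 h)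
      rw [map_neg, g.apply_symm_apply] at h1
      have h2 := h1 k
      rw [Pi.neg_apply, sr_self] at h2
      exact absurd h2 (by norm_num)
  have h1 : (sr i : Fin l → ℤ) = ∑ k, g (sr i) k • g.symm (sr k) := by
    conv_lhs => rw [← g.symm_apply_apply (sr i), IsMC.eq_sum_sr (g (sr i)), map_sum]
    exact Finset.sum_congr rfl fun k _ => map_zsmul _ _ _
  have h2 : g.symm (sr j) = sr i := by
    refine (ha j).eq_sr (ha0 j) i fun m hm => ?_
    have h3 := congrFun h1 m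
    rw [sr_ne hm, Finset.sum_apply, eq_comm, Finset.sum_eq_zero_iff_of_nonneg] at h3
    · have h4 := h3 j (Finset.mem_univ j)
      simp only [Pi.smul_apply, smul_eq_mul] at h4
      exact (mul_eq_zero.1 h4).resolve_left hj
    · intro k _
      simp only [Pi.smul_apply, smul_eq_mul]
      exact mul_nonneg (hb0 k) (ha0 k m)
  exact ⟨j, by rw [← h2, g.apply_symm_apply]⟩

end Gen

section Six

variable {r : ℕ} [Fact r.Prime]

set_option synthInstance.maxSize 4000 in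
set_option synthInstance.maxHeartbeats 200000 in
theorem cartan_aux : ∀ d b : Fin 6, cartanOf chevE6 6 b d = -1 → ∀ c : Fin 6, cartanOf chevE6 6 c d = -1 →
    cartanOf chevE6 6 c b = 0 → ∀ e : Fin 6, cartanOf chevE6 6 e d = -1 → cartanOf chevE6 6 e b = 0 →
    cartanOf chevE6 6 e c = 0 → ∀ a : Fin 6, cartanOf chevE6 6 a c = -1 → cartanOf chevE6 6 a d = 0 →
    ∀ f : Fin 6, cartanOf chevE6 6 f e = -1 → cartanOf chevE6 6 f d = 0 →
    (a = 0 ∧ b = 1 ∧ c = 2 ∧ d = 3 ∧ e = 4 ∧ f = 5) ∨ (a = 5 ∧ b = 1 ∧ c = 4 ∧ d = 3 ∧ e = 2 ∧ f = 0) := by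
  decide +kernel

theorem cartan_val : cartanOf chevE6 6 1 3 = -1 ∧ cartanOf chevE6 6 2 3 = -1 ∧ cartanOf chevE6 6 2 1 = 0 ∧
    cartanOf chevE6 6 4 3 = -1 ∧ cartanOf chevE6 6 4 1 = 0 ∧ cartanOf chevE6 6 4 2 = 0 ∧
    cartanOf chevE6 6 0 2 = -1 ∧ cartanOf chevE6 6 0 3 = 0 ∧ cartanOf chevE6 6 5 4 = -1 ∧
    cartanOf chevE6 6 5 3 = 0 := by
  decide +kernel

theorem cartan_perm {f : Fin 6 → Fin 6} (h : ∀ i j, cartanOf chevE6 6 (f i) (f j) = cartanOf chevE6 6 i j) :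
    (∀ i, f i = (1 : Equiv.Perm (Fin 6)) i) ∨ ∀ i, f i = rho6 i := by
  obtain ⟨h1, h2, h3, h4, h5, h6, h7, h8, h9, h10⟩ := cartan_val
  rcases cartan_aux (f 3) (f 1) ((h _ _).trans h1) (f 2) ((h _ _).trans h2) ((h _ _).trans h3) (f 4)
    ((h _ _).trans h4) ((h _ _).trans h5) ((h _ _).trans h6) (f 0) ((h _ _).trans h7) ((h _ _).trans h8) (f 5)
    ((h _ _).trans h9) ((h _ _).trans h10) with ⟨e0, e1, e2, e3, e4, e5⟩ | ⟨e0, e1, e2, e3, e4, e5⟩
  · left
    intro i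
    fin_cases i
    exacts [e0, e1, e2, e3, e4, e5]
  · right
    intro i
    fin_cases i
    exacts [e0, e1, e2, e3, e4, e5]

theorem permE_sr (π : Equiv.Perm (Fin 6)) (i : Fin 6) : permE π (sr i) = sr (π i) := by
  funext j
  show sr i (π.symm j) = sr (π i) j
  simp only [sr, Pi.single_apply, Equiv.symm_apply_eq]

/-- **The automorphisms of the root system `E₆`.** -/
theorem exists_weyl {g : (Fin 6 → ℤ) ≃+ (Fin 6 → ℤ)}
    (hg : ∀ a, IsRoot CoxeterMatrix.E₆.toCoxeterSystem hpE6.isCartan (g a) ↔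
      IsRoot CoxeterMatrix.E₆.toCoxeterSystem hpE6.isCartan a) :
    ∃ (v : CoxeterMatrix.E₆.Group) (π : Equiv.Perm (Fin 6)), (π = 1 ∨ π = rho6) ∧
      (repAut CoxeterMatrix.E₆.toCoxeterSystem hpE6.isCartan v).trans g = permE π := by
  have := finW hpE6
  obtain ⟨v, -, hv⟩ := exists_adjust (cs := CoxeterMatrix.E₆.toCoxeterSystem) (h := hpE6.isCartan)
    {a | IsRoot CoxeterMatrix.E₆.toCoxeterSystem hpE6.isCartan a} ⊤
    (fun a ⟨w, i, h⟩ => ⟨w, i, h, Subgroup.mem_top _⟩) g fun a ha => (hg a).2 ha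
  obtain ⟨g', hg'⟩ : ∃ g', g' = (repAut CoxeterMatrix.E₆.toCoxeterSystem hpE6.isCartan v).trans g := ⟨_, rfl⟩
  have h1 : ∀ a, IsRoot CoxeterMatrix.E₆.toCoxeterSystem hpE6.isCartan (g' a) ↔
      IsRoot CoxeterMatrix.E₆.toCoxeterSystem hpE6.isCartan a := by
    intro a
    rw [hg', AddEquiv.trans_apply, hg, repAut_apply]
    refine ⟨fun h => ?_, fun h => h.act v⟩
    have h2 := h.act v⁻¹
    rwa [rep_inv_apply] at h2
  choose f hf using exists_perm (hp := hpE6) h1 fun a ha h0 => by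
    rw [hg']
    exact hv a ha h0
  have h2 : ∀ i j, cartanOf chevE6 6 (f i) (f j) = cartanOf chevE6 6 i j := by
    intro i j
    have h3 := H123.ExcComb.cpr_g h1 (isRoot_sr _ _ j) (isRoot_sr _ _ i)
    rwa [hf, hf, cpr_sr, cpr_sr, sr, sr, pairing_single, pairing_single, mul_one, mul_one] at h3
  have key : ∀ π : Equiv.Perm (Fin 6), (∀ i, f i = π i) → g' = permE π := by
    intro π hπ
    ext1 x
    rw [IsMC.eq_sum_sr x, map_sum, map_sum]
    exact Finset.sum_congr rfl fun i _ => by rw [map_zsmul, map_zsmul, hf, hπ, permE_sr]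
  rcases cartan_perm h2 with h | h
  · exact ⟨v, 1, Or.inl rfl, hg'.symm.trans (key 1 h)⟩
  · exact ⟨v, rho6, Or.inr rfl, hg'.symm.trans (key rho6 h)⟩

variable (r) in
/-- `σ` is one of the two standard Frobenius maps -/
def IsStd (e : ℕ) (π : Equiv.Perm (Fin 6)) (σ : MulAut (YY chevE6 r)) : Prop :=
  (π = 1 ∧ σ = FamUntw.phi chevE6 (KK r) r e) ∨ (π = rho6 ∧ σ = sig6 (KK r) r e)

variable {e : ℕ} {π : Equiv.Perm (Fin 6)} {σ σ0 : MulAut (YY chevE6 r)} {g : (Fin 6 → ℤ) ≃+ (Fin 6 → ℤ)}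

theorem IsStd.frob (h : IsStd r e π σ) : IsFrob r e σ := by
  rcases h with ⟨-, rfl⟩ | ⟨-, rfl⟩
  · exact FamInst.phi_isFrob r e
  · exact H720.TwFr.isFrob_sig6 r e

theorem IsStd.fr (h : IsStd r e π σ) : Fr CoxeterMatrix.E₆.toCoxeterSystem hpE6.isCartan (TT chevE6 (KK r))
    (XX chevE6 6 (KK r)) σ (permE π) := by
  rcases h with ⟨rfl, rfl⟩ | ⟨rfl, rfl⟩
  · exact FamInst.phi_fr hpE6 _ r (locFin r) e
  · exact H720.TwFr.fr_sig6 (locFin r) r hpE6 _ e

theorem exists_isStd (e : ℕ) (hπ : π = 1 ∨ π = rho6) : ∃ σ0, IsStd r e π σ0 := by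
  rcases hπ with h | h
  · exact ⟨_, Or.inl ⟨h, rfl⟩⟩
  · exact ⟨_, Or.inr ⟨h, rfl⟩⟩

/-- **The normal form.** -/
theorem exists_nf (hg : ∀ a, IsRoot CoxeterMatrix.E₆.toCoxeterSystem hpE6.isCartan (g a) ↔
      IsRoot CoxeterMatrix.E₆.toCoxeterSystem hpE6.isCartan a) (h : Frm hpE6 e σ g) :
    ∃ (π : Equiv.Perm (Fin 6)) (σ0 : MulAut (YY chevE6 r)) (v : CoxeterMatrix.E₆.Group) (k : YY chevE6 r),
      IsStd r e π σ0 ∧ RP hpE6 r v k ∧ σ = σ0 * MulAut.conj k ∧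
        g = (repAut CoxeterMatrix.E₆.toCoxeterSystem hpE6.isCartan v).trans (permE π) := by
  obtain ⟨v, π, hπ, hv⟩ := exists_weyl hg
  obtain ⟨σ0, h0⟩ := exists_isStd (r := r) e hπ
  obtain ⟨k, hk⟩ := exists_RP hpE6 r v
  have h1 := h.mul_conj hk
  rw [hv] at h1
  obtain ⟨t, ht, h2⟩ := eq_conj_mul (Or.inr (Or.inl rfl)) h1 (Frm.of_fr h0.frob h0.fr)
  refine ⟨π, σ0, v⁻¹, t * k⁻¹, h0, ?_, ?_, ?_⟩
  · have h3 := (RP.of_mem (hp := hpE6) ht).mul hk.inv
    rwa [one_mul] at h3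
  · rw [map_mul, ← mul_assoc, ← h2, map_inv, mul_inv_cancel_right]
  · rw [← hv]
    ext1 x
    rw [AddEquiv.trans_apply, AddEquiv.trans_apply, repAut_apply, repAut_apply, rep_apply_inv]

theorem frob_of_frm (hg : ∀ a, IsRoot CoxeterMatrix.E₆.toCoxeterSystem hpE6.isCartan (g a) ↔
      IsRoot CoxeterMatrix.E₆.toCoxeterSystem hpE6.isCartan a) (h : Frm hpE6 e σ g) :
    IsFrob r e σ ∧ Fr CoxeterMatrix.E₆.toCoxeterSystem hpE6.isCartan (TT chevE6 (KK r)) (XX chevE6 6 (KK r)) σ g := by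
  obtain ⟨π, σ0, v, k, h0, hk, h1, h2⟩ := exists_nf hg h
  have h3 := h0.frob.mul (IsFrob.conj k)
  have h4 := h0.fr.mul hk.fr
  rw [add_zero, ← h1] at h3
  rw [← h1, ← h2] at h4
  exact ⟨h3, h4⟩

end Six

end Cfsg.Agent.BHZ.Exc.Six
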