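import Cfsg.Agent.BHZ.Nil.Iface
import Cfsg.Agent.BHZ.Nil.DZ
import Cfsg.Agent.DS.Nt.Kac
import Cfsg.Agent.H321.Mono.OrbA
import Cfsg.Agent.ChevalleyStructure.StTheta

/-!
# S4806, exceptional groups in cross characteristic: the interface

See `notes/BHZ/plan.md` for the proofs on paper.  `K = KK r`, `Y = YY D r` is the adjoint group,
`θ : L → Y` a central extension whose kernel is killed by `p` (case I: `θ = id`; case II: the
universal group of type `E₆`, `p = 3`), `X` a finite group, `Q` a `p`-subgroup of `X` with the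
local properties `LocX` of a defect group of a nilpotent block.
-/

set_option autoImplicit false

namespace Cfsg.Agent.BHZ.Exc

open CoxeterSystem Cfsg Cfsg.Lie Cfsg.Lie.ChevalleyDatum
open Cfsg.Agent.ChevalleyStructure Cfsg.Agent.ChevalleyStructure.Elts Cfsg.Agent.ChevalleyStructure.CoxeterGeom
  Cfsg.Agent.ChevalleyStructure.CoxeterGeomTypes
open Cfsg.Agent.Tits.Roots Cfsg.Agent.Tits.Core Cfsg.Agent.Nodes Cfsg.Agent.Nodes.Reps Cfsg.Agent.Nodes.BNOf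
  Cfsg.Agent.Nodes.RGDChev Cfsg.Agent.Nodes.Bruhat
open Cfsg.Agent.KFacts.RgdField Cfsg.Agent.KFacts.RgdChevCoord
open Cfsg.Agent.BpExc Cfsg.Agent.BpExc.TorCent Cfsg.Agent.BpExc.TorChev Cfsg.Agent.BpExc.Tow
  Cfsg.Agent.BpExc.TowChev Cfsg.Agent.BpExc.Fr Cfsg.Agent.BpExc.LangFr
open Cfsg.Agent.H469.Exc Cfsg.Agent.H795.SetCent Cfsg.Agent.H129.TorusChar Cfsg.Agent.DS.Ex Cfsg.Agent.DS.Nt
open Cfsg.Agent.H46.Gen (AFr Rt xf)
open Cfsg.Agent.H321.Ker (cj stG stm sc)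
open Cfsg.Agent.H931.KC (al)
open Cfsg.Agent.H665.NoPQ (HasDZ)
open scoped MatrixGroups
open Matrix.SpecialLinearGroup (transvection)

universe u

/-- The local conditions (they pass to the centralizer of an element of the centre of `Q`). -/
structure LocX (p c : ℕ) (X : Type) [Group X] (Q : Subgroup X) : Prop where
  pg : IsPGroup p Q
  syl : ∀ P : Subgroup X, IsPGroup p P → Q ≤ P → P ≤ Nil.KK p Q → P = Q
  fus : ∀ R ≤ Q, ∀ x ∈ Subgroup.normalizer (R : Set X), x ∈ ⁅Nil.KK p R, Nil.KK p R⁆ →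
    ¬ p ∣ orderOf x → x ∈ Subgroup.centralizer (R : Set X)
  dz : ∀ N : Subgroup X, N ≤ Subgroup.centralizer (Q : Set X) →
    Subgroup.centralizer (Q : Set X) ≤ Subgroup.normalizer (N : Set X) → N ⊓ Q = ⊥ →
    ∃ (N' : Type) (_ : Group N') (_ : Finite N') (f : N' →* N), Function.Surjective f ∧
      f.ker ≤ Subgroup.center N' ∧ Nat.card f.ker ∣ c ∧ HasDZ p N'

/-- the possible orders of the `3'`-part of the centre for the types `E₆`, `E₇`, `E₈` -/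
def NDc (r e c : ℕ) : Prop := c = 1 ∨ (c ∣ 2 ∧ r ≠ 2) ∨ (r ^ e = 2 ∧ ¬ 3 ∣ c)

section Defs

variable {D : ChevalleyDatum} {l : ℕ} {M : CoxeterMatrix (Fin l)} (hp : IsType D l M) (r : ℕ) [Fact r.Prime]

/-- the roots of a frame -/
def Rts {n : ℕ} (ev : Fin n → Fin l → ℤ) : Set (Fin l → ℤ) := {v | ∃ i j, i ≠ j ∧ v = ev i - ev j}

/-- the root groups of `a` and `b` commute (see `H46.Gen.xc_commute`) -/
def SO (D : ChevalleyDatum) (l : ℕ) (a b : Fin l → ℤ) : Prop :=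
  b ≠ -a ∧ ∀ m n : ℕ, 0 < m → 0 < n → ¬ Rt D l ((m : ℤ) • a + (n : ℤ) • b)

/-- the frame is a component of `S` -/
def Comp (D : ChevalleyDatum) (l : ℕ) {n : ℕ} (ev : Fin n → Fin l → ℤ) (S : Set (Fin l → ℤ)) : Prop :=
  Rts ev ⊆ S ∧ ∀ a ∈ Rts ev, ∀ b ∈ S, b ∉ Rts ev → SO D l a b

/-- components of type `A` are removed from `S` one by one; the rest satisfies `P` -/
inductive Dec (D : ChevalleyDatum) (l p : ℕ) (P : Set (Fin l → ℤ) → Prop) : Set (Fin l → ℤ) → Prop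
  | base (S : Set (Fin l → ℤ)) : P S → Dec D l p P S
  | step (S : Set (Fin l → ℤ)) (n : ℕ) (ev : Fin (n + 1) → Fin l → ℤ) : AFr D l ev → 2 ≤ n → (n = 2 → p = 3) →
      Comp D l ev S → Dec D l p P (S \ Rts ev) → Dec D l p P S

variable {r} {L : Type} [Group L]

/-- the subgroup of `L` generated by the lifts of order `r` of the root elements, roots in `S` -/
def Mh (l : ℕ) (θ : L →* YY D r) (S : Set (Fin l → ℤ)) : Subgroup L :=
  Subgroup.closure {u | u ^ r = 1 ∧ ∃ a ∈ S, θ u ∈ XX D l (KK r) a}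

/-- the centre of `Mh S` has no `p`-elements -/
def Triv (p : ℕ) (θ : L →* YY D r) (S : Set (Fin l → ℤ)) : Prop :=
  ∀ c ∈ Mh l θ S, θ c ∈ TT D (KK r) → (∀ a ∈ S, cX hp (θ c) a = 1) → ∀ n : ℕ, c ^ p ^ n = 1 → c = 1

/-- the centralizer has a component of type `E₆` (`D` of type `E₇` or `E₈`) -/
def Flag (p : ℕ) (t : YY D r) : Prop :=
  p = 3 ∧ (D = chevE7 ∨ D = chevE8) ∧ ∃ i : Fin l, i.val = 6 ∧ t ∈ Om hp r 3 i

/-- a central extension with a finite kernel killed by `p` -/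
structure Cov0 (p : ℕ) (θ : L →* YY D r) : Prop where
  surj : Function.Surjective θ
  cent : θ.ker ≤ Subgroup.center L
  expo : ∀ z, θ z = 1 → z ^ p = 1
  fin : Finite θ.ker

/-- the properties of the central extension -/
structure Cov (p : ℕ) (θ : L →* YY D r) : Prop extends Cov0 p θ where
  /-- the preimage of the torus is abelian -/
  tcomm : ∀ a b : L, θ a ∈ TT D (KK r) → θ b ∈ TT D (KK r) → a * b = b * a
  /-- the kernel consists of `p`-th powers in the torus -/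
  root : ∀ z : L, θ z = 1 → ∃ w : L, θ w ∈ TT D (KK r) ∧ w ^ p = z
  /-- connected centralizers -/
  conn : ∀ a x : L, θ a ∈ TT D (KK r) → θ a ^ p = 1 → x * a = a * x → θ x ∈ DZ hp r {θ a}
  /-- the table of the centralizers of the elements of order `p` -/
  dec : ∀ t ∈ TT D (KK r), t ^ p = 1 → t ≠ 1 → Dec D l p (Triv hp p θ) (Ps hp r {t}) ∨ Flag hp p t

/-- **The general setting.** -/
structure GS (p c : ℕ) (θ : L →* YY D r) (X : Type) [Group X] (Q : Subgroup X) where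
  /-- `q = r ^ e` -/
  e : ℕ
  /-- the Frobenius automorphism -/
  σ : MulAut (YY D r)
  /-- its action on the roots -/
  g : (Fin l → ℤ) ≃+ (Fin l → ℤ)
  /-- its lift to `L` -/
  σL : MulAut L
  /-- the action of `X` -/
  π : X →* YY D r
  /-- the part of the fixed points of `σL` which maps to `X` -/
  L0 : Subgroup L
  /-- the map to `X` -/
  ψ : L0 →* X
  he : 0 < e
  frob : IsFrob r e σ
  fr : Fr M.toCoxeterSystem hp.isCartan (TT D (KK r)) (XX D l (KK r)) σ g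
  lift : ∀ x, θ (σL x) = σ (θ x)
  fixπ : ∀ x, σ (π x) = π x
  fixL : ∀ m ∈ L0, σL m = m
  πψ : ∀ m : L0, π (ψ m) = θ m
  eqv : ∀ (x : X) (y : L), θ y = π x → ∀ m : L0, ∃ h : y * m * y⁻¹ ∈ L0, ψ ⟨_, h⟩ = x * ψ m * x⁻¹
  rel : ∀ u : L, σL u = u → (∃ n : ℕ, u ^ r ^ n = 1) → u ∈ L0
  full2 : r ^ e = 2 → p = 3 → ∀ u : L, σL u = u → u ∈ L0
  hc : 6 ≤ l → p = 3 → NDc r e c
  fin : Finite X
  loc : LocX p c X Q

variable {hp} {p c : ℕ} {θ : L →* YY D r} {X : Type} [Group X] {Q : Subgroup X}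

/-- the preimage in `L` of the image of `Q` -/
noncomputable def GS.Dh (G : GS hp p c θ X Q) : Subgroup L := (Q.map G.π).comap θ

/-- the goal -/
def GS.Ab (G : GS hp p c θ X Q) : Prop := ∀ x ∈ G.Dh, ∀ y ∈ G.Dh, x * y = y * x

/-- all fixed points map to `X` -/
def GS.Full (G : GS hp p c θ X Q) : Prop := ∀ u : L, G.σL u = u → u ∈ G.L0

/-- the centre of `Dh` lies in the kernel -/
def GS.ZK (G : GS hp p c θ X Q) : Prop := ∀ x ∈ G.Dh, (∀ y ∈ G.Dh, x * y = y * x) → θ x = 1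

end Defs

section Six

variable (r : ℕ) [Fact r.Prime]

/-- the universal group of type `E₆` -/
abbrev St6 : Type := chevE6.SteinbergGroup (KK r)

/-- the covering -/
noncomputable def th6 : St6 r →* YY chevE6 r := StTheta.theta hpE6.inList (KK r)

variable {r}

/-- the standard element with centralizer of type `A₂³` -/
def StdA (ζ : KK r) (t : YY chevE6 r) : Prop :=
  IsPrimitiveRoot ζ 3 ∧ t ∈ TT chevE6 (KK r) ∧ ∀ x, cX hpE6 t x = ζ ^ x 3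

/-- the standard element with centralizer of type `D₄ T₂` -/
def StdD (ζ : KK r) (t : YY chevE6 r) : Prop :=
  IsPrimitiveRoot ζ 3 ∧ t ∈ TT chevE6 (KK r) ∧ ∀ x, cX hpE6 t x = ζ ^ (x 0 + x 5)

/-- type `A₂³` -/
def TypA (y : YY chevE6 r) : Prop := ∃ (g : YY chevE6 r) (ζ : KK r), StdA ζ (g * y * g⁻¹)

/-- type `D₄ T₂` -/
def TypD (y : YY chevE6 r) : Prop := ∃ (g : YY chevE6 r) (ζ : KK r), StdD ζ (g * y * g⁻¹)

/-- the rotation of the extended diagram -/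
def rho : Option (Fin 6) → Option (Fin 6)
  | none => some 0
  | some i => ![some 5, some 2, some 4, some 3, some 1, none] i

/-- `v` rotates the extended diagram -/
def Rot (v : CoxeterMatrix.E₆.Group) : Prop :=
  (∀ i, rep CoxeterMatrix.E₆.toCoxeterSystem hpE6.isCartan v (al chevE6 6 i) = al chevE6 6 (rho i)) ∨
    ∀ i, rep CoxeterMatrix.E₆.toCoxeterSystem hpE6.isCartan v (al chevE6 6 (rho i)) = al chevE6 6 i

/-- case II -/
structure Cov6 {L : Type} [Group L] (θ : L →* YY chevE6 r) (z : L) : Prop extends Cov hpE6 3 θ where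
  ne : z ≠ 1
  ker : θ.ker = Subgroup.zpowers z
  trivD : ∀ (ζ : KK r) (t : YY chevE6 r), StdD ζ t → Triv hpE6 3 θ (Ps hpE6 r {t})

variable (r) in
/-- the theorem in case II -/
def Main6 : Prop := ∀ (c : ℕ) (X : Type) [Group X] (Q : Subgroup X) (G : GS hpE6 3 c (th6 r) X Q), G.Full → G.Ab

end Six

/-- [RED] From a nilpotent block to `LocX` in the quotient by the `p'`-part of the centre. -/
def BoxRED : Prop := ∀ (p : ℕ) [Fact p.Prime] (S : Type) [Group S] (G : Type u) [Group G] [Finite G] (σ : G →* S),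
  commutator G = ⊤ → Function.Surjective σ → σ.ker ≤ Subgroup.center G →
  ∀ M : Ideal AlgInt, IsPModular p M → ∀ B : Set (IrrCharacter G), IsNilpotentBlock p M B →
    ∀ D : Subgroup G, IsDefectGroup p M B D →
      ∃ (X : Type) (_ : Group X) (_ : Finite X) (ρ : X →* S) (c : ℕ) (Q : Subgroup X), commutator X = ⊤ ∧
        Function.Surjective ρ ∧ ρ.ker ≤ Subgroup.center X ∧ IsPGroup p ρ.ker ∧ ¬ p ∣ c ∧
        (∀ (A : Type) [CommGroup A], HasSchurMultiplier S A → c * Nat.card ρ.ker ∣ Nat.card A) ∧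
        LocX p c X Q ∧ (IsMulCommutative Q → IsMulCommutative D)

/-- [TA] The projection to a component of type `A` is abelian, also in `GL`. -/
def BoxTA : Prop := ∀ (D : ChevalleyDatum) (l : ℕ) (M : CoxeterMatrix (Fin l)) (hp : IsType D l M) (r : ℕ)
  [Fact r.Prime] (p c : ℕ) [Fact p.Prime], p ≠ 2 → p ≠ r → ∀ (L : Type) [Group L] (θ : L →* YY D r), Cov0 p θ →
  ∀ (X : Type) [Group X] (Q : Subgroup X) (G : GS hp p c θ X Q), ∀ a ∈ Q, G.π a ∈ TT D (KK r) →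
  ∀ (n : ℕ) (ev : Fin (n + 1) → Fin l → ℤ), AFr D l ev → 2 ≤ n → (n = 2 → p = 3) →
    Comp D l ev (Ps hp r {G.π a}) → ∀ φ : Matrix.SpecialLinearGroup (Fin (n + 1)) (KK r) →* YY D r,
    (∀ i j (hij : i ≠ j) s, φ (transvection hij s) = xf hp ev i j s) →
    ∀ d ∈ Q, ∀ d' ∈ Q, G.π d ∈ DZ hp r {G.π a} → G.π d' ∈ DZ hp r {G.π a} → ∀ h h' : GL (Fin (n + 1)) (KK r),
      (∀ m, G.π d * φ m * (G.π d)⁻¹ = φ (cj h m)) → (∀ m, G.π d' * φ m * (G.π d')⁻¹ = φ (cj h' m)) →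
      h * h' = h' * h

/-- the pairs of case I with `p` dividing the order of the Weyl group -/
def PairI (D : ChevalleyDatum) (p : ℕ) : Prop :=
  (D = chevG2 ∧ p = 3) ∨ (D = chevD4 ∧ p = 3) ∨ (D = chevF4 ∧ p = 3) ∨ (D = chevE6 ∧ p = 5) ∨
    ((D = chevE7 ∨ D = chevE8) ∧ (p = 3 ∨ p = 5 ∨ p = 7))

/-- [CovI] case I -/
def BoxCovI : Prop := ∀ (D : ChevalleyDatum) (l : ℕ) (M : CoxeterMatrix (Fin l)) (hp : IsType D l M) (r : ℕ)
  [Fact r.Prime] (p : ℕ), PairI D p → p ≠ r → Cov hp p (MonoidHom.id (YY D r))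

/-- [CovII] case II -/
def BoxCovII : Prop := ∀ (r : ℕ) [Fact r.Prime], r ≠ 3 → ∃ z, Cov6 (th6 r) z

/-- [Lift6] Frobenius automorphisms lift to the universal group -/
def BoxLift6 : Prop := ∀ (r : ℕ) [Fact r.Prime], r ≠ 3 → ∀ (e : ℕ) (σ : MulAut (YY chevE6 r))
  (g : (Fin 6 → ℤ) ≃+ (Fin 6 → ℤ)), 0 < e → IsFrob r e σ →
  Fr CoxeterMatrix.E₆.toCoxeterSystem hpE6.isCartan (TT chevE6 (KK r)) (XX chevE6 6 (KK r)) σ g →
    ∃ σL : MulAut (St6 r), ∀ x, th6 r (σL x) = σ (th6 r x)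

/-- [Frob6] an automorphism which has the form of a Frobenius map on the root groups is one -/
def BoxFrob6 : Prop := ∀ (r : ℕ) [Fact r.Prime] (e : ℕ) (σ : MulAut (YY chevE6 r))
  (g : (Fin 6 → ℤ) ≃+ (Fin 6 → ℤ)), 0 < e → (∀ a, Rt chevE6 6 (g a) ↔ Rt chevE6 6 a) →
  (∀ a, Rt chevE6 6 a → ∃ u : KK r, u ≠ 0 ∧ ∀ s : KK r, σ (xc hpE6 a s) = xc hpE6 (g a) (u * s ^ r ^ e)) →
    IsFrob r e σ ∧ Fr CoxeterMatrix.E₆.toCoxeterSystem hpE6.isCartan (TT chevE6 (KK r)) (XX chevE6 6 (KK r)) σ g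

/-- [Full6] the fixed points in the universal group are generated by `r`-elements -/
def BoxFull6 : Prop := ∀ (r : ℕ) [Fact r.Prime], r ≠ 3 → ∀ (e : ℕ) (σ : MulAut (YY chevE6 r))
  (g : (Fin 6 → ℤ) ≃+ (Fin 6 → ℤ)), 0 < e → IsFrob r e σ →
  Fr CoxeterMatrix.E₆.toCoxeterSystem hpE6.isCartan (TT chevE6 (KK r)) (XX chevE6 6 (KK r)) σ g →
    ∀ σL : MulAut (St6 r), (∀ x, th6 r (σL x) = σ (th6 r x)) → ∀ m, σL m = m →
      m ∈ Subgroup.closure {u : St6 r | σL u = u ∧ ∃ n : ℕ, u ^ r ^ n = 1}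

/-- [TR] from a component of type `E₆` in `E₇`, `E₈` to case II -/
def BoxTR : Prop := ∀ (D : ChevalleyDatum) (l : ℕ) (M : CoxeterMatrix (Fin l)) (hp : IsType D l M) (r : ℕ)
  [Fact r.Prime], r ≠ 3 → (D = chevE7 ∨ D = chevE8) → Main6 r →
  ∀ (c : ℕ) (X : Type) [Group X] (Q : Subgroup X) (G : GS hp 3 c (MonoidHom.id (YY D r)) X Q),
    Function.Injective G.π → ∀ a ∈ Q, (∀ d ∈ Q, d * a = a * d) → ∀ (ζ : KK r) (i : Fin l), IsPrimitiveRoot ζ 3 →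
      i.val = 6 → Std hp r ζ i (G.π a) → (∀ x ∈ Ps hp r {G.π a}, 0 ≤ x → 0 ≤ G.g x) → G.Ab

/-- [TY1] the elements of order `3` with a disconnected centralizer -/
def BoxTY1 : Prop := ∀ (r : ℕ) [Fact r.Prime], r ≠ 3 → ∀ t ∈ TT chevE6 (KK r), t ^ 3 = 1 → ∀ b : YY chevE6 r,
  b * t = t * b → b ∉ DZ hpE6 r {t} → TypA t ∨ TypD t

/-- [TY2] their centralizers -/
def BoxTY2 : Prop := ∀ (r : ℕ) [Fact r.Prime], r ≠ 3 → ∀ (ζ : KK r) (t : YY chevE6 r), StdA ζ t ∨ StdD ζ t →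
  ∀ b : YY chevE6 r, b * t = t * b → b ∉ DZ hpE6 r {t} →
    ∃ m ∈ Mz hpE6 r {t}, ∃ (v : CoxeterMatrix.E₆.Group) (k : YY chevE6 r), RP hpE6 r v k ∧ Rot v ∧ b = m * k

/-- [DecA] three components of type `A₂` -/
def BoxDecA : Prop := ∀ (r : ℕ) [Fact r.Prime] (ζ : KK r) (t : YY chevE6 r), StdA ζ t →
  Dec chevE6 6 3 (fun S => S = ∅) (Ps hpE6 r {t})

/-- [C1] type `A₂³`: the part of `Q` in the connected centralizer is generated by `a` -/
def BoxC1 : Prop := ∀ (r : ℕ) [Fact r.Prime], r ≠ 3 → ∀ (L : Type) [Group L] (θ : L →* YY chevE6 r) (z : L),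
  Cov6 θ z → ∀ (c : ℕ) (X : Type) [Group X] (Q : Subgroup X) (G : GS hpE6 3 c θ X Q), G.Full → G.ZK →
  ∀ a ∈ Q, ∀ b ∈ Q, ∀ ζ : KK r, StdA ζ (G.π a) → (∀ d ∈ Q, G.π d * G.π a = G.π a * G.π d) →
    G.π b ∉ DZ hpE6 r {G.π a} → G.π b ^ 3 = 1 →
    (∀ x ∈ G.Dh, ∀ y ∈ G.Dh, θ x ∈ DZ hpE6 r {G.π a} → θ y ∈ DZ hpE6 r {G.π a} → x * y = y * x) →
    ∀ d ∈ Q, G.π d ∈ DZ hpE6 r {G.π a} → G.π d ∈ Subgroup.zpowers (G.π a)

/-- [CC] type `A₂³`: the centralizer of `Q` contains `PGL₃(q)` or `PGU₃(q)` -/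
def BoxCC : Prop := ∀ (r : ℕ) [Fact r.Prime], r ≠ 3 → ∀ (L : Type) [Group L] (θ : L →* YY chevE6 r) (z : L),
  Cov6 θ z → ∀ (c : ℕ) (X : Type) [Group X] (Q : Subgroup X) (G : GS hpE6 3 c θ X Q), G.Full → G.ZK →
  ∀ a ∈ Q, ∀ b ∈ Q, ∀ ζ : KK r, StdA ζ (G.π a) → G.π b * G.π a = G.π a * G.π b →
    G.π b ∉ DZ hpE6 r {G.π a} → G.π b ^ 3 = 1 → ∀ a' b' : L, θ a' = G.π a → θ b' = G.π b →
    (∀ y : L, y * a' = a' * y → y * b' = b' * y → ∀ x ∈ G.Dh, y * x = x * y) → False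

/-- [ND] no characters of `3`-defect zero -/
def BoxND : Prop := ∀ (r : ℕ) [Fact r.Prime], r ≠ 3 → ∀ (e c : ℕ), 0 < e → NDc r e c →
  ∀ (Dm : GL (Fin 3) (KK r)) (uni : Bool),
    (∃ ω : (KK r)ˣ, ω ≠ 1 ∧ ω ^ 3 = 1 ∧ stG r e Dm uni (sc 3 ω) = sc 3 ω) →
    ∀ (N : Type) [Group N] (f : (stG r e Dm uni).eqLocus (MonoidHom.id _) →* N), Function.Surjective f →
      (∀ x, f x = 1 ↔ (x : GL (Fin 3) (KK r)) ∈ Geo.scalars (Fin 3) (KK r)) →
      ∀ (N' : Type) [Group N'] [Finite N'] (f' : N' →* N), Function.Surjective f' → f'.ker ≤ Subgroup.center N' →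
        Nat.card f'.ker ∣ c → ¬ HasDZ 3 N'

/-- [C2] type `D₄ T₂`: the part of `Q` in the connected centralizer lies in `T₂` -/
def BoxC2 : Prop := ∀ (r : ℕ) [Fact r.Prime], r ≠ 3 → ∀ (L : Type) [Group L] (θ : L →* YY chevE6 r) (z : L),
  Cov6 θ z → ∀ (c : ℕ) (X : Type) [Group X] (Q : Subgroup X) (G : GS hpE6 3 c θ X Q), G.Full → G.ZK →
  ∀ a ∈ Q, ∀ ζ : KK r, StdD ζ (G.π a) → (∀ d ∈ Q, G.π d * G.π a = G.π a * G.π d) →
    ∀ d ∈ Q, G.π d ∈ DZ hpE6 r {G.π a} →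
      G.π d ∈ TT chevE6 (KK r) ∧ ∀ x ∈ Ps hpE6 r {G.π a}, cX hpE6 (G.π d) x = 1

/-- [HZ] two elements of type `D₄ T₂` -/
def BoxHZ : Prop := ∀ (r : ℕ) [Fact r.Prime], r ≠ 3 → ∀ (L : Type) [Group L] (θ : L →* YY chevE6 r) (z : L),
  Cov6 θ z → ∀ (c : ℕ) (X : Type) [Group X] (Q : Subgroup X) (G : GS hpE6 3 c θ X Q), G.Full →
  ∀ a' ∈ G.Dh, ∀ b' ∈ G.Dh, TypD (θ a') → TypD (θ b') → θ a' * θ b' = θ b' * θ a' → a' * b' = b' * a'

/-- [Row6] the rows of type `E₆` for `p = 3` -/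
def BoxRow6 : Prop :=
  Nil.RowFor.{u} (fun p S _ => p = 3 ∧ ∃ (F : Type) (_ : Field F) (_ : Fintype F), (p : F) ≠ 0 ∧
    Nonempty (S ≃* Lie.chevE6.group F)) ∧
  Nil.RowFor.{u} (fun p S _ => p = 3 ∧ ∃ (K : Type) (_ : Field K) (_ : Fintype K) (q : ℕ), (p : K) ≠ 0 ∧
    IsPrimePow q ∧ Fintype.card K = q ^ 2 ∧ Nonempty (S ≃* Lie.twistedE6 K q))

/-- [TF4] the large Ree groups -/
def BoxTF4 : Prop := Nil.RowFor.{u} (fun _ S _ => Lie.Iso2F4 S)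

end Cfsg.Agent.BHZ.Exc
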