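import Cfsg.Agent.BHZ.Exc.Tools

/-!
# S4806, exceptional groups: the skeleton
-/

set_option autoImplicit false

namespace Cfsg.Agent.BHZ.Exc

open CoxeterSystem Cfsg Cfsg.Lie Cfsg.Lie.ChevalleyDatum
open Cfsg.Agent.ChevalleyStructure Cfsg.Agent.ChevalleyStructure.Elts Cfsg.Agent.ChevalleyStructure.CoxeterGeom
  Cfsg.Agent.ChevalleyStructure.CoxeterGeomTypes
open Cfsg.Agent.Tits.Roots Cfsg.Agent.Tits.Core Cfsg.Agent.Nodes Cfsg.Agent.Nodes.Reps Cfsg.Agent.Nodes.BNOf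
  Cfsg.Agent.Nodes.RGDChev Cfsg.Agent.Nodes.Bruhat
open Cfsg.Agent.KFacts.RgdField Cfsg.Agent.KFacts.RgdChevCoord
open Cfsg.Agent.BpExc Cfsg.Agent.BpExc.TorCent Cfsg.Agent.BpExc.TorChev Cfsg.Agent.BpExc.Tow
  Cfsg.Agent.BpExc.TowChev Cfsg.Agent.BpExc.Fr Cfsg.Agent.BpExc.LangFr
open Cfsg.Agent.H469.Exc Cfsg.Agent.H795.SetCent Cfsg.Agent.H129.TorusChar Cfsg.Agent.DS.Ex Cfsg.Agent.DS.Nt
open Cfsg.Agent.H46.Gen (AFr Rt xf)
open Cfsg.Agent.H321.Ker (toGL_cj toGL_inj')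
open scoped MatrixGroups commutatorElement
open Matrix.SpecialLinearGroup (transvection toGL)

section B

variable {D : ChevalleyDatum} {l : ℕ} {M : CoxeterMatrix (Fin l)} {hp : IsType D l M} {r : ℕ} [Fact r.Prime]
  {L : Type} [Group L] {θ : L →* YY D r} {p c : ℕ} [Fact p.Prime] {X : Type} [Group X] {Q : Subgroup X}

theorem cop_of_ne (h : p ≠ r) : r.Coprime p :=
  (Nat.coprime_primes (Fact.out : r.Prime) (Fact.out : p.Prime)).2 h.symm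

theorem core_aux (hTA : BoxTA) (hp2 : p ≠ 2) (hpr : p ≠ r) (C : Cov hp p θ) (G : GS hp p c θ X Q) {a : X}
    (ha : a ∈ Q) (ht : G.π a ∈ TT D (KK r)) {P : Set (Fin l → ℤ) → Prop} {S : Set (Fin l → ℤ)} (hS : Dec D l p P S) :
    S ⊆ Ps hp r {G.π a} → (∀ u ∈ S, ∀ v ∈ Ps hp r {G.π a}, v ∉ S → SO D l u v) →
    ∃ S', S' ⊆ Ps hp r {G.π a} ∧ P S' ∧ ∀ d ∈ Q, ∀ d' ∈ Q, G.π d ∈ DZ hp r {G.π a} → G.π d' ∈ DZ hp r {G.π a} →
      ∀ m ∈ Mh l θ S, ∀ m' ∈ Mh l θ S, ∀ s s' : L, θ s ∈ TT D (KK r) → θ s' ∈ TT D (KK r) →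
        (∀ u ∈ RGD.Sup (XX D l (KK r)) S, θ (m * s) * u * (θ (m * s))⁻¹ = G.π d * u * (G.π d)⁻¹) →
        (∀ u ∈ RGD.Sup (XX D l (KK r)) S, θ (m' * s') * u * (θ (m' * s'))⁻¹ = G.π d' * u * (G.π d')⁻¹) →
        ⁅m * s, m' * s'⁆ ∈ Mh l θ S' := by
  have hr := cop_of_ne hpr
  induction hS with
  | base S hP =>
    intro hsub _
    refine ⟨S, hsub, hP, fun d _ d' _ _ _ m hm m' hm' s s' hs hs' _ _ => ?_⟩
    have hR : ∀ u ∈ S, IsRoot M.toCoxeterSystem hp.isCartan u := fun u hu => Ps_root (hsub hu)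
    have e : ⁅m * s, m' * s'⁆ = m * (s * m' * s⁻¹) * (s' * m⁻¹ * s'⁻¹) * m'⁻¹ := by
      rw [commutatorElement_def]
      calc _ = m * (s * m') * (s' * s⁻¹) * (m⁻¹ * s'⁻¹) * m'⁻¹ := by group
        _ = _ := by rw [C.tcomm s' s⁻¹ hs' (by rw [map_inv]; exact inv_mem hs)]; group
    rw [e]
    exact mul_mem (mul_mem (mul_mem hm (T_Mh hp hs hR hm')) (T_Mh hp hs' hR (inv_mem hm))) (inv_mem hm')
  | step S n ev hev hn hn3 hC _ ih =>
    intro hsub hso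
    have hR : ∀ u ∈ S, IsRoot M.toCoxeterSystem hp.isCartan u := fun u hu => Ps_root (hsub hu)
    obtain ⟨S', h1, h2, h3⟩ := ih (Set.sdiff_subset.trans hsub) fun u hu v hv hv' => by
      by_cases hvS : v ∈ S
      · exact (hC.2 v (by_contra fun h => hv' ⟨hvS, h⟩) u hu.1 hu.2).symm
      · exact hso u hu.1 v hv hvS
    refine ⟨S', h1, h2, fun d hd d' hd' hz hz' m hm m' hm' s s' hs hs' e e' => ?_⟩
    have hC' : Comp D l ev (Ps hp r {G.π a}) := ⟨hC.1.trans hsub, fun u hu v hv hv' => by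
      by_cases hvS : v ∈ S
      · exact hC.2 u hu v hvS hv'
      · exact hso u (hC.1 hu) v hv hvS⟩
    obtain ⟨φ, hφ⟩ := exists_frame_hom hp r hev hn
    obtain ⟨φ', hφ', hrange⟩ := exists_lift_frame hev hφ C.toCov0 hr hn
    have hφS : ∀ u, φ u ∈ RGD.Sup (XX D l (KK r)) S := fun u =>
      RGD.Sup_mono hC.1 ((frame_range hev hφ (by omega)).le ⟨u, rfl⟩)
    -- the properties of the decomposition
    have key : ∀ (d : X) (m s : L), m ∈ Mh l θ S → θ s ∈ TT D (KK r) →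
        (∀ u ∈ RGD.Sup (XX D l (KK r)) S, θ (m * s) * u * (θ (m * s))⁻¹ = G.π d * u * (G.π d)⁻¹) →
        ∃ g, ∃ m₁ ∈ Mh l θ (S \ Rts ev), ∃ s₁ : L, θ s₁ ∈ TT D (KK r) ∧ m * s = φ' g * (m₁ * s₁) ∧
          (∀ u, φ' u * (m₁ * s₁) = m₁ * s₁ * φ' u) ∧
          (∀ u, G.π d * φ u * (G.π d)⁻¹ = φ (H321.Ker.cj (toGL g) u)) ∧
          ∀ u ∈ RGD.Sup (XX D l (KK r)) (S \ Rts ev),
            θ (m₁ * s₁) * u * (θ (m₁ * s₁))⁻¹ = G.π d * u * (G.π d)⁻¹ := by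
      intro d m s hm hs e
      obtain ⟨g, m₁, hm₁, s₁, hs₁, -, e1, e2⟩ := dec_step hev hφ C.toCov0 hr hn hφ' hrange hR hC hm hs
      refine ⟨g, m₁, hm₁, s₁, hs₁, e1, e2, fun u => ?_, fun u hu => ?_⟩
      · have e3 : H321.Ker.cj (toGL g) u = g * u * g⁻¹ := toGL_inj' (by rw [toGL_cj, map_mul, map_mul, map_inv])
        rw [← e _ (hφS u), e3, ← hφ', ← hφ', ← map_inv, ← map_mul, ← map_mul, e1, mul_assoc (φ' g), ← e2, map_mul φ',
          map_mul φ', map_inv]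
        congr 1
        group
      · rw [← e u (RGD.Sup_mono Set.sdiff_subset hu), e1]
        obtain ⟨u', hu', rfl⟩ := exists_Mh hp C.toCov0 hr (fun v hv => hR v hv.1) hu
        have h5 : m₁ * s₁ * u' * (m₁ * s₁)⁻¹ ∈ Mh l θ (S \ Rts ev) := by
          have := mul_mem (mul_mem hm₁ (T_Mh hp hs₁ (fun v hv => hR v hv.1) hu')) (inv_mem hm₁)
          rwa [show m₁ * (s₁ * u' * s₁⁻¹) * m₁⁻¹ = m₁ * s₁ * u' * (m₁ * s₁)⁻¹ by group] at this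
        have h6 := Mh_comm hp C.toCov0 hr (fun _ => Rts_root hp hev) (fun v hv => hR v hv.1)
          (fun a ha b hb => hC.2 a ha b hb.1 hb.2) (hrange.le ⟨g, rfl⟩) h5
        rw [← map_inv, ← map_inv, ← map_mul, ← map_mul, ← map_mul, ← map_mul]
        congr 1
        calc _ = φ' g * (m₁ * s₁ * u' * (m₁ * s₁)⁻¹) * (φ' g)⁻¹ := by rw [h6]; group
          _ = _ := by group
    obtain ⟨g, m₁, hm₁, s₁, hs₁, e1, e2, e3, e4⟩ := key d m s hm hs e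
    obtain ⟨g', m₂, hm₂, s₂, hs₂, f1, f2, f3, f4⟩ := key d' m' s' hm' hs' e'
    have hg : g * g' = g' * g := toGL_inj' (by
      rw [map_mul, map_mul]
      exact hTA D l M hp r p c hp2 hpr L θ C.toCov0 X Q G a ha ht n ev hev hn hn3 hC' φ hφ d hd d' hd' hz hz' _ _ e3 f3)
    have e5 : ⁅m * s, m' * s'⁆ = ⁅m₁ * s₁, m₂ * s₂⁆ := by
      rw [e1, f1]
      generalize m₁ * s₁ = y at e2
      generalize m₂ * s₂ = y' at f2
      have c1 : Commute (φ' g) (φ' g') := by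
        show _ * _ = _ * _
        rw [← map_mul, hg, map_mul]
      have c2 : Commute (φ' g) ⁅y, y'⁆ := by
        rw [commutatorElement_def]
        have a1 : Commute (φ' g) y := e2 g
        have a2 : Commute (φ' g) y' := f2 g
        exact ((a1.mul_right a2).mul_right a1.inv_right).mul_right a2.inv_right
      have c3 : Commute (φ' g') ⁅y, y'⁆ := by
        rw [commutatorElement_def]
        have a1 : Commute (φ' g') y := e2 g'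
        have a2 : Commute (φ' g') y' := f2 g'
        exact ((a1.mul_right a2).mul_right a1.inv_right).mul_right a2.inv_right
      have e6 : φ' g * y * (φ' g' * y') = ⁅y, y'⁆ * (φ' g' * y' * (φ' g * y)) := by
        calc φ' g * y * (φ' g' * y') = φ' g * (y * φ' g') * y' := by group
          _ = φ' g * φ' g' * (⁅y, y'⁆ * (y' * y)) := by rw [← e2 g', commutatorElement_def]; group
          _ = ⁅y, y'⁆ * (φ' g' * (φ' g * y') * y) := by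
            rw [← mul_assoc, (c1.symm.eq ▸ (c3.mul_left c2).eq : φ' g * φ' g' * ⁅y, y'⁆ = ⁅y, y'⁆ * (φ' g * φ' g')),
              c1.eq]
            group
          _ = _ := by rw [f2 g]; group
      rw [commutatorElement_def, e6]
      group
    rw [e5]
    exact h3 d hd d' hd' hz hz' m₁ hm₁ m₂ hm₂ s₁ s₂ hs₁ hs₂ e4 f4

/-- **Theorem B.** -/
theorem core (hTA : BoxTA) (hp2 : p ≠ 2) (hpr : p ≠ r) (C : Cov hp p θ) (G : GS hp p c θ X Q) {a : X}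
    (ha : a ∈ Q) (ht : G.π a ∈ TT D (KK r)) {P : Set (Fin l → ℤ) → Prop} (hS : Dec D l p P (Ps hp r {G.π a})) :
    ∃ S', S' ⊆ Ps hp r {G.π a} ∧ P S' ∧ ∀ x ∈ G.Dh, ∀ y ∈ G.Dh, θ x ∈ DZ hp r {G.π a} → θ y ∈ DZ hp r {G.π a} →
      ⁅x, y⁆ ∈ Mh l θ S' := by
  obtain ⟨S', h1, h2, h3⟩ := core_aux hTA hp2 hpr C G ha ht hS subset_rfl fun _ _ _ hv hv' => absurd hv hv'
  refine ⟨S', h1, h2, ?_⟩
  rintro x ⟨d, hd, e⟩ y ⟨d', hd', e'⟩ hx hy
  obtain ⟨m, hm, s, hs, rfl⟩ := exists_of_DZ C.toCov0 (cop_of_ne hpr) hx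
  obtain ⟨m', hm', s', hs', rfl⟩ := exists_of_DZ C.toCov0 (cop_of_ne hpr) hy
  exact h3 d hd d' hd' (e ▸ hx) (e' ▸ hy) m hm m' hm' s s' hs hs' (fun _ _ => by rw [e]) fun _ _ => by rw [e']

theorem flag_of_central (hTA : BoxTA) (hp2 : p ≠ 2) (hpr : p ≠ r) (C : Cov hp p θ) (G : GS hp p c θ X Q) {u : L}
    (hu : u ∈ G.Dh) (huT : θ u ∈ TT D (KK r)) (hup : θ u ^ p = 1) (hu1 : θ u ≠ 1) (hc : ∀ x ∈ G.Dh, x * u = u * x)
    {x y : L} (hx : x ∈ G.Dh) (hy : y ∈ G.Dh) (hxy : ⁅x, y⁆ ≠ 1) (h : θ ⁅x, y⁆ = θ u ∨ θ ⁅x, y⁆ = 1) :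
    Flag hp p (θ u) := by
  refine (C.dec _ huT hup hu1).resolve_left fun hD => hxy ?_
  obtain ⟨a, ha, e⟩ := hu
  rw [← e] at hD huT h
  obtain ⟨S', h1, h2, h3⟩ := core hTA hp2 hpr C G ha huT hD
  have h4 : ∀ x ∈ G.Dh, θ x ∈ DZ hp r {G.π a} := fun x hx => by
    rw [e] at huT ⊢
    exact C.conn u x huT hup (hc x hx)
  obtain ⟨n, hn⟩ := G.pelt_Dh C.toCov0 (x := ⁅x, y⁆) (by
    rw [commutatorElement_def]
    exact mul_mem (mul_mem (mul_mem hx hy) (inv_mem hx)) (inv_mem hy))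
  refine h2 _ (h3 x hx y hy (h4 x hx) (h4 y hy)) ?_ (fun b hb => ?_) n hn
  · rcases h with h | h <;> rw [h]
    · exact huT
    · exact one_mem _
  · rcases h with h | h <;> rw [h]
    · exact ((mem_Ps_one huT).1 (h1 hb)).2
    · exact cX_one hp b

theorem exists_comm_central (C : Cov0 p θ) (G : GS hp p c θ X Q) (h : ¬ G.Ab) : ∃ x ∈ G.Dh, ∃ y ∈ G.Dh,
    ⁅x, y⁆ ≠ 1 ∧ ⁅x, y⁆ ^ p = 1 ∧ ∀ v ∈ G.Dh, v * ⁅x, y⁆ = ⁅x, y⁆ * v := by
  have := G.finite_Dh C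
  obtain ⟨a, b, z, hz, hz1, hzp, hab⟩ := Nil.exists_triple (G.isPGroup_Dh C)
    fun hc => h fun x hx y hy => congrArg Subtype.val (hc.1.1 ⟨x, hx⟩ ⟨y, hy⟩)
  have e : ⁅(a : L), (b : L)⁆ = z := by
    have : (a : L) * b = z * b * a := congrArg Subtype.val hab
    rw [commutatorElement_def, this]
    group
  refine ⟨a, a.2, b, b.2, ?_, ?_, fun v hv => ?_⟩ <;> rw [e]
  · exact fun h1 => hz1 (Subtype.ext h1)
  · exact congrArg Subtype.val hzp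
  · exact congrArg Subtype.val (Subgroup.mem_center_iff.1 hz ⟨v, hv⟩)

omit [Fact p.Prime] in
theorem exists_pow_order {Y : Type*} [Group Y] {y : Y} (h1 : y ≠ 1) {n : ℕ} (hn : y ^ p ^ n = 1) :
    ∃ k : ℕ, y ^ k ≠ 1 ∧ (y ^ k) ^ p = 1 := by
  induction n with
  | zero => exact absurd (by simpa using hn) h1
  | succ n ih =>
    by_cases h : y ^ p ^ n = 1
    · exact ih h
    · exact ⟨p ^ n, h, by rw [← pow_mul, ← pow_succ, hn]⟩

/-- the trichotomy -/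
theorem main_or (hTA : BoxTA) (hp2 : p ≠ 2) (hpr : p ≠ r) (C : Cov hp p θ) (G : GS hp p c θ X Q) :
    G.Ab ∨ G.ZK ∨ ∃ u ∈ G.Dh, (∀ x ∈ G.Dh, x * u = u * x) ∧ ∃ w : YY D r, Flag hp p (w * θ u * w⁻¹) := by
  by_cases hA : G.Ab
  · exact Or.inl hA
  by_cases hZ : G.ZK
  · exact Or.inr (Or.inl hZ)
  refine Or.inr (Or.inr ?_)
  obtain ⟨x, hx, y, hy, h1, h2, h3⟩ := exists_comm_central C.toCov0 G hA
  have hxy : ⁅x, y⁆ ∈ G.Dh := by
    rw [commutatorElement_def]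
    exact mul_mem (mul_mem (mul_mem hx hy) (inv_mem hx)) (inv_mem hy)
  obtain ⟨u, hu, hup, hu1, hc, h⟩ : ∃ u ∈ G.Dh, θ u ^ p = 1 ∧ θ u ≠ 1 ∧ (∀ x ∈ G.Dh, x * u = u * x) ∧
      (θ ⁅x, y⁆ = θ u ∨ θ ⁅x, y⁆ = 1) := by
    by_cases h4 : θ ⁅x, y⁆ = 1
    · simp only [GS.ZK, not_forall] at hZ
      obtain ⟨v, hv, hc, hv1⟩ := hZ
      obtain ⟨n, hn⟩ := G.pelt_Dh C.toCov0 hv
      obtain ⟨k, hk1, hk⟩ := exists_pow_order (p := p) hv1 (n := n) (by rw [← map_pow, hn, map_one])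
      rw [← map_pow] at hk1 hk
      exact ⟨v ^ k, pow_mem hv k, hk, hk1, fun x hx => (Commute.pow_right (hc x hx).symm k).eq, Or.inr h4⟩
    · exact ⟨_, hxy, by rw [← map_pow, h2, map_one], h4, h3, Or.inl rfl⟩
  obtain ⟨g, hg⟩ := exists_conj_T hp (x := θ u) (Fact.out : p.Prime) hpr (n := 1) (by rwa [pow_one])
  obtain ⟨G', w, e1, -, -, hD, -, -, -, -⟩ := G.exists_conj C.toCov0 (x := θ u) (by
    obtain ⟨a, -, e⟩ := hu
    rw [← e, G.fixπ]) hg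
  have hD' : ∀ v ∈ G.Dh, w * v * w⁻¹ ∈ G'.Dh := fun v hv => (hD _).2 (by
    rwa [show w⁻¹ * (w * v * w⁻¹) * w = v by group])
  have e2 : θ (w * u * w⁻¹) = θ w * θ u * (θ w)⁻¹ := by rw [map_mul, map_mul, map_inv]
  have e3 : ⁅w * x * w⁻¹, w * y * w⁻¹⁆ = w * ⁅x, y⁆ * w⁻¹ := by
    rw [commutatorElement_def, commutatorElement_def]; group
  refine ⟨u, hu, hc, θ w, e2 ▸ flag_of_central hTA hp2 hpr C G' (hD' u hu) (by rw [e2, e1]; exact hg)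
    (by rw [e2, conj_pow, hup, mul_one, mul_inv_cancel]) (by rw [e2]; exact fun h => hu1 (conj_eq_one_iff.1 h))
    (fun v hv => ?_) (hD' x hx) (hD' y hy) (by rw [e3]; exact fun h => h1 (conj_eq_one_iff.1 h)) ?_⟩
  · have := hc _ ((hD v).1 hv)
    calc v * (w * u * w⁻¹) = w * (w⁻¹ * v * w * u) * w⁻¹ := by group
      _ = _ := by rw [this]; group
  · rw [e3, map_mul, map_mul, map_inv, e2]
    rcases h with h | h <;> rw [h]
    · exact Or.inl rfl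
    · exact Or.inr (by rw [mul_one, mul_inv_cancel])

end B

section CaseI

variable {D : ChevalleyDatum} {l : ℕ} {M : CoxeterMatrix (Fin l)} {hp : IsType D l M} {r : ℕ} [Fact r.Prime]
  {p c : ℕ} [Fact p.Prime] {X : Type} [Group X] {Q : Subgroup X}

/-- **Case I.** -/
theorem mainI (hTA : BoxTA) (hTR : BoxTR) (h6 : r ≠ 3 → Main6 r) (hp2 : p ≠ 2) (hpr : p ≠ r)
    (C : Cov hp p (MonoidHom.id (YY D r))) (G : GS hp p c (MonoidHom.id (YY D r)) X Q)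
    (hπ : Function.Injective G.π) : G.Ab := by
  rcases main_or hTA hp2 hpr C G with h | h | ⟨u, hu, hc, w, rfl, hD, i, hi, g, ζ, hζ, hS⟩
  · exact h
  · by_contra hA
    obtain ⟨x, hx, y, hy, h1, -, h3⟩ := exists_comm_central C.toCov0 G hA
    have hm : ⁅x, y⁆ ∈ G.Dh := mul_mem (mul_mem (mul_mem hx hy) (inv_mem hx)) (inv_mem hy)
    exact h1 (h _ hm fun v hv => (h3 v hv).symm)
  · obtain ⟨a, ha, e⟩ := hu
    have e0 : G.π a = u := e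
    have e1 : g * (w * (MonoidHom.id (YY D r)) u * w⁻¹) * g⁻¹ = g * w * G.π a * (g * w)⁻¹ := by
      rw [e]; group
    rw [e1] at hS
    obtain ⟨G', v, e2, e3, -, -, -, -, hA, hpos⟩ := G.exists_conj C.toCov0 (G.fixπ a) hS.1
    rw [← e2, ← e3] at hS hpos
    refine hA (hTR D l M hp r hpr.symm hD (h6 hpr.symm) c X Q G' (fun x y h => hπ ?_) a ha (fun d hd => hπ ?_) ζ i hζ
      hi hS hpos)
    · rw [e3, e3] at h
      exact mul_left_cancel (mul_right_cancel h)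
    · rw [map_mul, map_mul, e0]
      exact hc _ ⟨d, hd, rfl⟩

end CaseI

section CaseII

variable {r : ℕ} [Fact r.Prime] {L : Type} [Group L] {θ : L →* YY chevE6 r} {z : L} {c : ℕ} {X : Type} [Group X]
  {Q : Subgroup X}

theorem TypA.of_conj {y g : YY chevE6 r} (h : TypA (g * y * g⁻¹)) : TypA y := by
  obtain ⟨g', ζ, h⟩ := h
  exact ⟨g' * g, ζ, by rwa [show g' * g * y * (g' * g)⁻¹ = g' * (g * y * g⁻¹) * g'⁻¹ by group]⟩

theorem TypD.of_conj {y g : YY chevE6 r} (h : TypD (g * y * g⁻¹)) : TypD y := by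
  obtain ⟨g', ζ, h⟩ := h
  exact ⟨g' * g, ζ, by rwa [show g' * g * y * (g' * g)⁻¹ = g' * (g * y * g⁻¹) * g'⁻¹ by group]⟩

theorem cop3 (hr : r ≠ 3) : r.Coprime 3 := (Nat.coprime_primes (Fact.out : r.Prime) Nat.prime_three).2 hr

theorem typ_of (h1 : BoxTY1) (hr : r ≠ 3) (C : Cov hpE6 3 θ) {x y : L} (hx : θ x ^ 3 = 1)
    (hxy : θ y * θ x = θ x * θ y) (hn : y * x ≠ x * y) : TypA (θ x) ∨ TypD (θ x) := by
  have hx1 : θ x ^ 3 ^ 1 = 1 := (pow_one 3).symm ▸ hx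
  obtain ⟨g, hg⟩ := exists_conj_T hpE6 (x := θ x) Nat.prime_three hr.symm (n := 1) hx1
  obtain ⟨w, rfl⟩ := C.surj g
  have e : ∀ v, θ (w * v * w⁻¹) = θ w * θ v * (θ w)⁻¹ := fun v => by rw [map_mul, map_mul, map_inv]
  refine (h1 r hr _ hg (by rw [conj_pow, hx, mul_one, mul_inv_cancel]) (θ w * θ y * (θ w)⁻¹) (conj_comm hxy)
    fun h => hn ?_).imp TypA.of_conj TypD.of_conj
  rw [← e, ← e] at h
  have := comm_of_DZ_one C (cop3 hr) (by rw [e]; exact hg) h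
  calc y * x = w⁻¹ * (w * y * w⁻¹ * (w * x * w⁻¹)) * w := by group
    _ = _ := by rw [this]; group

/-- the index of the centralizer of `a` is `3` -/
theorem exists_mul_comm (C : Cov6 θ z) {a b x : L} (hb : θ b * θ a = θ a * θ b) (hn : b * a ≠ a * b)
    (hx : θ x * θ a = θ a * θ x) : ∃ k : ℕ, (b ^ k)⁻¹ * x * a = a * ((b ^ k)⁻¹ * x) := by
  have h0 : ∀ v : L, θ v * θ a = θ a * θ v → θ ⁅v, a⁆ = 1 := fun v hv => by
    rw [map_commutatorElement, commutatorElement_eq_one_iff_mul_comm, hv]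
  have hz : orderOf z = 3 := orderOf_eq_prime (hp := ⟨Nat.prime_three⟩) (C.expo z (by
    rw [← MonoidHom.mem_ker, C.ker]; exact Subgroup.mem_zpowers z)) C.ne
  have hb1 : ⁅b, a⁆ ≠ 1 := fun h => hn (commutatorElement_eq_one_iff_mul_comm.1 h)
  have hb3 : orderOf ⁅b, a⁆ = 3 := orderOf_eq_prime (hp := ⟨Nat.prime_three⟩) (C.expo _ (h0 b hb)) hb1
  have hfin : Finite (Subgroup.zpowers z) := C.ker ▸ C.fin
  have hle : Subgroup.zpowers ⁅b, a⁆ ≤ Subgroup.zpowers z := Subgroup.zpowers_le.2 (C.ker ▸ h0 b hb)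
  have heq : Subgroup.zpowers ⁅b, a⁆ = Subgroup.zpowers z :=
    Subgroup.eq_of_le_of_card_ge hle (by rw [Nat.card_zpowers, Nat.card_zpowers, hz, hb3])
  have hm : ⁅x, a⁆ ∈ Subgroup.zpowers ⁅b, a⁆ := by rw [heq, ← C.ker]; exact h0 x hx
  obtain ⟨k, hk⟩ := (IsOfFinOrder.mem_powers_iff_mem_zpowers (isOfFinOrder_iff_pow_eq_one.2 ⟨3, by norm_num,
    C.expo ⁅b, a⁆ (h0 b hb)⟩)).2 hm
  refine ⟨k, ?_⟩
  have h1 := Nil.cent_conj_pow C.cent hb k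
  have hk' : ⁅b, a⁆ ^ k = ⁅x, a⁆ := hk
  rw [hk', commutatorElement_def, inv_mul_cancel_right] at h1
  calc (b ^ k)⁻¹ * x * a = (b ^ k)⁻¹ * (x * a * x⁻¹) * x := by group
    _ = _ := by rw [← h1]; group

/-- if the part in the connected centralizer is abelian, `b` has order `3` -/
theorem cube_eq_one (C : Cov6 θ z) (G : GS hpE6 3 c θ X Q) (hZ : G.ZK) {a b : L} (hT : θ a ∈ TT chevE6 (KK r))
    (ha3 : θ a ^ 3 = 1) (hb : b ∈ G.Dh) (hc : ∀ x ∈ G.Dh, θ x * θ a = θ a * θ x) (hn : b * a ≠ a * b)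
    (hab : ∀ x ∈ G.Dh, ∀ y ∈ G.Dh, θ x ∈ DZ hpE6 r {θ a} → θ y ∈ DZ hpE6 r {θ a} → x * y = y * x) :
    θ b ^ 3 = 1 := by
  rw [← map_pow]
  have h3 : b ^ 3 * a = a * b ^ 3 := by
    have h1 := Nil.cent_conj_pow C.cent (hc b hb) 3
    rw [C.expo ⁅b, a⁆ (by rw [map_commutatorElement, commutatorElement_eq_one_iff_mul_comm, hc b hb]), one_mul] at h1
    exact mul_inv_eq_iff_eq_mul.1 h1
  refine hZ _ (pow_mem hb 3) fun y hy => ?_
  obtain ⟨k, hk⟩ := exists_mul_comm C (hc b hb) hn (hc y hy)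
  have h4 := hab _ (pow_mem hb 3) _ (mul_mem (inv_mem (pow_mem hb k)) hy) (C.conn a _ hT ha3 h3) (C.conn a _ hT ha3 hk)
  calc b ^ 3 * y = b ^ k * (b ^ 3 * ((b ^ k)⁻¹ * y)) := by group
    _ = _ := by rw [h4]; group

theorem exists_not_comm (G : GS hpE6 3 c θ X Q) (hZ : G.ZK) {a : L} (ha : a ∈ G.Dh) (h1 : θ a ≠ 1) :
    ∃ b ∈ G.Dh, b * a ≠ a * b := by
  by_contra h
  push Not at h
  exact h1 (hZ a ha fun y hy => (h y hy).symm)

theorem StdA.pow {ζ : KK r} {t : YY chevE6 r} (h : StdA ζ t) : t ^ 3 = 1 :=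
  pow_eq_one_of_cX (hp := hpE6) h.2.1 fun x => by
    rw [h.2.2, ← zpow_natCast, ← zpow_mul, mul_comm, zpow_mul, zpow_natCast, h.1.pow_eq_one, one_zpow]

theorem StdD.pow {ζ : KK r} {t : YY chevE6 r} (h : StdD ζ t) : t ^ 3 = 1 :=
  pow_eq_one_of_cX (hp := hpE6) h.2.1 fun x => by
    rw [h.2.2, ← zpow_natCast, ← zpow_mul, mul_comm, zpow_mul, zpow_natCast, h.1.pow_eq_one, one_zpow]

theorem caseA (hTA : BoxTA) (hA : BoxDecA) (hC1 : BoxC1) (hCC : BoxCC) (hr : r ≠ 3) (C : Cov6 θ z)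
    (G : GS hpE6 3 c θ X Q) (hF : G.Full) (hZ : G.ZK) {a : L} (ha : a ∈ G.Dh) (h1 : θ a ≠ 1) {ζ : KK r}
    (hS : StdA ζ (θ a)) (hc : ∀ x ∈ G.Dh, θ x * θ a = θ a * θ x) : False := by
  have : Fact (Nat.Prime 3) := ⟨Nat.prime_three⟩
  obtain ⟨b, hb, hn⟩ := exists_not_comm G hZ ha h1
  obtain ⟨a₀, ha₀, ea⟩ := ha
  obtain ⟨b₀, hb₀, eb⟩ := id hb
  have hS' := hS
  rw [← ea] at hS'
  obtain ⟨S', -, rfl, h3⟩ := core hTA (by norm_num) hr.symm C.toCov G ha₀ hS'.2.1 (hA r ζ _ hS')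
  have hab : ∀ x ∈ G.Dh, ∀ y ∈ G.Dh, θ x ∈ DZ hpE6 r {G.π a₀} → θ y ∈ DZ hpE6 r {G.π a₀} → x * y = y * x :=
    fun x hx y hy hx' hy' => by
      have := h3 x hx y hy hx' hy'
      rwa [Mh_empty, Subgroup.mem_bot, commutatorElement_eq_one_iff_mul_comm] at this
  have hb3 := cube_eq_one C G hZ hS.2.1 hS.pow hb hc hn (ea ▸ hab)
  have hbD : G.π b₀ ∉ DZ hpE6 r {G.π a₀} := fun h => hn (comm_of_DZ_one C.toCov (cop3 hr) hS.2.1 (by rwa [← ea, ← eb]))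
  have hc' : ∀ d ∈ Q, G.π d * G.π a₀ = G.π a₀ * G.π d := fun d hd => by
    obtain ⟨x, hx⟩ := C.surj (G.π d)
    rw [← hx, ea]
    exact hc x (G.mem_Dh_of hd hx)
  have h5 := hC1 r hr L θ z C c X Q G hF hZ a₀ ha₀ b₀ hb₀ ζ hS' hc' hbD (by rw [eb, hb3]) hab
  refine hCC r hr L θ z C c X Q G hF hZ a₀ ha₀ b₀ hb₀ ζ hS' (hc' _ hb₀) hbD (by rw [eb, hb3]) a b ea.symm eb.symm
    fun y hya hyb x hx => ?_
  obtain ⟨k, hk⟩ := exists_mul_comm C (hc b hb) hn (hc x hx)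
  obtain ⟨d, hd, ed⟩ := mul_mem (inv_mem (pow_mem hb k)) hx
  obtain ⟨j, hj⟩ := h5 d hd (by rw [ed, ea]; exact C.conn a _ hS.2.1 hS.pow hk)
  have h6 : (b ^ k)⁻¹ * x * y = y * ((b ^ k)⁻¹ * x) := C.comm_of_eq (y := a ^ j)
    (by rw [← ed, ← hj, map_zpow, ea]) (Commute.zpow_left (hya.symm) j).eq
  have h7 : y * b ^ k = b ^ k * y := (Commute.pow_right hyb k).eq
  calc y * x = y * b ^ k * ((b ^ k)⁻¹ * x) := by group
    _ = b ^ k * (y * ((b ^ k)⁻¹ * x)) := by rw [h7]; group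
    _ = _ := by rw [← h6]; group

theorem caseD (h1 : BoxTY1) (hCC : BoxCC) (hC2 : BoxC2) (hHZ : BoxHZ) (hr : r ≠ 3) (C : Cov6 θ z)
    (G : GS hpE6 3 c θ X Q) (hF : G.Full) (hZ : G.ZK) {a : L} (ha : a ∈ G.Dh) (ha1 : θ a ≠ 1) {ζ : KK r}
    (hS : StdD ζ (θ a)) (hc : ∀ x ∈ G.Dh, θ x * θ a = θ a * θ x) : False := by
  obtain ⟨b, hb, hn⟩ := exists_not_comm G hZ ha ha1
  obtain ⟨a₀, ha₀, ea⟩ := id ha
  obtain ⟨b₀, hb₀, eb⟩ := id hb
  have hc' : ∀ d ∈ Q, G.π d * G.π a₀ = G.π a₀ * G.π d := fun d hd => by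
    obtain ⟨x, hx⟩ := C.surj (G.π d)
    rw [← hx, ea]
    exact hc x (G.mem_Dh_of hd hx)
  have h2 : ∀ x ∈ G.Dh, θ x ∈ DZ hpE6 r {θ a} →
      θ x ∈ TT chevE6 (KK r) ∧ ∀ u ∈ Ps hpE6 r {θ a}, cX hpE6 (θ x) u = 1 := by
    rintro x ⟨d, hd, ed⟩ hx
    rw [← ed, ← ea] at hx ⊢
    exact hC2 r hr L θ z C c X Q G hF hZ a₀ ha₀ ζ (ea ▸ hS) hc' d hd hx
  have hb3 := cube_eq_one C G hZ hS.2.1 hS.pow hb hc hn fun x hx y hy hx' hy' =>
    C.tcomm x y (h2 x hx hx').1 (h2 y hy hy').1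
  rcases typ_of h1 hr C.toCov hb3 (hc b hb).symm (Ne.symm hn) with ⟨g, ξ, hA⟩ | hD
  · have h3 : ∀ y : L, y * b = b * y → y * a = a * y → ∀ x ∈ G.Dh, y * x = x * y := by
      intro y hyb hya x hx
      obtain ⟨k, hk⟩ := exists_mul_comm C (hc b hb) hn (hc x hx)
      obtain ⟨h4, h5⟩ := h2 _ (mul_mem (inv_mem (pow_mem hb k)) hx) (C.conn a _ hS.2.1 hS.pow hk)
      have h6 := comm_of_DZ C.toCov (cop3 hr) (C.conn a y hS.2.1 hS.pow hya) h4 h5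
      have h7 : y * b ^ k = b ^ k * y := (Commute.pow_right hyb k).eq
      calc y * x = y * b ^ k * ((b ^ k)⁻¹ * x) := by group
        _ = b ^ k * (y * ((b ^ k)⁻¹ * x)) := by rw [h7]; group
        _ = _ := by rw [h6]; group
    rw [← eb] at hA
    obtain ⟨G', w, e1, e2, -, hD, hF', hZ', -, -⟩ := G.exists_conj C.toCov0 (G.fixπ b₀) hA.2.1
    rw [← e1, ← e2] at hA
    have e3 : ∀ (v : L) (d : X), G.π d = θ v → θ (w * v * w⁻¹) = G'.π d := fun v d h => by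
      rw [e2, h, map_mul, map_mul, map_inv]
    refine hCC r hr L θ z C c X Q G' (hF' hF) (hZ' hZ) b₀ hb₀ a₀ ha₀ ξ hA ?_ (fun h => hn ?_) ?_ (w * b * w⁻¹)
      (w * a * w⁻¹) (e3 _ _ eb) (e3 _ _ ea) fun y hyb hya x hx => ?_
    · rw [e2, e2]
      exact conj_comm (hc' _ hb₀).symm
    · rw [← e3 _ _ ea, ← e3 _ _ eb] at h
      have := comm_of_DZ_one C.toCov (cop3 hr) (by rw [e3 _ _ eb]; exact hA.2.1) h
      calc b * a = w⁻¹ * (w * b * w⁻¹ * (w * a * w⁻¹)) * w := by group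
        _ = _ := by rw [← this]; group
    · rw [e2, conj_pow, ea, hS.pow, mul_one, mul_inv_cancel]
    · have := h3 (w⁻¹ * y * w) (comm_of_conj hyb) (comm_of_conj hya) _ ((hD x).1 hx)
      calc y * x = w * (w⁻¹ * y * w * (w⁻¹ * x * w)) * w⁻¹ := by group
        _ = _ := by rw [this]; group
  · exact hn (hHZ r hr L θ z C c X Q G hF b hb a ha hD ⟨1, ζ, by rwa [one_mul, inv_one, mul_one]⟩ (hc b hb))

/-- **Case II.** -/
theorem mainII (hTA : BoxTA) (h1 : BoxTY1) (hA : BoxDecA) (hC1 : BoxC1) (hCC : BoxCC) (hC2 : BoxC2) (hHZ : BoxHZ)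
    (hr : r ≠ 3) (C : Cov6 θ z) (G : GS hpE6 3 c θ X Q) (hF : G.Full) : G.Ab := by
  have : Fact (Nat.Prime 3) := ⟨Nat.prime_three⟩
  by_contra hAb
  rcases main_or hTA (by norm_num) hr.symm C.toCov G with h | hZ | ⟨-, -, -, -, -, -, i, hi, -⟩
  · exact hAb h
  · -- a central element of order `3` of the image
    have := G.fin
    have : Finite (Q.map G.π) := Finite.of_surjective _ (G.π.subgroupMap_surjective Q)
    have hnt : Nontrivial (Q.map G.π) := by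
      rw [Subgroup.nontrivial_iff_ne_bot]
      intro h
      refine hAb fun x hx y _ => (C.comm_ker (z := x) ?_ y).symm
      have h2 : θ x ∈ Q.map G.π := hx
      rwa [h, Subgroup.mem_bot] at h2
    have hP := G.loc.pg.map G.π
    have hcn := hP.center_nontrivial
    obtain ⟨⟨t, ht⟩, ht1⟩ := exists_ne (1 : Subgroup.center (Q.map G.π))
    obtain ⟨n, hn⟩ := hP t
    obtain ⟨k, hk1, hk⟩ := exists_pow_order (p := 3) (y := t) (fun h => ht1 (Subtype.ext h)) hn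
    obtain ⟨a, ea⟩ := C.surj (t ^ k : Q.map G.π)
    have ha : a ∈ G.Dh := by
      show θ a ∈ Q.map G.π
      rw [ea]; exact (t ^ k).2
    have ha1 : θ a ≠ 1 := fun h => hk1 (Subtype.ext (ea ▸ h))
    have ha3 : θ a ^ 3 = 1 := by rw [ea]; exact congrArg Subtype.val hk
    have hc : ∀ x ∈ G.Dh, θ x * θ a = θ a * θ x := fun x hx => by
      rw [ea]
      exact congrArg Subtype.val (Subgroup.mem_center_iff.1 (pow_mem ht k) ⟨θ x, hx⟩)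
    obtain ⟨b, hb, hn⟩ := exists_not_comm G hZ ha ha1
    have hfix : G.σ (θ a) = θ a := by
      obtain ⟨a₀, -, e⟩ := ha
      rw [← e, G.fixπ]
    have key : ∀ g : YY chevE6 r, g * θ a * g⁻¹ ∈ TT chevE6 (KK r) → ∃ (G' : GS hpE6 3 c θ X Q) (a' : L),
        G'.Full ∧ G'.ZK ∧ a' ∈ G'.Dh ∧ θ a' = g * θ a * g⁻¹ ∧ θ a' ≠ 1 ∧ ∀ x ∈ G'.Dh, θ x * θ a' = θ a' * θ x := by
      intro g hg
      obtain ⟨G', w, e1, -, -, hD, hF', hZ', -, -⟩ := G.exists_conj C.toCov0 hfix hg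
      have e2 : θ (w * a * w⁻¹) = θ w * θ a * (θ w)⁻¹ := by rw [map_mul, map_mul, map_inv]
      refine ⟨G', w * a * w⁻¹, hF' hF, hZ' hZ, (hD _).2 (by rwa [show w⁻¹ * (w * a * w⁻¹) * w = a by group]),
        e2.trans e1, by rw [e2]; exact fun h => ha1 (conj_eq_one_iff.1 h), fun x hx => ?_⟩
      have := hc _ ((hD x).1 hx)
      rw [map_mul, map_mul, map_inv] at this
      rw [e2]
      calc _ = θ w * ((θ w)⁻¹ * θ x * θ w * θ a) * (θ w)⁻¹ := by group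
        _ = _ := by rw [this]; group
    rcases typ_of h1 hr C.toCov ha3 (hc b hb) hn with ⟨g, ζ, h⟩ | ⟨g, ζ, h⟩
    · obtain ⟨G', a', k1, k2, k3, k4, k5, k6⟩ := key g h.2.1
      exact caseA hTA hA hC1 hCC hr C G' k1 k2 k3 k5 (k4 ▸ h) k6
    · obtain ⟨G', a', k1, k2, k3, k4, k5, k6⟩ := key g h.2.1
      exact caseD h1 hCC hC2 hHZ hr C G' k1 k2 k3 k5 (k4 ▸ h) k6
  · have := i.2
    omega

theorem main6 (hTA : BoxTA) (hII : BoxCovII) (h1 : BoxTY1) (hA : BoxDecA) (hC1 : BoxC1) (hCC : BoxCC) (hC2 : BoxC2)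
    (hHZ : BoxHZ) (hr : r ≠ 3) : Main6 r := fun _ _ _ _ G hF => by
  obtain ⟨z, C⟩ := hII r hr
  exact mainII hTA h1 hA hC1 hCC hC2 hHZ hr C G hF

end CaseII

end Cfsg.Agent.BHZ.Exc
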