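import Cfsg.Agent.DL.Uni.Val
import Cfsg.Agent.BHZ.Nil.NoDZ0

/-!
# A degree formula in a Deligne-Lusztig system

`χ` irreducible, supported where the function `φ` of the semisimple part takes the value `1`.  If every torus has at
least `|N(T) : T|` linear characters which are trivial on that set, the degree of `χ` is `|H|_{p'} / |T|` for some `T`.
-/

set_option autoImplicit false

namespace Cfsg.Agent.BHZ.Exc.ND

open Cfsg Cfsg.Agent.DL.Uni Cfsg.Agent.Nodes.Reps Cfsg.Agent.Characters.Core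
open scoped ComplexConjugate

universe u

variable {Γ : Type u} [Group Γ] {p : ℕ} {H : Subgroup Γ} {A : Set (Subgroup Γ)}
  {R : Subgroup Γ → (Γ → ℂ) →ₗ[ℂ] (Γ → ℂ)} {St : Γ → ℂ}

theorem ip_R_rst (S : Sys p H A R) {T : Subgroup Γ} (hT : T ∈ A) (χ : Γ → ℂ) :
    ip H (R T (rst H R T χ)) (R T (rst H R T χ)) =
      (Nat.card {h : H // cj (h : Γ) T = T} : ℂ) / Nat.card ↥(T ⊓ H) *
        ip (T ⊓ H) (rst H R T χ) (rst H R T χ) := by
  classical
  have := S.finH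
  have := Fintype.ofFinite H
  rw [S.orth_sum hT hT]
  have h1 : ∀ h : H, (if cj (h : Γ) T = T then
      ip (T ⊓ H) (rst H R T χ) (fun t => rst H R T χ (h * t * (h : Γ)⁻¹)) else 0) =
      if cj (h : Γ) T = T then ip (T ⊓ H) (rst H R T χ) (rst H R T χ) else 0 := by
    intro h
    split_ifs with hh
    · refine ip_congr (fun _ _ => rfl) fun t _ => ?_
      have h2 := S.rst_conj hT h.2 χ t
      rwa [hh] at h2
    · rfl
  rw [Finset.sum_congr rfl fun h _ => h1 h, ← Finset.sum_filter, Finset.sum_const, nsmul_eq_mul,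
    Nat.card_eq_fintype_card (α := {h : H // cj (h : Γ) T = T}), Fintype.card_subtype]
  ring

theorem deg_of_supp (S : Sys p H A R) (D : StD p H A R St) [Fact p.Prime] {χ : Γ → ℂ}
    (hχ : IsIrrCharacter H (res H χ)) {φ : Γ → ℂ} (hφ : PConst p H φ) (hχφ : ∀ h ∈ H, φ h * χ h = χ h)
    (hX : ∀ T ∈ A, ∃ X : Finset (↥(T ⊓ H) →* ℂˣ), (∀ ξ ∈ X, ∀ t : ↥(T ⊓ H), φ t = 1 → ξ t = 1) ∧
      Nat.card {h : H // cj (h : Γ) T = T} ≤ X.card * Nat.card ↥(T ⊓ H)) :
    ∃ T ∈ A, charDegree (res H χ) * Nat.card ↥(T ⊓ H) = pc' p H := by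
  classical
  have := S.finH
  obtain ⟨d, hd0, hd1⟩ := isIrr_apply_one hχ
  have hd : χ 1 = d := hd1
  rw [Blocks.Basic.charDegree_of_eq hd1]
  obtain ⟨T, hT, θ₀, h0⟩ := D.exists_ip_ne S (χ := χ) (by rw [hd]; exact Nat.cast_ne_zero.2 hd0.ne')
  refine ⟨T, hT, ?_⟩
  obtain ⟨X, hX1, hX2⟩ := hX T hT
  have := S.finT T
  have := finite_hom (T ⊓ H)
  have := Fintype.ofFinite (↥(T ⊓ H) →* ℂˣ)
  have := Fintype.ofFinite ↥(T ⊓ H)
  set f := rst H R T χ with hf
  have hf1 : ∀ t, f t ≠ 0 → φ t = 1 := by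
    intro t ht
    have h1 := S.rst_mul hT hφ χ t
    rw [rst_congr (f := φ * χ) (g := χ) hχφ] at h1
    exact mul_right_cancel₀ ht (h1.symm.trans (one_mul _).symm)
  choose a ha using fun θ : ↥(T ⊓ H) →* ℂˣ => ip_gen_int (gen_of_irr hχ) (S.gen T hT _ (isLin_lin θ))
  have ha' : ∀ θ, ip (T ⊓ H) f (lin θ) = a θ := fun θ => by rw [← S.ip_rst hT, ha]
  have ha0 : a θ₀ ≠ 0 := by
    intro h
    exact h0 (by rw [ha, h, Int.cast_zero])
  have haX : ∀ ξ ∈ X, a (ξ * θ₀) = a θ₀ := by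
    intro ξ hξ
    have h1 : ip (T ⊓ H) f (lin (ξ * θ₀)) = ip (T ⊓ H) f (lin θ₀) := by
      rw [ip_eq_sum, ip_eq_sum]
      congr 1
      refine Finset.sum_congr rfl fun t _ => ?_
      by_cases h : f t = 0
      · rw [h, zero_mul, zero_mul]
      · rw [lin_coe, lin_coe, MonoidHom.mul_apply, hX1 ξ hξ t (hf1 _ h), one_mul]
    rw [ha', ha'] at h1
    exact_mod_cast h1
  have hn : ip (T ⊓ H) f f = ((∑ θ, a θ * a θ : ℤ) : ℂ) := by
    rw [parseval (S.comm T hT)]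
    push_cast
    refine Finset.sum_congr rfl fun θ _ => ?_
    rw [ha', map_intCast]
  have hf0 : f 1 = ((∑ θ, a θ : ℤ) : ℂ) := by
    rw [fourier (S.comm T hT) f 1 (one_mem _), Finset.sum_apply]
    push_cast
    refine Finset.sum_congr rfl fun θ _ => ?_
    rw [Pi.smul_apply, ha', (isLin_lin θ).one, smul_eq_mul, mul_one]
  set X' := X.image (· * θ₀) with hX'
  have hinj : ∀ x ∈ X, ∀ y ∈ X, x * θ₀ = y * θ₀ → x = y := fun x _ y _ h => mul_right_cancel h
  have hs1 : ∑ θ ∈ X', a θ * a θ = X.card * (a θ₀ * a θ₀) := by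
    rw [hX', Finset.sum_image hinj, Finset.sum_congr rfl fun ξ hξ => by rw [haX ξ hξ], Finset.sum_const,
      nsmul_eq_mul]
  have hs2 : ∑ θ ∈ X', a θ = X.card * a θ₀ := by
    rw [hX', Finset.sum_image hinj, Finset.sum_congr rfl fun ξ hξ => by rw [haX ξ hξ], Finset.sum_const,
      nsmul_eq_mul]
  set n : ℤ := ∑ θ, a θ * a θ with hndef
  have hsplit : n = X.card * (a θ₀ * a θ₀) + ∑ θ ∈ X'ᶜ, a θ * a θ := by
    rw [← hs1, Finset.sum_add_sum_compl]
  have hrest : 0 ≤ ∑ θ ∈ X'ᶜ, a θ * a θ := Finset.sum_nonneg fun θ _ => mul_self_nonneg _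
  set c : ℕ := Nat.card {h : H // cj (h : Γ) T = T} with hc
  set m : ℕ := Nat.card ↥(T ⊓ H) with hm
  have hm0 : 0 < m := Nat.card_pos
  have hc0 : 0 < c := by
    have : Nonempty {h : H // cj (h : Γ) T = T} := ⟨⟨1, cj_one T⟩⟩
    exact Nat.card_pos
  have hmc : (m : ℂ) ≠ 0 := Nat.cast_ne_zero.2 hm0.ne'
  have hcc : (c : ℂ) ≠ 0 := Nat.cast_ne_zero.2 hc0.ne'
  -- the norm of `c • χ - m • R f`
  have h1 : ip H χ (R T f) = n := by rw [S.ip_rst hT, hn]
  have h2 : ip H (R T f) χ = n := by rw [S.ip_rst' hT, hn]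
  have h3 : ip H (R T f) (R T f) = c / m * n := by rw [hf, ip_R_rst S hT, hn]
  have h4 : ip H ((c : ℂ) • χ - (m : ℂ) • R T f) ((c : ℂ) • χ - (m : ℂ) • R T f) =
      ((c * (c - m * n) : ℤ) : ℂ) := by
    rw [ip_sub_left, ip_sub_right, ip_sub_right, ip_smul_left, ip_smul_left, ip_smul_left, ip_smul_left,
      ip_smul_right, ip_smul_right, ip_smul_right, ip_smul_right, ip_irr_self hχ, h1, h2, h3, Complex.conj_natCast,
      Complex.conj_natCast]
    push_cast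
    field_simp
    ring
  obtain ⟨ρ, hρ0, hρ⟩ := ip_self_nonneg (H := H) ((c : ℂ) • χ - (m : ℂ) • R T f)
  have h5 : (0 : ℤ) ≤ c * (c - m * n) := by
    rw [h4] at hρ
    have h6 : ((c * (c - m * n) : ℤ) : ℝ) = ρ := by exact_mod_cast hρ
    exact_mod_cast h6 ▸ hρ0
  have h6 : (m : ℤ) * n ≤ c := by
    have h7 : (0 : ℤ) < c := by exact_mod_cast hc0
    linarith [(mul_nonneg_iff_of_pos_left h7).1 h5]
  have h7 : (c : ℤ) ≤ X.card * m := by exact_mod_cast hX2
  have hmz : (0 : ℤ) < m := by exact_mod_cast hm0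
  have h8 : n ≤ X.card := le_of_mul_le_mul_left (by linarith) hmz
  have hX0 : (0 : ℤ) < X.card := by
    have h9 : (0 : ℤ) < c := by exact_mod_cast hc0
    by_contra h10
    have h11 : (X.card : ℤ) = 0 := le_antisymm (not_lt.1 h10) (Int.natCast_nonneg _)
    rw [h11, zero_mul] at h7
    exact absurd h7 (not_le.2 h9)
  have ha1 : 1 ≤ a θ₀ * a θ₀ := mul_self_pos.2 ha0
  have ha2 : a θ₀ * a θ₀ = 1 := by nlinarith
  have hr0 : ∑ θ ∈ X'ᶜ, a θ * a θ = 0 := by rw [ha2] at hsplit; linarith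
  have hnX : n = X.card := by rw [hsplit, ha2, hr0]; ring
  have hcX : (c : ℤ) = X.card * m := by rw [hnX] at h6; linarith
  have hf2 : f 1 = (X.card : ℂ) * a θ₀ := by
    have h9 : ∑ θ ∈ X'ᶜ, a θ = 0 := Finset.sum_eq_zero fun θ hθ =>
      mul_self_eq_zero.1 ((Finset.sum_eq_zero_iff_of_nonneg fun θ _ => mul_self_nonneg _).1 hr0 θ hθ)
    rw [hf0, ← Finset.sum_add_sum_compl X', hs2, h9]
    push_cast
    ring
  have h9 := eq_zero_of_ip_self (H := H) (f := (c : ℂ) • χ - (m : ℂ) • R T f)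
    (by rw [h4, hcX, hnX]; push_cast; ring) 1 H.one_mem
  rw [Pi.sub_apply, Pi.smul_apply, Pi.smul_apply, D.degree S hT, hf2, hd, smul_eq_mul, smul_eq_mul, ← hm] at h9
  have hcX' : (c : ℂ) = X.card * m := by exact_mod_cast hcX
  have hXc : (X.card : ℂ) ≠ 0 := by exact_mod_cast hX0.ne'
  have h10 : (d : ℂ) * m = eps H R St T * a θ₀ * pc' p H := by
    rw [hcX'] at h9
    field_simp at h9
    apply mul_left_cancel₀ hXc
    linear_combination h9
  have h11 : ((d * m : ℕ) : ℂ) * (d * m : ℕ) = (pc' p H : ℂ) * pc' p H := by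
    have h12 : (a θ₀ : ℂ) * a θ₀ = 1 := by exact_mod_cast ha2
    push_cast
    rw [h10]
    linear_combination (a θ₀ * pc' p H : ℂ) ^ 2 * D.eps_mul_self S hT + (pc' p H : ℂ) ^ 2 * h12
  have h12 : d * m * (d * m) = pc' p H * pc' p H := by exact_mod_cast h11
  exact Nat.mul_self_inj.1 h12

theorem exists_chars {K B : Type*} [Group K] [Finite K] [CommGroup B] (β : K →* B) :
    ∃ X : Finset (K →* ℂˣ), X.card = Nat.card β.range ∧ ∀ ξ ∈ X, ∀ t, β t = 1 → ξ t = 1 := by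
  classical
  have : Finite β.range := Finite.of_surjective _ β.rangeRestrict_surjective
  have : NeZero (Monoid.exponent β.range) := ⟨Monoid.exponent_ne_zero_of_finite⟩
  have h1 := CommGroup.card_monoidHom_of_hasEnoughRootsOfUnity β.range ℂ
  have : Finite (β.range →* ℂˣ) := Nat.finite_of_card_ne_zero (by rw [h1]; exact Nat.card_pos.ne')
  have := Fintype.ofFinite (β.range →* ℂˣ)
  refine ⟨Finset.univ.image fun ξ : β.range →* ℂˣ => ξ.comp β.rangeRestrict, ?_, ?_⟩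
  · rw [Finset.card_image_of_injective, Finset.card_univ, ← Nat.card_eq_fintype_card, h1]
    intro ξ ξ' h
    exact (MonoidHom.cancel_right β.rangeRestrict_surjective).1 h
  · intro ξ hξ t ht
    obtain ⟨ξ, -, rfl⟩ := Finset.mem_image.1 hξ
    have h2 : β.rangeRestrict t = 1 := Subtype.ext ht
    rw [MonoidHom.comp_apply, h2, map_one]

theorem not_dvd_orderOf_mul {N : Type*} [Group N] {l : ℕ} (hl : l.Prime) {a b : N} (h : Commute a b)
    (ha : ¬ l ∣ orderOf a) (hb : ¬ l ∣ orderOf b) : ¬ l ∣ orderOf (a * b) := fun h1 =>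
  (hl.dvd_mul.1 (h1.trans h.orderOf_mul_dvd_mul_orderOf)).elim ha hb

/-- **No characters of defect zero in a central quotient.** -/
theorem not_hasDZ_sys (S : Sys p H A R) (D : StD p H A R St) [hp : Fact p.Prime] {l : ℕ} [hl : Fact l.Prime]
    (hlp : l ≠ p) {N : Type*} [Group N] (f : H →* N) (hf : Function.Surjective f)
    (hc : ∀ z : H, f z = 1 → ∀ h ∈ H, h * z = z * h)
    (hT : ∀ T ∈ A, ∃ (B : Type u) (_ : CommGroup B) (β : ↥(T ⊓ H) →* B), (∀ t, β t ^ l = 1) ∧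
      (∀ t : ↥(T ⊓ H), f ⟨t, t.2.2⟩ = 1 → β t = 1) ∧ (∃ t, β t ≠ 1) ∧
      Nat.card {h : H // cj (h : Γ) T = T} ≤ Nat.card β.range * Nat.card ↥(T ⊓ H)) : ¬ H665.NoPQ.HasDZ l N := by
  classical
  rintro ⟨ψ, hψ⟩
  have := S.finH
  have : Finite N := Finite.of_surjective f hf
  let χ : Γ → ℂ := fun g => if hg : g ∈ H then (ψ : N → ℂ) (f ⟨g, hg⟩) else 0
  have hχ : res H χ = (ψ : N → ℂ) ∘ f := funext fun h => dif_pos h.2
  let P : Γ → Prop := fun g => ∃ hg : g ∈ H, ¬ l ∣ orderOf (f ⟨g, hg⟩)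
  let φ : Γ → ℂ := fun g => if P g then 1 else 0
  have hφ : PConst p H φ := by
    constructor
    · intro g hg h hh
      refine if_congr ?_ rfl rfl
      have h1 : h * g * h⁻¹ ∈ H := mul_mem (mul_mem hh hg) (inv_mem hh)
      have h2 : orderOf (f ⟨h * g * h⁻¹, h1⟩) = orderOf (f ⟨g, hg⟩) := by
        rw [← orderOf_conj' (f ⟨h, hh⟩) (f ⟨g, hg⟩), ← map_inv, ← map_mul, ← map_mul]
        rfl
      exact ⟨fun ⟨_, h3⟩ => ⟨hg, h2 ▸ h3⟩, fun ⟨_, h3⟩ => ⟨h1, h2 ▸ h3⟩⟩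
    · rintro s hs u hu - ⟨k, hk⟩ hsu
      refine if_congr ?_ rfl rfl
      have h1 : ¬ l ∣ orderOf (f ⟨u, hu⟩) := by
        intro h
        have h2 := h.trans (orderOf_map_dvd f ⟨u, hu⟩)
        rw [Subgroup.orderOf_mk, hk] at h2
        exact hlp ((Nat.prime_dvd_prime_iff_eq hl.out hp.out).1 (hl.out.dvd_of_dvd_pow h2))
      have h2 : Commute (f ⟨s, hs⟩) (f ⟨u, hu⟩) := by
        rw [Commute, SemiconjBy, ← map_mul, ← map_mul]
        exact congrArg f (Subtype.ext hsu)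
      have h3 : f ⟨s * u, mul_mem hs hu⟩ = f ⟨s, hs⟩ * f ⟨u, hu⟩ := by rw [← map_mul]; rfl
      constructor
      · rintro ⟨_, h4⟩
        refine ⟨hs, ?_⟩
        rw [h3] at h4
        have h5 := not_dvd_orderOf_mul hl.out (h2.mul_left (Commute.refl _)).inv_right h4
          (by rwa [orderOf_inv])
        rwa [mul_inv_cancel_right] at h5
      · rintro ⟨_, h4⟩
        exact ⟨mul_mem hs hu, h3 ▸ not_dvd_orderOf_mul hl.out h2 h4 h1⟩
  have hχφ : ∀ h ∈ H, φ h * χ h = χ h := by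
    intro h hh
    by_cases h1 : P h
    · rw [show φ h = 1 from if_pos h1, one_mul]
    · have h2 : χ h = 0 := by
        rw [show χ h = (ψ : N → ℂ) (f ⟨h, hh⟩) from dif_pos hh]
        exact Nil.dz_vanish ψ.2 hψ (by_contra fun h3 => h1 ⟨hh, h3⟩)
      rw [h2, mul_zero]
  obtain ⟨T, hTA, hd⟩ := deg_of_supp S D (χ := χ) (hχ ▸ isIrr_comp f hf ψ.2) hφ hχφ fun T hTA => by
    obtain ⟨B, _, β, h1, h2, -, h4⟩ := hT T hTA
    have := S.finT T
    obtain ⟨X, hX1, hX2⟩ := exists_chars β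
    refine ⟨X, fun ξ hξ t ht => hX2 ξ hξ t ?_, hX1 ▸ h4⟩
    obtain ⟨_, h5⟩ : P t := by
      by_contra h5
      exact zero_ne_one ((if_neg h5).symm.trans ht)
    have h6 : β t ^ orderOf (f ⟨t, t.2.2⟩) = 1 := by
      rw [← map_pow]
      refine h2 _ ?_
      rw [← pow_orderOf_eq_one (f ⟨t, t.2.2⟩), ← map_pow]
      rfl
    exact (pow_eq_one_iff_of_coprime ((Nat.Prime.coprime_iff_not_dvd hl.out).2 h5)).1 ⟨h1 t, h6⟩
  obtain ⟨B, _, β, h1, h2, ⟨t, h3⟩, -⟩ := hT T hTA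
  have := S.finT T
  have hdeg : charDegree (res H χ) = charDegree (ψ : N → ℂ) := by
    rw [hχ]
    obtain ⟨d, -, hd1⟩ := isIrr_apply_one ψ.2
    rw [Blocks.Basic.charDegree_of_eq hd1, Blocks.Basic.charDegree_of_eq (by rw [Function.comp_apply, map_one, hd1])]
  rw [hdeg] at hd
  -- the kernel of `f` embeds into the kernel of `β`
  let j : f.ker →* β.ker :=
    { toFun := fun z => ⟨⟨z.1, D.central_mem S z.1.2 (hc z.1 z.2) T hTA, z.1.2⟩, h2 _ z.2⟩
      map_one' := rfl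
      map_mul' := fun _ _ => rfl }
  have hj : Function.Injective j := fun a b h =>
    Subtype.ext (Subtype.ext (congrArg (fun x : β.ker => ((x : ↥(T ⊓ H)) : Γ)) h))
  have h4 : Nat.card f.ker ∣ Nat.card β.ker := Subgroup.card_dvd_of_injective j hj
  have h5 : l ∣ β.ker.index := by
    rw [Subgroup.index_ker, ← orderOf_eq_prime (h1 t) h3]
    exact Subgroup.orderOf_dvd_natCard _ ⟨t, rfl⟩
  have h6 : Nat.card f.ker * l ∣ Nat.card ↥(T ⊓ H) := by
    rw [← β.ker.card_mul_index]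
    exact Nat.mul_dvd_mul h4 h5
  have h7 : Nat.card f.ker * Nat.card N = Nat.card H := by
    rw [← f.ker.card_mul_index, Subgroup.index_ker, MonoidHom.range_eq_top.2 hf, Subgroup.card_top]
  have h8 : charDegree (ψ : N → ℂ) * (Nat.card f.ker * l) ∣ Nat.card f.ker * Nat.card N := by
    rw [h7, ← pc_mul_pc' p H, ← hd]
    exact (Nat.mul_dvd_mul_left _ h6).trans (Dvd.intro_left _ rfl)
  rw [mul_left_comm] at h8
  have h9 := Nat.dvd_of_mul_dvd_mul_left Nat.card_pos h8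
  have h10 := Blocks.Basic.charDegree_pos ψ.2
  have h11 := (Nat.factorization_le_iff_dvd (Nat.mul_ne_zero h10.ne' hl.out.ne_zero) Nat.card_pos.ne').2 h9 l
  rw [Nat.factorization_mul h10.ne' hl.out.ne_zero, Finsupp.add_apply, hl.out.factorization_self, hψ] at h11
  omega

end Cfsg.Agent.BHZ.Exc.ND
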