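import Cfsg.Agent.BHZ.Exc.Iface

/-!
# S4806, exceptional groups: the box RED (helper83)
-/

set_option autoImplicit false

namespace Cfsg.Agent.BHZ.Exc

open Cfsg Cfsg.Agent.H665.NoPQ

universe u

section

variable {p : ℕ} [hp : Fact p.Prime] {G : Type u} [Group G] [Finite G] {S : Type*} [Group S] {σ : G →* S}

/-- The `p`-regular elements of a central kernel. -/
def rker (p : ℕ) [Fact p.Prime] (hc : σ.ker ≤ Subgroup.center G) : Subgroup G where
  carrier := {z | σ z = 1 ∧ ¬ p ∣ orderOf z}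
  mul_mem' := by
    rintro a b ⟨ha, h1⟩ ⟨hb, h2⟩
    refine ⟨by rw [map_mul, ha, hb, one_mul], fun h => ?_⟩
    rcases (Nat.Prime.dvd_mul Fact.out).1
      (h.trans (Commute.orderOf_mul_dvd_mul_orderOf (Nil.cent_comm hc hb a))) with h3 | h3
    exacts [h1 h3, h2 h3]
  one_mem' := ⟨map_one σ, by rw [orderOf_one, Nat.dvd_one]; exact (Fact.out : p.Prime).one_lt.ne'⟩
  inv_mem' := by
    rintro a ⟨ha, h⟩
    exact ⟨by rw [map_inv, ha, inv_one], by rwa [orderOf_inv]⟩

theorem exists_pp_quot (hc : σ.ker ≤ Subgroup.center G) :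
    ∃ (X : Type) (_ : Group X) (π : G →* X) (ρ : X →* S), Function.Surjective π ∧ (∀ g, ρ (π g) = σ g) ∧
      Nil.CentPP p π ∧ IsPGroup p ρ.ker := by
  have hn : (rker p hc).Normal := ⟨fun n hn g => by rwa [Nil.cent_comm hc hn.1 g, mul_inv_cancel_right]⟩
  obtain ⟨X, _, _, ⟨e⟩⟩ := Finite.exists_type_univ_nonempty_mulEquiv.{u, 0} (G ⧸ rker p hc)
  let π : G →* X := e.toMonoidHom.comp (QuotientGroup.mk' _)
  have hπ : ∀ g, π g = 1 ↔ g ∈ rker p hc := fun g => by
    show e (QuotientGroup.mk g) = 1 ↔ _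
    rw [EmbeddingLike.map_eq_one_iff, QuotientGroup.eq_one_iff]
  let ρ : X →* S := (QuotientGroup.lift (rker p hc) σ fun x hx => hx.1).comp e.symm.toMonoidHom
  have hρ : ∀ g, ρ (π g) = σ g := fun g => by
    show QuotientGroup.lift (rker p hc) σ (fun x hx => hx.1) (e.symm (e (QuotientGroup.mk g))) = σ g
    rw [e.symm_apply_apply]
    rfl
  have hs : Function.Surjective π := e.surjective.comp (QuotientGroup.mk'_surjective _)
  refine ⟨X, inferInstance, π, ρ, hs, hρ, ⟨fun g hg => hc ((hπ g).1 hg).1, fun h => ?_⟩, ?_⟩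
  · obtain ⟨x, hx⟩ := exists_prime_orderOf_dvd_card' p h
    exact ((hπ x).1 x.2).2 (by rw [Subgroup.orderOf_coe, hx])
  · rintro ⟨x, hx⟩
    obtain ⟨g, rfl⟩ := hs x
    obtain ⟨k, hk⟩ := Nil.exists_reg_pow (p := p) g
    refine ⟨k, Subtype.ext ?_⟩
    show π g ^ p ^ k = 1
    rw [← map_pow, hπ]
    exact ⟨by rw [map_pow, ← hρ, MonoidHom.mem_ker.1 hx, one_pow], hk⟩

omit hp in
theorem card_ker_comp {X : Type*} [Group X] {π : G →* X} (hπ : Function.Surjective π) (ρ : X →* S) :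
    Nat.card (ρ.comp π).ker = Nat.card π.ker * Nat.card ρ.ker := by
  have : Finite X := Finite.of_surjective π hπ
  have h5 : (ρ.comp π).ker = ρ.ker.comap π := rfl
  have h6 : Nat.card (ρ.comp π).ker * ρ.ker.index = Nat.card G := by
    rw [h5, ← Subgroup.index_comap_of_surjective _ hπ, Subgroup.card_mul_index]
  have h7 : Nat.card π.ker * Nat.card X = Nat.card G := by
    rw [← Subgroup.card_mul_index π.ker, Subgroup.index_ker, MonoidHom.range_eq_top.2 hπ, Subgroup.card_top]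
  apply Nat.eq_of_mul_eq_mul_right (Nat.pos_of_ne_zero ρ.ker.index_ne_zero_of_finite)
  rw [h6, mul_assoc, Subgroup.card_mul_index, h7]

/-- `LocX` in a quotient by a central `p'`-subgroup. -/
theorem locX_of_nilpotent {X : Type} [Group X] {π : G →* X} (hπ : Function.Surjective π) (h : Nil.CentPP p π)
    {M : Ideal AlgInt} (hM : IsPModular p M) {B : Set (IrrCharacter G)} (hB : IsNilpotentBlock p M B)
    {D : Subgroup G} (hD : IsDefectGroup p M B D) : LocX p (Nat.card π.ker) X (D.map π) := by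
  have hL := Nil.loc_of_nilpotent hM hB hD hπ h.cent
  have hDp := Nil.isPGroup_defect hD
  refine ⟨hL.pg, hL.syl, hL.fus, fun N h1 h2 h3 => ?_⟩
  obtain ⟨N', _, _, ⟨e⟩⟩ := Finite.exists_type_univ_nonempty_mulEquiv.{u, 0} (N.comap π)
  let f : N' →* N := (π.subgroupComap N).comp e.symm.toMonoidHom
  have hf : ∀ x, f x = 1 ↔ π (e.symm x) = 1 := fun x => Subtype.ext_iff
  refine ⟨N', inferInstance, inferInstance, f, (π.subgroupComap_surjective_of_surjective N hπ).comp e.symm.surjective,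
    fun x hx => Subgroup.mem_center_iff.2 fun y => e.symm.injective (Subtype.ext ?_), ?_, Nil.dz_congr e ?_⟩
  · rw [map_mul, map_mul]
    exact h.comm ((hf x).1 hx) _
  · let j : f.ker →* π.ker := (((N.comap π).subtype.comp e.symm.toMonoidHom).comp f.ker.subtype).codRestrict _
      fun x => (hf x).1 x.2
    exact Subgroup.card_dvd_of_injective j fun x y hxy =>
      Subtype.ext (e.symm.injective (Subtype.ext (congrArg (fun w : π.ker => (w : G)) hxy)))
  · refine Nil.dz_of_block hM hB.1 hD (fun x hx => h.mem_centralizer hDp (h1 hx)) (fun x hx => ?_) (MonoidHom.id _)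
      Function.surjective_id fun x => ⟨fun hx => ?_, fun hx => ?_⟩
    · refine Subgroup.mem_normalizer_fintype fun n hn => ?_
      show π (x * n * x⁻¹) ∈ N
      rw [map_mul, map_mul, map_inv]
      exact (Subgroup.mem_normalizer_iff.1 (h2 (Nil.map_mem_centralizer hx)) _).1 hn
    · rw [show x = 1 from hx]
      exact D.one_mem
    · have h4 : π x ∈ N ⊓ D.map π := ⟨x.2, x, hx, rfl⟩
      rw [h3, Subgroup.mem_bot] at h4
      obtain ⟨n, hn⟩ := hDp ⟨x, hx⟩
      exact Subtype.ext (h.eq_one h4 (congrArg Subtype.val hn))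

end

/-- **[RED]** -/
theorem boxRED : BoxRED.{u} := by
  intro p _ S _ G _ _ σ hG hσ hc M hM B hB D hD
  obtain ⟨X, _, π, ρ, hπ, hρ, h, hρp⟩ := exists_pp_quot (p := p) hc
  have hσ' : ρ.comp π = σ := MonoidHom.ext hρ
  refine ⟨X, inferInstance, Finite.of_surjective π hπ, ρ, Nat.card π.ker, D.map π, ?_, fun s => ?_, fun x hx => ?_, hρp,
    h.cop, fun A _ hA => ?_, locX_of_nilpotent hπ h hM hB hD, fun h2 => ⟨⟨fun a b => Subtype.ext ?_⟩⟩⟩
  · have h1 : (commutator G).map π = ⁅π.range, π.range⁆ := map_commutator_eq G π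
    rw [hG, ← MonoidHom.range_eq_map, MonoidHom.range_eq_top.2 hπ] at h1
    rw [commutator_def]
    exact h1.symm
  · obtain ⟨g, rfl⟩ := hσ s
    exact ⟨π g, hρ g⟩
  · obtain ⟨g, rfl⟩ := hπ x
    refine Subgroup.mem_center_iff.2 fun y => ?_
    obtain ⟨k, rfl⟩ := hπ y
    rw [← map_mul, ← map_mul, Nil.cent_comm hc ((hρ g).symm.trans hx) k]
  · rw [← card_ker_comp hπ, hσ']
    exact H95.StemCover.card_ker_dvd hA hG σ hσ hc
  · obtain ⟨n, hn⟩ := Nil.isPGroup_defect hD a
    exact h.comm_of_pelt (congrArg Subtype.val hn)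
      (congrArg Subtype.val (h2.1.1 ⟨π a, a, a.2, rfl⟩ ⟨π b, b, b.2, rfl⟩))

end Cfsg.Agent.BHZ.Exc
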