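import Cfsg.Agent.BHZ.Exc.Full6
import Cfsg.Agent.H95.StemCover
import Cfsg.Agent.S2105
import Cfsg.Agent.S2108
import Cfsg.Agent.S2109
import Cfsg.Agent.S1070

/-!
# S4806, exceptional groups: `boxRow6`, the rows `E₆(q)`, `²E₆(q)` for `p = 3` (helper37)
-/

set_option autoImplicit false
set_option linter.unusedSectionVars false

namespace Cfsg.Agent.BHZ.Exc

open Cfsg Cfsg.Lie Subgroup Cfsg.Agent.DS.Ex Cfsg.Agent.H95.StemCover Cfsg.Agent.BpExc
open Cfsg.Agent.H720.TwFr (rho6)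

universe u

namespace Six

/-- a central extension whose kernel has the full `3`-part covers the central extensions by `3`-groups -/
theorem exists_psi {S L X A : Type} [Group S] [Group L] [Group X] [CommGroup A] [Finite S] [Finite L] [Finite X]
    (hS : commutator S = ⊤) (hA : HasSchurMultiplier S A) (h9 : ¬ 9 ∣ Nat.card A) {τ : L →* S}
    (hτ : IsStemExtension τ) (hτ3 : ∀ z, τ z = 1 → z ^ 3 = 1) {ρ : X →* S} (hρ : IsStemExtension ρ)
    (hρ3 : IsPGroup 3 ρ.ker) (hd : Nat.card ρ.ker ∣ Nat.card A) (hz : 3 ∣ Nat.card A → ∃ z, z ≠ 1 ∧ τ z = 1) :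
    ∃ ψ : L →* X, Function.Surjective ψ ∧ ∀ x, ρ (ψ x) = τ x := by
  have : Fact (Nat.Prime 3) := ⟨Nat.prime_three⟩
  refine exists_of_injective hS hτ hρ ?_
  by_cases h0 : ρ.ker = ⊥
  · rw [injective_iff_map_eq_one]
    intro x hx
    have h1 : (x : L × X).1 = 1 := hx
    have h2 : (x : L × X).2 ∈ ρ.ker := by
      rw [MonoidHom.mem_ker, ← mem_fib.1 (EE_le x.2), h1, map_one]
    rw [h0, mem_bot] at h2
    exact Subtype.ext (Prod.ext h1 h2)
  · have h1 : 3 ∣ Nat.card ρ.ker := by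
      rcases hρ3.card_eq_or_dvd with h | h
      · exact absurd (eq_bot_of_card_eq _ h) h0
      · exact h
    obtain ⟨z, hz1, hz2⟩ := hz (h1.trans hd)
    have h2 : 3 ≤ Nat.card τ.ker := by
      have h3 : orderOf (⟨z, hz2⟩ : τ.ker) = 3 :=
        orderOf_eq_prime (Subtype.ext (hτ3 z hz2)) fun h => hz1 (congrArg Subtype.val h)
      exact Nat.le_of_dvd Nat.card_pos (h3 ▸ orderOf_dvd_natCard _)
    have hst := stem_EE hS hτ.1 hρ.1 hτ.2.1 hρ.2.1
    have h3 : Nat.card (τ.comp (pΓ τ ρ)).ker ∣ Nat.card A :=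
      card_ker_dvd hA (commutator_EE hS hτ.1 hρ.1 hτ.2.1 hρ.2.1) _ hst.1 hst.2.1
    have h4 : IsPGroup 3 (τ.comp (pΓ τ ρ)).ker := by
      rintro ⟨x, hx⟩
      have h5 : τ (x : L × X).1 = 1 := hx
      have h6 : ρ (x : L × X).2 = 1 := by rw [← mem_fib.1 (EE_le x.2), h5]
      obtain ⟨k, hk⟩ := hρ3 ⟨_, h6⟩
      have h7 : (x : L × X).2 ^ 3 ^ k = 1 := congrArg Subtype.val hk
      refine ⟨k + 1, Subtype.ext (Subtype.ext (Prod.ext ?_ ?_))⟩
      · show (x : L × X).1 ^ 3 ^ (k + 1) = 1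
        rw [pow_succ', pow_mul, hτ3 _ h5, one_pow]
      · show (x : L × X).2 ^ 3 ^ (k + 1) = 1
        rw [pow_succ, pow_mul, h7, one_pow]
    obtain ⟨n, hn⟩ := IsPGroup.iff_card.1 h4
    have h5 : n ≤ 1 := by
      by_contra h
      exact h9 (((pow_dvd_pow 3 (by omega : 2 ≤ n)).trans (hn ▸ h3) : 3 ^ 2 ∣ _))
    have h6 : Nat.card (τ.comp (pΓ τ ρ)).ker ≤ Nat.card τ.ker := by
      rw [hn]
      exact ((Nat.pow_le_pow_right (by norm_num) h5).trans (pow_one 3).le).trans h2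
    have h7 : Nat.card (EE τ ρ) = Nat.card (τ.comp (pΓ τ ρ)).ker * Nat.card S := by
      rw [← card_mul_index (τ.comp (pΓ τ ρ)).ker, index_ker, MonoidHom.range_eq_top.2 hst.1, card_top]
    have h8 : Nat.card L = Nat.card τ.ker * Nat.card S := by
      rw [← card_mul_index τ.ker, index_ker, MonoidHom.range_eq_top.2 hτ.1, card_top]
    have hsurj := pΓ_surj (σ := τ) (π := ρ) hS hτ hρ.1
    refine ((Nat.bijective_iff_surjective_and_card _).2 ⟨hsurj, le_antisymm ?_ ?_⟩).1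
    · rw [h7, h8]
      exact Nat.mul_le_mul_right _ h6
    · exact Nat.card_le_card_of_surjective _ hsurj

variable {r : ℕ} [hr : Fact r.Prime] {e : ℕ} {π : Equiv.Perm (Fin 6)} {σ : MulAut (YY chevE6 r)}
  {σL : MulAut (St r)} {S : Type} [Group S]

/-- the fixed points -/
def Fx (σL : MulAut (St r)) : Subgroup (St r) := σL.toMonoidHom.eqLocus (MonoidHom.id _)

theorem mem_Fx {u : St r} : u ∈ Fx σL ↔ σL u = u := Iff.rfl

/-- **The fixed points form a stem extension of `S`.** -/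
theorem Mod.exists_tau [Finite S] (m : Mod σ S) (hS : commutator S = ⊤) (h3 : r ≠ 3) (h : IsStd r e π σ)
    (hL : ∀ x, th r (σL x) = σ (th r x)) : Finite (Fx σL) ∧ ∃ τ : Fx σL →* S, (∀ x, m.ι (τ x) = th r x) ∧
      IsStemExtension τ ∧ ∀ z, τ z = 1 → z ^ 3 = 1 := by
  have h1 : G0 σL ≤ m.ι.range.comap (th r) := by
    refine (closure_le _).2 ?_
    rintro u ⟨hu, n, hn⟩
    show th r u ∈ m.ι.range
    have h5 : th r u ^ r ^ n ∈ m.ι.range := by rw [← map_pow, hn, map_one]; exact one_mem _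
    exact DS.Nt.mem_of_pow_coprime (a := 3) (b := r ^ n) (m.cube _ (by rw [← hL, hu])) h5 (cop3 h3 n).symm
  have h2 : ∀ x : Fx σL, ((th r).comp (Fx σL).subtype) x ∈ m.ι.range := fun x => h1 (m.full h3 hL h x.2)
  obtain ⟨τ, hτ⟩ : ∃ τ : Fx σL →* S, ∀ x, m.ι (τ x) = th r x :=
    ⟨(MonoidHom.ofInjective m.inj).symm.toMonoidHom.comp (((th r).comp (Fx σL).subtype).codRestrict _ h2),
      fun x => MonoidHom.apply_ofInjective_symm m.inj _⟩
  have hk : ∀ z, τ z = 1 → th r z = 1 := fun z hz => by rw [← hτ, hz, map_one]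
  have hs : Function.Surjective τ := by
    intro a
    obtain ⟨u, hu, e1⟩ := m.exists_G0 h3 hL a
    exact ⟨⟨u, G0_fix hu⟩, m.inj (by rw [hτ, e1])⟩
  have hc : τ.ker ≤ center (Fx σL) := fun z hz =>
    mem_center_iff.2 fun y => Subtype.ext (mem_center_iff.1 (th_cent (hk z hz)) y)
  have he : ∀ z, τ z = 1 → z ^ 3 = 1 := fun z hz => Subtype.ext (th_expo _ (hk z hz))
  have hp : commutator (Fx σL) = ⊤ := by
    have h4 : G0 σL ≤ (commutator (Fx σL)).map (Fx σL).subtype := by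
      refine (closure_le _).2 ?_
      rintro u ⟨hu, n, hn⟩
      exact ⟨⟨u, hu⟩, H51.Tools.mem_commutator_of_pow hs hc hS he (Subtype.ext hn) (cop3 h3 n).symm, rfl⟩
    rw [eq_top_iff]
    intro x _
    obtain ⟨y, hy, e1⟩ := h4 (m.full h3 hL h x.2)
    rwa [← show y = x from Subtype.ext e1]
  have : Finite τ.ker := by
    have := finite_ker (r := r)
    exact Finite.of_injective (fun z : τ.ker => (⟨z.1.1, hk z.1 z.2⟩ : (th r).ker))
      fun a b hab => Subtype.ext (Subtype.ext (congrArg (fun w : (th r).ker => (w : St r)) hab))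
  exact ⟨H59.ESixCover.finite_of_ker τ, τ, hτ, isStem hp hs hc, he⟩

/-- **The row of a model.** -/
theorem Mod.brow [Finite S] (hR : BoxRED.{u}) (hM : Main6 r) (hLift : BoxLift6) (m : Mod σ S)
    (hS : commutator S = ⊤) (h3 : r ≠ 3) (he : 0 < e) (h : IsStd r e π σ) {A : Type} [CommGroup A]
    (hA : HasSchurMultiplier S A) (h9 : ¬ 9 ∣ Nat.card A)
    (hz : 3 ∣ Nat.card A → (π = 1 ∧ r ^ e % 3 = 1) ∨ (π = rho6 ∧ r ^ e % 3 = 2))
    (hc : ∀ c, ¬ 3 ∣ c → c ∣ Nat.card A → NDc r e c) : Nil.BRow.{u} 3 S := by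
  have : Fact (Nat.Prime 3) := ⟨Nat.prime_three⟩
  intro G _ _ f hG hf hfc M hM' B hB D hD
  obtain ⟨X, _, _, ρ, c, Q, hX, hρ, hρc, hρ3, hc3, hdvd, hloc, hab⟩ := hR 3 S G f hG hf hfc M hM' B hB D hD
  obtain ⟨σL, hL⟩ := hLift r h3 e σ _ he h.frob h.fr
  obtain ⟨hfin, τ, hτ, hτs, hτ3⟩ := m.exists_tau hS h3 h hL
  have hd := hdvd A hA
  obtain ⟨ψ, hψ, hρψ⟩ := exists_psi hS hA h9 hτs hτ3 (isStem hX hρ hρc) hρ3 ((dvd_mul_left _ _).trans hd) fun h4 => by
    obtain ⟨z, hz1, hz2, hz3⟩ := lift_z h3 h hL (hz h4)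
    exact ⟨⟨z, hz3⟩, fun h5 => hz1 (congrArg Subtype.val h5), m.inj (by rw [hτ, map_one]; exact hz2)⟩
  have hπψ : ∀ x : Fx σL, (m.ι.comp ρ) (ψ x) = th r x := fun x => by rw [MonoidHom.comp_apply, hρψ, hτ]
  let Γ : GS hpE6 3 c (th6 r) X Q :=
    { e := e
      σ := σ
      g := _
      σL := σL
      π := m.ι.comp ρ
      L0 := Fx σL
      ψ := ψ
      he := he
      frob := h.frob
      fr := h.fr
      lift := hL
      fixπ := fun x => m.fix _
      fixL := fun x hx => hx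
      πψ := hπψ
      eqv := by
        intro x y hy n
        obtain ⟨n0, rfl⟩ := hψ x
        have h4 : th r ((n0 : St r)⁻¹ * y) = 1 := by
          rw [map_mul, map_inv, ← hπψ, ← hy]
          exact inv_mul_cancel _
        have h5 := mem_center_iff.1 (th_cent h4) n
        have h6 : y * n * y⁻¹ = (n0 * n * n0⁻¹ : Fx σL) := by
          show _ = (n0 : St r) * n * (n0 : St r)⁻¹
          calc y * n * y⁻¹ = n0 * ((n0 : St r)⁻¹ * y * n) * y⁻¹ := by group
            _ = _ := by rw [← h5]; group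
        refine ⟨h6 ▸ (n0 * n * n0⁻¹).2, ?_⟩
        rw [← map_inv, ← map_mul, ← map_mul]
        exact congrArg ψ (Subtype.ext h6)
      rel := fun u hu _ => hu
      full2 := fun _ _ u hu => hu
      hc := fun _ _ => hc c hc3 ((dvd_mul_right _ _).trans hd)
      fin := inferInstance
      loc := hloc }
  have hAb : Γ.Ab := hM c X Q Γ fun u hu => hu
  refine hab ⟨⟨fun x y => Subtype.ext ?_⟩⟩
  obtain ⟨a, ha⟩ := hψ x
  obtain ⟨b, hb⟩ := hψ y
  have h4 := hAb a ⟨x, x.2, by rw [← ha]; exact hπψ a⟩ b ⟨y, y.2, by rw [← hb]; exact hπψ b⟩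
  show (x : X) * y = y * x
  rw [← ha, ← hb, ← map_mul, ← map_mul]
  exact congrArg ψ (Subtype.ext h4)

theorem perfect_of {K : Type} [Group K] (h : IsSimpleGroup K ∧ ¬ IsMulCommutative K) : commutator K = ⊤ := by
  rcases h.1.eq_bot_or_eq_top_of_normal (commutator K) inferInstance with h1 | h1
  · exact absurd ((commutator_eq_bot_iff K).1 h1) h.2
  · exact h1

theorem ne_three {F : Type} [Field F] [CharP F r] (h : ((3 : ℕ) : F) ≠ 0) : r ≠ 3 := by
  rintro rfl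
  exact h (CharP.cast_eq_zero F 3)

theorem card_cyc (n : ℕ) : Nat.card (Multiplicative (ZMod n)) = n := by
  rw [Nat.card_congr Multiplicative.toAdd, Nat.card_zmod]

theorem not_nine (n : ℕ) : ¬ 9 ∣ Nat.gcd 3 n := fun h => by
  have := Nat.le_of_dvd (by norm_num) (h.trans (Nat.gcd_dvd_left 3 n))
  omega

theorem ndc_of_gcd {n c : ℕ} (h1 : ¬ 3 ∣ c) (h2 : c ∣ Nat.gcd 3 n) : NDc r e c := by
  rcases (Nat.dvd_prime Nat.prime_three).1 (h2.trans (Nat.gcd_dvd_left 3 n)) with h | h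
  · exact Or.inl h
  · exact absurd (h ▸ dvd_rfl) h1

end Six

open Six in
/-- **[Row6]** -/
theorem boxRow6 (hR : BoxRED.{u}) (hM : ∀ (r : ℕ) [Fact r.Prime], r ≠ 3 → Main6 r) (hL : BoxLift6) : BoxRow6.{u} := by
  constructor
  · rintro p _ - S _ _ _ - ⟨rfl, F, _, _, hF, ⟨f⟩⟩
    obtain ⟨r, hr, _⟩ := RowsUntw.exists_char F
    have : Fact r.Prime := ⟨hr⟩
    have h3 : r ≠ 3 := ne_three hF
    obtain ⟨e, he, hq⟩ := FamField.exists_card (F := F) r
    obtain ⟨m⟩ := mod_untw (r := r) F he hq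
    refine Nil.BRow.of_equiv f (m.brow hR (hM r h3) hL (perfect_of (S1054.result _ (by simp))) h3 he
      (Or.inl ⟨rfl, rfl⟩) (S2105.result (q := r ^ e) (by rw [← hq, Nat.card_eq_fintype_card])) ?_ ?_ ?_)
    · rw [card_cyc]
      exact not_nine _
    · rw [card_cyc]
      intro h
      have h1 := h.trans (Nat.gcd_dvd_right _ _)
      have h2 : 0 < r ^ e := pow_pos hr.pos e
      exact Or.inl ⟨rfl, by omega⟩
    · rw [card_cyc]
      exact fun c => ndc_of_gcd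
  · rintro p _ - S _ _ _ - ⟨rfl, K, _, _, q, hF, hq, hK, ⟨f⟩⟩
    obtain ⟨r, hr, _⟩ := RowsUntw.exists_char K
    have : Fact r.Prime := ⟨hr⟩
    have h3 : r ≠ 3 := ne_three hF
    obtain ⟨e, he, hqe⟩ := H469.Exc.exists_eq_pow (r := r) hq hK
    obtain ⟨m⟩ := mod_tw (r := r) K he hqe hK
    have : Finite ↥(twistedE6 K q) := Finite.of_equiv _ f.toEquiv
    refine Nil.BRow.of_equiv f ?_
    by_cases h2 : q = 2
    · subst h2
      have h4 : Nat.card (Multiplicative (ZMod 3 × ZMod 2 × ZMod 2)) = 12 := by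
        rw [Nat.card_congr Multiplicative.toAdd, Nat.card_prod, Nat.card_prod, Nat.card_zmod, Nat.card_zmod]
      refine m.brow hR (hM r h3) hL (perfect_of (S1070.result hq hK)) h3 he (Or.inr ⟨rfl, rfl⟩)
        (S2109.result hK) ?_ (fun _ => Or.inr ⟨rfl, by rw [← hqe]⟩) fun c hc _ => Or.inr (Or.inr ⟨hqe.symm, hc⟩)
      rw [h4]
      norm_num
    · refine m.brow hR (hM r h3) hL (perfect_of (S1070.result hq hK)) h3 he (Or.inr ⟨rfl, rfl⟩)
        (S2108.result hq hK h2) ?_ ?_ ?_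
      · rw [card_cyc]
        exact not_nine _
      · rw [card_cyc]
        intro h
        have h1 := h.trans (Nat.gcd_dvd_right _ _)
        exact Or.inr ⟨rfl, by omega⟩
      · rw [card_cyc]
        exact fun c => ndc_of_gcd

end Cfsg.Agent.BHZ.Exc
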