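import Cfsg.Agent.BHZ.Exc.Main
import Cfsg.Agent.H316.U6Model
import Cfsg.Agent.H795.TorSub
import Cfsg.Agent.H566.WeylST
import Cfsg.Agent.S1092
import Cfsg.Agent.S2100
import Cfsg.Agent.S2101
import Cfsg.Agent.S2102
import Cfsg.Agent.S2103
import Cfsg.Agent.S2104
import Cfsg.Agent.S2105
import Cfsg.Agent.S2106
import Cfsg.Agent.S2107
import Cfsg.Agent.S2108
import Cfsg.Agent.S2109
import Cfsg.Agent.S2110

/-!
# S4806, exceptional groups: the rows of case I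
-/

set_option autoImplicit false

namespace Cfsg.Agent.BHZ.Exc

open CoxeterSystem Cfsg Cfsg.Lie Cfsg.Lie.ChevalleyDatum
open Cfsg.Agent.Nodes Cfsg.Agent.Nodes.RGDChev
open Cfsg.Agent.BpExc Cfsg.Agent.BpExc.TorCent Cfsg.Agent.BpExc.TorChev Cfsg.Agent.BpExc.Tow
  Cfsg.Agent.BpExc.TowChev Cfsg.Agent.BpExc.Fr Cfsg.Agent.BpExc.LangFr
open Cfsg.Agent.H469.Exc Cfsg.Agent.H129.TorusChar Cfsg.Agent.DS.Ex Cfsg.Agent.DS.Nt
open Cfsg.Agent.H316.U6 (MData mdata_untw' mdata_twE6' mdata_twD4')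

universe u

/-- the boxes which the rows of case I need -/
structure BoxesI : Prop where
  red : BoxRED.{u}
  ta : BoxTA
  tr : BoxTR
  cov : BoxCovI
  six : ∀ (r : ℕ) [Fact r.Prime], r ≠ 3 → Main6 r

theorem mem_of_cop {Y : Type*} [Group Y] {H : Subgroup Y} {y : Y} {m n : ℕ} (hmn : m.Coprime n) (hn : y ^ n = 1)
    (hm : y ^ m ∈ H) : y ∈ H := by
  obtain ⟨e, he⟩ := exists_pow_eq_self_of_coprime (x := y) (hmn.coprime_dvd_right (orderOf_dvd_of_pow_eq_one hn))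
  rw [← he]
  exact pow_mem hm e

theorem BoxesI.brow (H : BoxesI.{u}) {D : ChevalleyDatum} {l : ℕ} {M : CoxeterMatrix (Fin l)} {hp : IsType D l M}
    {r q : ℕ} [Fact r.Prime] {S : Type} [Group S] (m : MData hp r q S) {p : ℕ} [Fact p.Prime] (hp2 : p ≠ 2)
    (hpr : p ≠ r) {A : Type} [CommGroup A] (hA : HasSchurMultiplier S A) (hpA : ¬ p ∣ Nat.card A)
    (hW : p ∣ Nat.card M.Group → PairI D p) (hdd : q = 2 → p = 3 → m.dd = 1)
    (hc : 6 ≤ l → p = 3 → Nat.card A = 1 ∨ (Nat.card A ∣ 2 ∧ r ≠ 2)) : Nil.BRow.{u} p S := by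
  intro G _ _ σ hG hσ hk Mx hM B hB Dg hD
  obtain ⟨X, _, _, ρ, c, Q, -, hρ, -, hpk, -, hcA, hL, hQ⟩ := H.red p S G σ hG hσ hk Mx hM B hB Dg hD
  refine hQ ?_
  have hρi : Function.Injective ρ := by
    rw [← MonoidHom.ker_eq_bot_iff, ← Subgroup.card_eq_one]
    obtain ⟨k, hk⟩ := IsPGroup.iff_card.1 hpk
    rcases k with _ | k
    · rw [hk, pow_zero]
    · exact absurd ((hk ▸ dvd_pow_self p k.succ_ne_zero : p ∣ Nat.card ρ.ker).trans
        ((Dvd.intro_left c rfl).trans (hcA A hA))) hpA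
  let π : X →* YY D r := m.ι.comp ρ
  have hπ : Function.Injective π := m.inj.comp hρi
  have hr : ∀ y, y ∈ m.ι.range → y ∈ π.range := by
    rintro _ ⟨s, rfl⟩
    obtain ⟨x, rfl⟩ := hρ s
    exact ⟨x, rfl⟩
  have key : (∀ x ∈ Q, ∀ y ∈ Q, π x * π y = π y * π x) → IsMulCommutative Q := fun h =>
    ⟨⟨fun a b => Subtype.ext (hπ (by
      rw [Subgroup.coe_mul, Subgroup.coe_mul, map_mul, map_mul]; exact h a a.2 b b.2))⟩⟩
  refine key ?_
  by_cases hpW : p ∣ Nat.card M.Group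
  · have e1 : ∀ y : π.range, π ((MonoidHom.ofInjective hπ).symm y) = y := fun y =>
      MonoidHom.apply_ofInjective_symm hπ y
    let G' : GS hp p c (MonoidHom.id (YY D r)) X Q :=
      { e := m.e, σ := m.σ, g := m.g, σL := m.σ, π := π, L0 := π.range
        ψ := (MonoidHom.ofInjective hπ).symm.toMonoidHom
        he := m.he, frob := m.frob, fr := m.fr, lift := fun _ => rfl, fixπ := fun x => m.fix (ρ x)
        fixL := by rintro _ ⟨x, rfl⟩; exact m.fix (ρ x)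
        πψ := e1
        eqv := by
          rintro x y rfl v
          refine ⟨mul_mem (mul_mem ⟨x, rfl⟩ v.2) (inv_mem ⟨x, rfl⟩), hπ ?_⟩
          rw [map_mul, map_mul, map_inv]
          exact (e1 _).trans (by rw [show π ((MonoidHom.ofInjective hπ).symm.toMonoidHom v) = v from e1 v])
        rel := by
          rintro y hy ⟨n, hn⟩
          obtain ⟨k, hk1, hk2⟩ := m.idx y hy
          exact hr y (mem_of_cop (hk1.pow_right n) hn hk2)
        full2 := fun h2 h3 y hy => hr y (by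
          have := m.pow_dd y hy
          rwa [hdd (m.hq ▸ h2) h3, pow_one] at this)
        hc := fun h6 h3 => by
          have hcd : c ∣ Nat.card A := (Dvd.intro _ rfl).trans (hcA A hA)
          rcases hc h6 h3 with h | h
          · exact Or.inl (Nat.dvd_one.1 (h ▸ hcd))
          · exact Or.inr (Or.inl ⟨hcd.trans h.1, h.2⟩)
        fin := inferInstance, loc := hL }
    exact fun x hx y hy => mainI H.ta H.tr (H.six r) hp2 hpr (H.cov D l M hp r p (hW hpW) hpr) G' hπ _ ⟨x, hx, rfl⟩ _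
      ⟨y, hy, rfl⟩
  · have : Finite (Q.map π) := Finite.of_surjective _ (π.subgroupMap_surjective Q)
    obtain ⟨g, hg⟩ := H795.TorSub.exists_toral_of_not_dvd hp r (locFin r) Fact.out hpr hpW (hL.pg.map π)
    intro x hx y hy
    have h1 := T_comm hp (hg _ ⟨x, hx, rfl⟩) (hg _ ⟨y, hy, rfl⟩)
    calc π x * π y = g⁻¹ * (g * π x * g⁻¹ * (g * π y * g⁻¹)) * g := by group
      _ = _ := by rw [h1]; group

theorem exists_char (F : Type) [Field F] [Fintype F] {p : ℕ} (hF : (p : F) ≠ 0) :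
    ∃ r : ℕ, r.Prime ∧ CharP F r ∧ p ≠ r ∧ r ∣ Fintype.card F := by
  obtain ⟨r, hr⟩ := CharP.exists F
  obtain ⟨n, h1, h2⟩ := FiniteField.card F r
  exact ⟨r, h1, hr, fun h => hF (h ▸ CharP.cast_eq_zero F r), h2 ▸ dvd_pow_self r n.ne_zero⟩

theorem eq_of_dvd {p : ℕ} (hp : p.Prime) (hp2 : p ≠ 2) {a b c d : ℕ} (h : p ∣ 2 ^ a * 3 ^ b * 5 ^ c * 7 ^ d) :
    (p = 3 ∧ b ≠ 0) ∨ (p = 5 ∧ c ≠ 0) ∨ (p = 7 ∧ d ≠ 0) := by
  have k : ∀ {s n : ℕ}, s.Prime → p ∣ s ^ n → p = s ∧ n ≠ 0 := fun {s n} hs h =>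
    ⟨(Nat.prime_dvd_prime_iff_eq hp hs).1 (hp.dvd_of_dvd_pow h), fun h0 => hp.one_lt.ne' (by
      rwa [h0, pow_zero, Nat.dvd_one] at h)⟩
  rcases (Nat.Prime.dvd_mul hp).1 h with h | h
  · rcases (Nat.Prime.dvd_mul hp).1 h with h | h
    · rcases (Nat.Prime.dvd_mul hp).1 h with h | h
      · exact absurd (k Nat.prime_two h).1 hp2
      · exact Or.inl (k Nat.prime_three h)
    · exact Or.inr (Or.inl (k Nat.prime_five h))
  · exact Or.inr (Or.inr (k (by norm_num) h))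

theorem three_of_dvd {p : ℕ} (hp : p.Prime) (hp2 : p ≠ 2) {a b : ℕ} (h : p ∣ 2 ^ a * 3 ^ b) : p = 3 := by
  rcases eq_of_dvd hp hp2 (a := a) (b := b) (c := 0) (d := 0) (by simpa using h) with h | h | h
  exacts [h.1, absurd rfl h.2, absurd rfl h.2]

theorem not_dvd_of {p n a : ℕ} (hp : p.Prime) (hp2 : p ≠ 2) (h : n ∣ 2 ^ a) : ¬ p ∣ n := fun h1 =>
  hp2 ((Nat.prime_dvd_prime_iff_eq hp Nat.prime_two).1 (hp.dvd_of_dvd_pow (h1.trans h)))

theorem not_dvd_of' {p n a : ℕ} (hp : p.Prime) (hp2 : p ≠ 2) (hp3 : p ≠ 3) (h : n ∣ 2 ^ a * 3 ^ 1) : ¬ p ∣ n :=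
  fun h1 => hp3 (three_of_dvd hp hp2 (h1.trans h))

theorem card_mz (n : ℕ) : Nat.card (Multiplicative (ZMod n)) = n := by
  rw [Nat.card_congr Multiplicative.toAdd, Nat.card_zmod]

theorem pair6 {p : ℕ} (hp : p.Prime) (hp2 : p ≠ 2) (hp3 : p ≠ 3) (h : p ∣ Nat.card CoxeterMatrix.E₆.Group) :
    PairI chevE6 p := by
  rw [H566.WeylST.card_E6] at h
  rcases eq_of_dvd hp hp2 (a := 7) (b := 4) (c := 1) (d := 0) h with h | h | h
  · exact absurd h.1 hp3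
  · exact Or.inr (Or.inr (Or.inr (Or.inl ⟨rfl, h.1⟩)))
  · exact absurd rfl h.2

theorem BoxesI.g2 (H : BoxesI.{u}) : Nil.RowFor.{u} (fun p S _ => ∃ (F : Type) (_ : Field F) (_ : Fintype F),
    (p : F) ≠ 0 ∧ 3 ≤ Fintype.card F ∧ Nonempty (S ≃* Lie.chevG2.group F)) := by
  rintro p hpp hp2 S _ _ _ - ⟨F, _, _, hF, h3, ⟨e⟩⟩
  obtain ⟨r, hr, _, hpr, hrd⟩ := exists_char F hF
  have : Fact r.Prime := ⟨hr⟩
  have hp : IsType chevG2 2 CoxeterMatrix.G₂ := by simp [IsType, typeList]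
  obtain ⟨m, -, -⟩ := mdata_untw' (r := r) hp F invC_G2 one_ne_zero (Or.inl rfl)
  have key : ∀ n : ℕ, HasCyclicSchurMultiplier (Lie.chevG2.group F) n → ¬ p ∣ n → Nil.BRow.{u} p S := fun n h1 h2 =>
    Nil.BRow.of_equiv e (H.brow m hp2 hpr h1 (by rwa [card_mz]) (fun h => by
      rw [show Nat.card CoxeterMatrix.G₂.Group = 12 from S1092.result (⟨2, CoxeterMatrix.G₂⟩, 12) (by simp)] at h
      exact Or.inl ⟨rfl, three_of_dvd hpp.out hp2 (a := 2) (b := 1) h⟩) (fun h => by omega) fun h => by omega)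
  by_cases h4 : Fintype.card F = 3
  · refine key 3 (S2101.result h4) fun h => hpr ?_
    rw [h4] at hrd
    exact ((Nat.prime_dvd_prime_iff_eq hpp.out Nat.prime_three).1 h).trans
      ((Nat.prime_dvd_prime_iff_eq hr Nat.prime_three).1 hrd).symm
  by_cases h5 : Fintype.card F = 4
  · exact key 2 (S2102.result h5) (not_dvd_of hpp.out hp2 (a := 1) dvd_rfl)
  · exact key 1 (S2100.result (by omega)) hpp.out.not_dvd_one

theorem BoxesI.f4 (H : BoxesI.{u}) : Nil.RowFor.{u} (fun p S _ => ∃ (F : Type) (_ : Field F) (_ : Fintype F),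
    (p : F) ≠ 0 ∧ Nonempty (S ≃* Lie.chevF4.group F)) := by
  rintro p hpp hp2 S _ _ _ - ⟨F, _, _, hF, ⟨e⟩⟩
  obtain ⟨r, hr, _, hpr, -⟩ := exists_char F hF
  have : Fact r.Prime := ⟨hr⟩
  obtain ⟨m, hm, -⟩ := mdata_untw' (r := r) hpF4 F invC_F4 one_ne_zero (Or.inl rfl)
  have key : ∀ n : ℕ, HasCyclicSchurMultiplier (Lie.chevF4.group F) n → ¬ p ∣ n → Nil.BRow.{u} p S := fun n h1 h2 =>
    Nil.BRow.of_equiv e (H.brow m hp2 hpr h1 (by rwa [card_mz]) (fun h => by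
      rw [show Nat.card CoxeterMatrix.F₄.Group = 1152 from S1092.result (⟨4, CoxeterMatrix.F₄⟩, 1152) (by simp)] at h
      exact Or.inr (Or.inr (Or.inl ⟨rfl, three_of_dvd hpp.out hp2 (a := 7) (b := 2) h⟩)))
      (fun _ _ => hm.trans (Nat.gcd_one_left _)) fun h => by omega)
  by_cases h4 : Fintype.card F = 2
  · exact key 2 (S2104.result h4) (not_dvd_of hpp.out hp2 (a := 1) dvd_rfl)
  · have := Fintype.one_lt_card (α := F)
    exact key 1 (S2103.result (by omega)) hpp.out.not_dvd_one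

theorem BoxesI.e6 (H : BoxesI.{u}) (H6 : BoxRow6.{u}) : Nil.RowFor.{u} (fun p S _ => ∃ (F : Type) (_ : Field F)
    (_ : Fintype F), (p : F) ≠ 0 ∧ Nonempty (S ≃* Lie.chevE6.group F)) := by
  rintro p hpp hp2 S _ _ _ hS ⟨F, _, _, hF, ⟨e⟩⟩
  by_cases hp3 : p = 3
  · exact H6.1 p hp2 S hS ⟨hp3, F, inferInstance, inferInstance, hF, ⟨e⟩⟩
  obtain ⟨r, hr, _, hpr, -⟩ := exists_char F hF
  have : Fact r.Prime := ⟨hr⟩
  obtain ⟨m, -, -⟩ := mdata_untw' (r := r) hpE6 F invC_E6 (by norm_num) (Or.inr Nat.prime_three)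
  exact Nil.BRow.of_equiv e (H.brow m hp2 hpr (S2105.result rfl) (by
    rw [card_mz]; exact not_dvd_of' hpp.out hp2 hp3 (a := 0) (Nat.gcd_dvd_left _ _)) (pair6 hpp.out hp2 hp3)
    (fun _ h => absurd h hp3) fun _ h => absurd h hp3)

theorem BoxesI.e7 (H : BoxesI.{u}) : Nil.RowFor.{u} (fun p S _ => ∃ (F : Type) (_ : Field F) (_ : Fintype F),
    (p : F) ≠ 0 ∧ Nonempty (S ≃* Lie.chevE7.group F)) := by
  rintro p hpp hp2 S _ _ _ - ⟨F, _, _, hF, ⟨e⟩⟩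
  obtain ⟨r, hr, _, hpr, hrd⟩ := exists_char F hF
  have : Fact r.Prime := ⟨hr⟩
  obtain ⟨m, hm, -⟩ := mdata_untw' (r := r) hpE7 F invC_E7 (by norm_num) (Or.inr Nat.prime_two)
  refine Nil.BRow.of_equiv e (H.brow m hp2 hpr (S2106.result rfl) (by
    rw [card_mz]; exact not_dvd_of hpp.out hp2 (a := 1) (Nat.gcd_dvd_left _ _)) (fun h => ?_)
    (fun h _ => by rw [hm, h]; rfl) fun _ _ => ?_)
  · rw [H566.WeylST.card_E7] at h
    refine Or.inr (Or.inr (Or.inr (Or.inr ⟨Or.inl rfl, ?_⟩)))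
    exact (eq_of_dvd hpp.out hp2 (a := 10) (b := 4) (c := 1) (d := 1) h).imp And.left (Or.imp And.left And.left)
  · rw [card_mz]
    by_cases h2 : r = 2
    · subst h2
      have := Fintype.one_lt_card (α := F)
      exact Or.inl (Nat.coprime_two_left.2 (Nat.odd_iff.2 (by omega)))
    · exact Or.inr ⟨Nat.gcd_dvd_left _ _, h2⟩

theorem BoxesI.e8 (H : BoxesI.{u}) : Nil.RowFor.{u} (fun p S _ => ∃ (F : Type) (_ : Field F) (_ : Fintype F),
    (p : F) ≠ 0 ∧ Nonempty (S ≃* Lie.chevE8.group F)) := by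
  rintro p hpp hp2 S _ _ _ - ⟨F, _, _, hF, ⟨e⟩⟩
  obtain ⟨r, hr, _, hpr, -⟩ := exists_char F hF
  have : Fact r.Prime := ⟨hr⟩
  obtain ⟨m, hm, -⟩ := mdata_untw' (r := r) hpE8 F invC_E8 one_ne_zero (Or.inl rfl)
  refine Nil.BRow.of_equiv e (H.brow m hp2 hpr S2107.result (by rw [card_mz]; exact hpp.out.not_dvd_one) (fun h => ?_)
    (fun _ _ => hm.trans (Nat.gcd_one_left _)) fun _ _ => Or.inl (card_mz 1))
  rw [H566.WeylST.card_E8] at h
  refine Or.inr (Or.inr (Or.inr (Or.inr ⟨Or.inr rfl, ?_⟩)))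
  exact (eq_of_dvd hpp.out hp2 (a := 14) (b := 5) (c := 2) (d := 1) h).imp And.left (Or.imp And.left And.left)

theorem BoxesI.te6 (H : BoxesI.{u}) (H6 : BoxRow6.{u}) : Nil.RowFor.{u} (fun p S _ => ∃ (K : Type) (_ : Field K)
    (_ : Fintype K) (q : ℕ), (p : K) ≠ 0 ∧ IsPrimePow q ∧ Fintype.card K = q ^ 2 ∧
      Nonempty (S ≃* Lie.twistedE6 K q)) := by
  rintro p hpp hp2 S _ _ _ hS ⟨K, _, _, q, hF, hq, hK, ⟨e⟩⟩
  by_cases hp3 : p = 3
  · exact H6.2 p hp2 S hS ⟨hp3, K, inferInstance, inferInstance, q, hF, hq, hK, ⟨e⟩⟩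
  obtain ⟨r, hr, _, hpr, -⟩ := exists_char K hF
  have : Fact r.Prime := ⟨hr⟩
  obtain ⟨m, -, -⟩ := mdata_twE6' (r := r) hq hK
  refine Nil.BRow.of_equiv e ?_
  by_cases h2 : q = 2
  · subst h2
    refine H.brow m hp2 hpr (S2109.result hK) (not_dvd_of' hpp.out hp2 hp3 (a := 2) ?_) (pair6 hpp.out hp2 hp3)
      (fun _ h => absurd h hp3) fun _ h => absurd h hp3
    rw [Nat.card_congr Multiplicative.toAdd, Nat.card_prod, Nat.card_prod, Nat.card_zmod, Nat.card_zmod]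
    norm_num
  · exact H.brow m hp2 hpr (S2108.result hq hK h2) (by
      rw [card_mz]; exact not_dvd_of' hpp.out hp2 hp3 (a := 0) (Nat.gcd_dvd_left _ _)) (pair6 hpp.out hp2 hp3)
      (fun _ h => absurd h hp3) fun _ h => absurd h hp3

theorem BoxesI.td4 (H : BoxesI.{u}) : Nil.RowFor.{u} (fun p S _ => ∃ (K : Type) (_ : Field K) (_ : Fintype K)
    (q : ℕ), (p : K) ≠ 0 ∧ IsPrimePow q ∧ Fintype.card K = q ^ 3 ∧ Nonempty (S ≃* Lie.twistedD4 K q)) := by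
  rintro p hpp hp2 S _ _ _ - ⟨K, _, _, q, hF, hq, hK, ⟨e⟩⟩
  obtain ⟨r, hr, _, hpr, -⟩ := exists_char K hF
  have : Fact r.Prime := ⟨hr⟩
  obtain ⟨m, hm, -⟩ := mdata_twD4' (r := r) hq hK
  refine Nil.BRow.of_equiv e (H.brow m hp2 hpr (S2110.result hq hK) (by rw [card_mz]; exact hpp.out.not_dvd_one)
    (fun h => ?_) (fun _ _ => hm) fun h => by omega)
  rw [show Nat.card coxeterD4.Group = 192 from S1092.result (⟨4, coxeterD4⟩, 192) (by simp)] at h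
  exact Or.inr (Or.inl ⟨rfl, three_of_dvd hpp.out hp2 (a := 6) (b := 1) h⟩)

end Cfsg.Agent.BHZ.Exc
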