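import Cfsg.Agent.BHZ.Exc.Tools
import Cfsg.Agent.BHZ.Exc.TAI

/-!
# S4806, box TA: the geometric half
-/

set_option autoImplicit false

namespace Cfsg.Agent.BHZ.Exc

open CoxeterSystem Cfsg Cfsg.Lie Cfsg.Lie.ChevalleyDatum
open Cfsg.Agent.ChevalleyStructure Cfsg.Agent.ChevalleyStructure.Elts Cfsg.Agent.ChevalleyStructure.CoxeterGeom
  Cfsg.Agent.ChevalleyStructure.CoxeterGeomTypes
open Cfsg.Agent.Tits.Roots Cfsg.Agent.Tits.Core Cfsg.Agent.Nodes Cfsg.Agent.Nodes.Reps Cfsg.Agent.Nodes.BNOf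
  Cfsg.Agent.Nodes.RGDChev Cfsg.Agent.Nodes.Bruhat
open Cfsg.Agent.KFacts.RgdField Cfsg.Agent.KFacts.RgdChevCoord
open Cfsg.Agent.BpExc Cfsg.Agent.BpExc.TorCent Cfsg.Agent.BpExc.TorChev Cfsg.Agent.BpExc.Tow
  Cfsg.Agent.BpExc.TowChev Cfsg.Agent.BpExc.Fr Cfsg.Agent.BpExc.LangFr
open Cfsg.Agent.H469.Exc Cfsg.Agent.H795.SetCent Cfsg.Agent.H129.TorusChar Cfsg.Agent.DS.Ex Cfsg.Agent.DS.Nt
open Cfsg.Agent.H46.Gen (AFr Rt xf rt_iff not_rt_zero not_rt_two)
open Cfsg.Agent.H321.Ker (stG stm sc toGL_cj toGL_inj' sc_comm stG_eq_sc fix_gen)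
open Cfsg.Agent.H321.Mono (fm_sigma comm_stm scalar_of_psi)
open scoped MatrixGroups
open Matrix.SpecialLinearGroup (transvection toGL)

namespace TA

section Norm

variable {S L : Type*} [Group S] [Group L] (α : MulAut L) (A : S →* L)

/-- the product of the first `k` conjugates -/
def nm : ℕ → S → L
  | 0, _ => 1
  | k + 1, m => nm k m * (α ^ k) (A m)

variable {α A}

theorem nm_mem {H : Subgroup L} {k : ℕ} {m : S} (h : ∀ i < k, (α ^ i) (A m) ∈ H) : nm α A k m ∈ H := by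
  induction k with
  | zero => exact one_mem H
  | succ k ih => exact mul_mem (ih fun i hi => h i (by omega)) (h k (by omega))

theorem nm_comm {x : L} {k : ℕ} {m : S} (h : ∀ i < k, x * (α ^ i) (A m) = (α ^ i) (A m) * x) :
    x * nm α A k m = nm α A k m * x :=
  (Subgroup.mem_centralizer_singleton_iff.1 (nm_mem (H := Subgroup.centralizer {x})
    fun i hi => Subgroup.mem_centralizer_singleton_iff.2 (h i hi).symm)).symm

theorem nm_succ' (k : ℕ) (m : S) : nm α A (k + 1) m = A m * α (nm α A k m) := by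
  induction k with
  | zero => simp [nm]
  | succ k ih =>
    show nm α A (k + 1) m * (α ^ (k + 1)) (A m) = A m * α (nm α A k m * (α ^ k) (A m))
    rw [ih, map_mul, pow_succ', MulAut.mul_apply, mul_assoc]

theorem nm_conj {y : L} {k : ℕ} {m m' : S} (h : ∀ i < k, y * (α ^ i) (A m) * y⁻¹ = (α ^ i) (A m')) :
    y * nm α A k m * y⁻¹ = nm α A k m' := by
  induction k with
  | zero => simp [nm]
  | succ k ih =>
    show y * (nm α A k m * (α ^ k) (A m)) * y⁻¹ = nm α A k m' * (α ^ k) (A m')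
    rw [← ih fun i hi => h i (by omega), ← h k (by omega)]
    group

variable {f : ℕ} (hc : ∀ i, 0 < i → i < f → ∀ m m', A m * (α ^ i) (A m') = (α ^ i) (A m') * A m)

include hc

theorem comm_ij {i j : ℕ} (hij : i < j) (hj : j < f) (m m' : S) :
    (α ^ j) (A m') * (α ^ i) (A m) = (α ^ i) (A m) * (α ^ j) (A m') := by
  obtain ⟨d, rfl⟩ := Nat.exists_eq_add_of_lt hij
  rw [add_assoc, pow_add, MulAut.mul_apply, ← map_mul, ← map_mul, hc (d + 1) (by omega) (by omega)]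

theorem nm_mul {k : ℕ} (hk : k ≤ f) (m m' : S) : nm α A k (m * m') = nm α A k m * nm α A k m' := by
  induction k with
  | zero => simp [nm]
  | succ k ih =>
    show nm α A k (m * m') * (α ^ k) (A (m * m')) = nm α A k m * (α ^ k) (A m) * (nm α A k m' * (α ^ k) (A m'))
    have h1 : (α ^ k) (A m) * nm α A k m' = nm α A k m' * (α ^ k) (A m) :=
      nm_comm fun i hi => comm_ij hc hi (by omega) m' m
    rw [ih (by omega), map_mul, map_mul, mul_assoc (nm α A k m) ((α ^ k) (A m)), ← mul_assoc ((α ^ k) (A m)), h1]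
    group

/-- the norm map -/
def nmH : S →* L := MonoidHom.mk' (nm α A f) (nm_mul hc le_rfl)

theorem nm_fix {m : S} (h : (α ^ f) (A m) = A m) : α (nm α A f m) = nm α A f m := by
  have h1 : A m * nm α A f m = nm α A f m * A m := nm_comm fun i hi => by
    rcases Nat.eq_zero_or_pos i with rfl | h0
    · rw [pow_zero, MulAut.one_apply]
    · exact hc i h0 hi m m
  have h2 : nm α A f m * (α ^ f) (A m) = A m * α (nm α A f m) := nm_succ' f m
  rw [h, ← h1] at h2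
  exact (mul_left_cancel h2).symm

theorem nm_act (hf : 0 < f) (m u : S) : nm α A f m * A u * (nm α A f m)⁻¹ = A (m * u * m⁻¹) := by
  obtain ⟨k, rfl⟩ := Nat.exists_eq_add_one_of_ne_zero hf.ne'
  have h1 : α⁻¹ (A u) * nm α A k m = nm α A k m * α⁻¹ (A u) := nm_comm fun i hi => α.injective (by
    rw [map_mul, map_mul, MulAut.apply_inv_self, ← MulAut.mul_apply, ← pow_succ']
    exact hc (i + 1) (by omega) (by omega) u m)
  have h2 := congrArg α h1
  rw [map_mul, map_mul, MulAut.apply_inv_self] at h2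
  rw [nm_succ', map_mul, map_mul, map_inv, mul_assoc (A m), ← h2]
  group

end Norm

section Comb

variable {D : ChevalleyDatum} {l : ℕ} {M : CoxeterMatrix (Fin l)} (hp : IsType D l M) {n : ℕ}
  {ev : Fin (n + 1) → Fin l → ℤ} (hev : AFr D l ev)

include hp hev

theorem sum_rt {i j p q : Fin (n + 1)} (hij : i ≠ j) (hpq : p ≠ q) (h : Rt D l (ev i - ev j + (ev p - ev q))) :
    j = p ∨ i = q := by
  by_contra h0
  rw [not_or] at h0
  by_cases h1 : i = p
  · subst h1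
    by_cases h2 : j = q
    · subst h2
      rw [← two_smul ℤ] at h
      exact not_rt_two hp (hev.rt i j hij) h
    · refine (hev.pr j i q hij.symm hpq h2).nd ?_
      rwa [show ev i - ev q - (ev j - ev i) = ev i - ev j + (ev i - ev q) by abel]
  by_cases h2 : j = q
  · subst h2
    refine (hev.pr i j p hij h0.1 h1).nd ?_
    rw [show ev j - ev p - (ev i - ev j) = -(ev i - ev j + (ev p - ev j)) by abel]
    exact h.neg hp
  · refine (hev.comm i j p q hij hpq h0.1 h0.2 h1 h2).2 1 1 one_pos one_pos ?_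
    rwa [Nat.cast_one, one_smul, one_smul]

/-- an automorphism of the frame is a permutation up to sign -/
theorem exists_perm (γ : (Fin l → ℤ) ≃+ (Fin l → ℤ)) (hγ : ∀ a, Rt D l a → Rt D l (γ a))
    (h : ∀ a ∈ Rts ev, γ a ∈ Rts ev) : ∃ π : Equiv.Perm (Fin (n + 1)),
      (∀ i j, i ≠ j → γ (ev i - ev j) = ev (π i) - ev (π j)) ∨
        ∀ i j, i ≠ j → γ (ev i - ev j) = ev (π j) - ev (π i) := by
  have h1 : ∀ j : Fin (n + 1), ∃ s t, j ≠ 0 → s ≠ t ∧ γ (ev 0 - ev j) = ev s - ev t := fun j => by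
    by_cases hj : j = 0
    · exact ⟨0, 0, fun h0 => absurd hj h0⟩
    · obtain ⟨s, t, h2, h3⟩ := h _ ⟨0, j, Ne.symm hj, rfl⟩
      exact ⟨s, t, fun _ => ⟨h2, h3⟩⟩
  choose s t hst using h1
  have e : ∀ i j, γ (ev i - ev j) = γ (ev 0 - ev j) - γ (ev 0 - ev i) := fun i j => by
    rw [← map_sub, sub_sub_sub_cancel_left]
  have h2 : ∀ j k, j ≠ 0 → k ≠ 0 → j ≠ k → t j = t k ∨ s j = s k := fun j k hj hk hjk =>
    sum_rt hp hev (hst j hj).1 (hst k hk).1.symm (by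
      have := hγ _ (hev.rt k j hjk.symm)
      rwa [e, (hst j hj).2, (hst k hk).2, sub_eq_add_neg, neg_sub] at this)
  have h3 : ∀ j k, j ≠ 0 → k ≠ 0 → s j = s k → t j = t k → j = k := fun j k hj hk h4 h5 => by
    by_contra hjk
    have := hγ _ (hev.rt k j (Ne.symm hjk))
    rw [e, (hst j hj).2, (hst k hk).2, h4, h5, sub_self] at this
    exact not_rt_zero hp this
  have mk : ∀ (u w : Fin (n + 1) → Fin (n + 1)) (c : Fin (n + 1)), (∀ j, j ≠ 0 → u j = c) → (∀ j, j ≠ 0 → u j ≠ w j) →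
      (∀ j k, j ≠ 0 → k ≠ 0 → u j = u k → w j = w k → j = k) →
      ∃ π : Equiv.Perm (Fin (n + 1)), π 0 = c ∧ ∀ j, j ≠ 0 → π j = w j := by
    intro u w c a1 a2 a3
    have hi : Function.Injective fun j => if j = 0 then c else w j := fun j k hjk => by
      by_cases hj : j = 0 <;> by_cases hk : k = 0 <;> simp only [hj, hk, if_true, if_false] at hjk
      · rw [hj, hk]
      · exact absurd ((a1 k hk).trans hjk) (a2 k hk)
      · exact absurd ((a1 j hj).trans hjk.symm) (a2 j hj)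
      · exact a3 j k hj hk ((a1 j hj).trans (a1 k hk).symm) hjk
    exact ⟨Equiv.ofBijective _ (Finite.injective_iff_bijective.1 hi), by simp, fun j hj => if_neg hj⟩
  by_cases hs : ∃ c, ∀ j, j ≠ 0 → s j = c
  · obtain ⟨c, hc⟩ := hs
    obtain ⟨π, p0, p1⟩ := mk s t c hc (fun j hj => (hst j hj).1) h3
    have h4 : ∀ j, γ (ev 0 - ev j) = ev c - ev (π j) := fun j => by
      by_cases hj : j = 0
      · rw [hj, p0, sub_self, sub_self, map_zero]
      · rw [(hst j hj).2, p1 j hj, hc j hj]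
    exact ⟨π, Or.inl fun i j _ => by rw [e, h4, h4, sub_sub_sub_cancel_left]⟩
  · push Not at hs
    obtain ⟨j, hj, -⟩ := hs 0
    obtain ⟨k, hk, hkj⟩ := hs (s j)
    have hjk : k ≠ j := fun h0 => hkj (by rw [h0])
    have h5 : t k = t j := (h2 k j hk hj hjk).resolve_right hkj
    have hc : ∀ m, m ≠ 0 → t m = t j := fun m hm => by
      by_contra h0
      have a1 : m ≠ j := fun h6 => h0 (by rw [h6])
      have a2 : m ≠ k := fun h6 => h0 (by rw [h6, h5])
      exact hkj (((h2 m k hm hk a2).resolve_left fun h6 => h0 (h6.trans h5)).symm.trans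
        ((h2 m j hm hj a1).resolve_left h0))
    obtain ⟨π, p0, p1⟩ := mk t s (t j) hc (fun j hj => (hst j hj).1.symm) fun j k hj hk a b => h3 j k hj hk b a
    have h4 : ∀ m, γ (ev 0 - ev m) = ev (π m) - ev (t j) := fun m => by
      by_cases hm : m = 0
      · rw [hm, p0, sub_self, sub_self, map_zero]
      · rw [(hst m hm).2, p1 m hm, hc m hm]
    exact ⟨π, Or.inr fun i j _ => by rw [e, h4, h4, sub_sub_sub_cancel_right]⟩

omit hp in
/-- components are connected -/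
theorem Comp.all {S : Set (Fin l → ℤ)} (hC : Comp D l ev S) (γ : (Fin l → ℤ) ≃+ (Fin l → ℤ))
    (hγ : ∀ a, Rt D l a → Rt D l (γ a)) (hS : ∀ a ∈ S, γ a ∈ S) {a : Fin l → ℤ} (ha : a ∈ Rts ev)
    (h : γ a ∈ Rts ev) {b : Fin l → ℤ} (hb : b ∈ Rts ev) : γ b ∈ Rts ev := by
  have st : ∀ i j k, i ≠ j → j ≠ k → γ (ev i - ev j) ∈ Rts ev → γ (ev j - ev k) ∈ Rts ev := by
    intro i j k hij hjk h1
    by_contra h2
    have h3 := hC.2 _ h1 _ (hS _ (hC.1 ⟨j, k, hjk, rfl⟩)) h2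
    by_cases hik : i = k
    · exact h3.1 (by rw [← map_neg, neg_sub, hik])
    · refine h3.2 1 1 one_pos one_pos ?_
      rw [Nat.cast_one, one_smul, one_smul, ← map_add, sub_add_sub_cancel]
      exact hγ _ (hev.rt i k hik)
  obtain ⟨i, j, hij, rfl⟩ := ha
  obtain ⟨k, m, hkm, rfl⟩ := hb
  by_cases hjk : j = k
  · subst hjk
    exact st i j m hij hkm h
  · exact st j k m hjk hkm (st i j k hij hjk h)

end Comb

variable {D : ChevalleyDatum} {l : ℕ} {M : CoxeterMatrix (Fin l)} {hp : IsType D l M} {r : ℕ} [Fact r.Prime]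

theorem finite_Rt (D : ChevalleyDatum) (l : ℕ) : Finite {a : Fin l → ℤ // Rt D l a} :=
  ((Set.finite_lt_nat D.nroots).image (vec D l)).subset fun _ ⟨s, hs, e⟩ => ⟨s, hs, e⟩

theorem exists_period (g : (Fin l → ℤ) ≃+ (Fin l → ℤ)) (hg : ∀ a, Rt D l a → Rt D l (g a)) {a : Fin l → ℤ}
    (ha : Rt D l a) : ∃ f, 0 < f ∧ g^[f] a = a := by
  have := finite_Rt D l
  let g' : {a : Fin l → ℤ // Rt D l a} → {a : Fin l → ℤ // Rt D l a} := fun x => ⟨g x, hg x x.2⟩
  have h1 : Function.Injective g' := fun x y h => Subtype.ext (g.injective (congrArg Subtype.val h))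
  obtain ⟨f, hf, h2⟩ := Function.mem_periodicPts.1 (h1.mem_periodicPts ⟨a, ha⟩)
  have h3 : ∀ (k : ℕ) x, (g'^[k] x).1 = g^[k] x.1 := fun k => by
    induction k with
    | zero => exact fun _ => rfl
    | succ k ih => exact fun x => ih (g' x)
  exact ⟨f, hf, (h3 f ⟨a, ha⟩).symm.trans (congrArg Subtype.val h2)⟩

/-- **The orbit of a component.** -/
theorem exists_orbit {σ : MulAut (YY D r)} {e : ℕ} {g : (Fin l → ℤ) ≃+ (Fin l → ℤ)} (hσ : IsFrob r e σ)
    (F : Fr M.toCoxeterSystem hp.isCartan (TT D (KK r)) (XX D l (KK r)) σ g) {t : YY D r} (ht : t ∈ TT D (KK r))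
    (hσt : σ t = t) {n : ℕ} {ev : Fin (n + 1) → Fin l → ℤ} (hev : AFr D l ev) (hn : 2 ≤ n)
    (hC : Comp D l ev (Ps hp r {t})) {φ : Matrix.SpecialLinearGroup (Fin (n + 1)) (KK r) →* YY D r}
    (hφ : ∀ i j (hij : i ≠ j) s, φ (transvection hij s) = xf hp ev i j s) :
    ∃ f, 0 < f ∧ (∀ i, 0 < i → i < f → ∀ m m', φ m * (σ ^ i) (φ m') = (σ ^ i) (φ m') * φ m) ∧
      (∀ (i : ℕ) m, (σ ^ i) (φ m) ∈ Mz hp r {t}) ∧
      ∃ (Dm : GL (Fin (n + 1)) (KK r)) (uni : Bool), ∀ m, (σ ^ f) (φ m) = φ (stm r (f * e) Dm uni m) := by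
  classical
  choose γ hγ hγ' using F.pow
  have a1 : ∀ i a, Rt D l a → Rt D l (γ i a) := fun i a ha => (rt_iff hp _).2 (((hγ i).root a).2 ((rt_iff hp _).1 ha))
  have a2 : ∀ (i : ℕ), (σ ^ i) t = t := fun i => by
    induction i with
    | zero => rfl
    | succ i ih => rw [pow_succ, MulAut.mul_apply, hσt, ih]
  have a3 : ∀ i, ∀ a ∈ Ps hp r {t}, γ i a ∈ Ps hp r {t} := fun i a ha => (fr_mem_Ps (hγ i) ht (a2 i) a).2 ha
  have h01 : (0 : Fin (n + 1)) ≠ Fin.last n := fun h => by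
    have := congrArg Fin.val h
    rw [Fin.val_last, Fin.val_zero] at this
    omega
  have h0 : ev 0 - ev (Fin.last n) ∈ Rts ev := ⟨_, _, h01, rfl⟩
  have hex : ∃ f, 0 < f ∧ γ f (ev 0 - ev (Fin.last n)) ∈ Rts ev := by
    obtain ⟨f, hf, h⟩ := exists_period g (fun a ha => (rt_iff hp _).2 ((F.root a).2 ((rt_iff hp _).1 ha)))
      (hev.rt _ _ h01)
    exact ⟨f, hf, by rw [hγ', h]; exact h0⟩
  have hR : ∀ a ∈ Rts ev, IsRoot M.toCoxeterSystem hp.isCartan a := fun a ha => Rts_root hp hev ha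
  have hφm : ∀ m, φ m ∈ Mh l (MonoidHom.id (YY D r)) (Rts ev) := fun m => by
    rw [Mh_id hp hR, ← frame_range hev hφ (by omega)]
    exact ⟨m, rfl⟩
  have C : Cov0 1 (MonoidHom.id (YY D r)) := cov0_id 1
  refine ⟨Nat.find hex, (Nat.find_spec hex).1, fun i h1 h2 m m' => ?_, fun i m => ?_, ?_⟩
  · refine Mh_comm hp C (Nat.coprime_one_right r) hR (S' := γ i '' Rts ev) ?_ ?_ (hφm m)
      (fr_Mh hp (hγ i) (σL := σ ^ i) (fun _ => rfl) hR (fun a ha => Set.mem_image_of_mem _ ha) (hφm m'))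
    · rintro _ ⟨a, ha, rfl⟩
      exact ((hγ i).root a).2 (hR a ha)
    · rintro a ha _ ⟨b, hb, rfl⟩
      exact hC.2 a ha _ (a3 i b (hC.1 hb)) fun h =>
        Nat.find_min hex h2 ⟨h1, Comp.all hev hC (γ i) (a1 i) (a3 i) hb h h0⟩
  · exact θ_mem_Sup (θ := MonoidHom.id _)
      (fr_Mh hp (hγ i) (σL := σ ^ i) (fun _ => rfl) hR (fun a ha => a3 i a (hC.1 ha)) (hφm m))
  · obtain ⟨π, hπ⟩ := exists_perm hp hev (γ (Nat.find hex)) (a1 _)
      fun a ha => Comp.all hev hC _ (a1 _) (a3 _) h0 (Nat.find_spec hex).2 ha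
    exact fm_sigma hev hφ (hσ.pow _) (hγ _) hn hπ

end TA

open TA

/-- **[TA]** from its group theoretic half -/
theorem boxTA_of (H : BoxTA2) : BoxTA := by
  intro D l M hp r _ p c _ hp2 hpr L _ θ C X _ Q G a ha ht n ev hev hn hn2 hC φ hφ d hd d' hd' hD hD' h h' hh hh'
  have hr : r.Coprime p := (Nat.coprime_primes (Fact.out : r.Prime) (Fact.out : p.Prime)).2 hpr.symm
  have := G.fin
  obtain ⟨f, hf, hc, hM, Dm, uni, hσ⟩ := exists_orbit G.frob G.fr ht (G.fixπ a) hev hn hC hφ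
  obtain ⟨φ', hφ', hrange⟩ := exists_lift_frame hev hφ C hr hn
  have hne := frame_ne hev hφ (by omega)
  have lf : ∀ (i : ℕ) x, θ ((G.σL ^ i) x) = (G.σ ^ i) (θ x) := fun i => by
    induction i with
    | zero => exact fun _ => rfl
    | succ i ih => intro x; rw [pow_succ, pow_succ, MulAut.mul_apply, MulAut.mul_apply, ih, G.lift]
  have fx : ∀ (i : ℕ) x, (G.σ ^ i) (G.π x) = G.π x := fun i x => by
    induction i with
    | zero => rfl
    | succ i ih => rw [pow_succ, MulAut.mul_apply, G.fixπ, ih]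
  have act : ∀ (y : L) (k : GL (Fin (n + 1)) (KK r)), (∀ m, θ y * φ m * (θ y)⁻¹ = φ (H321.Ker.cj k m)) →
      ∀ m, y * φ' m * y⁻¹ = φ' (H321.Ker.cj k m) := fun y k hk =>
    lift_conj C hn hφ' (MulAut.conj y).toMonoidHom (H321.Ker.cj k).toMonoidHom fun m => by
      show θ (y * φ' m * y⁻¹) = _
      rw [map_mul, map_mul, map_inv, hφ']
      exact hk m
  have cj1 : ∀ m : Matrix.SpecialLinearGroup (Fin (n + 1)) (KK r), H321.Ker.cj (1 : GL (Fin (n + 1)) (KK r)) m = m :=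
    fun m => by rw [map_one, MulAut.one_apply]
  have hc' : ∀ i, 0 < i → i < f → ∀ m m', φ' m * (G.σL ^ i) (φ' m') = (G.σL ^ i) (φ' m') * φ' m :=
    fun i h1 h2 m m' => by
      have h3 := act ((G.σL ^ i) (φ' m')) 1 (fun u => by rw [lf, hφ', ← hc i h1 h2, mul_inv_cancel_right, cj1]) m
      rw [cj1] at h3
      exact (mul_inv_eq_iff_eq_mul.1 h3).symm
  have hσ' : ∀ m, (G.σL ^ f) (φ' m) = φ' (stm r (f * G.e) Dm uni m) :=
    lift_conj C hn hφ' (G.σL ^ f).toMonoidHom _ fun m => by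
      show θ ((G.σL ^ f) (φ' m)) = _
      rw [lf, hφ', hσ]
  have fixN : ∀ m, stm r (f * G.e) Dm uni m = m → G.σL (nmH hc' m) = nmH hc' m := fun m hm =>
    nm_fix hc' (by rw [hσ', hm])
  have hL : ∀ m, stm r (f * G.e) Dm uni m = m → nmH hc' m ∈ G.L0 := fun m hm => by
    by_cases h32 : n + 1 = 3 ∧ r ^ (f * G.e) = 2
    · refine G.full2 ?_ (hn2 (by omega)) _ (fixN m hm)
      have h1 := ((Nat.Prime.pow_eq_iff Nat.prime_two).1 h32.2)
      rw [Nat.eq_one_of_mul_eq_one_left h1.2, pow_one, h1.1]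
    · refine (Subgroup.closure_le (G.L0.comap (nmH hc'))).2 (fun u hu => ?_)
        (fix_gen (by omega) (Nat.mul_pos hf G.he) h32 hm)
      exact G.rel _ (fixN u hu.1) ⟨1, by rw [pow_one, ← map_pow, hu.2, map_one]⟩
  let ν : (stm r (f * G.e) Dm uni).eqLocus (MonoidHom.id _) →* X :=
    G.ψ.comp (((nmH hc').comp (Subgroup.subtype _)).codRestrict G.L0 fun m => hL m m.2)
  have hν : ∀ m, G.π (ν m) = θ (nm G.σL φ' f m) := fun m => G.πψ _
  have amul : ∀ y k y' k', (∀ m, y * φ m * y⁻¹ = φ (H321.Ker.cj k m)) → (∀ m, y' * φ m * y'⁻¹ = φ (H321.Ker.cj k' m)) →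
      ∀ m, y * y' * φ m * (y * y')⁻¹ = φ (H321.Ker.cj (k * k') m) := fun y k y' k' h1 h2 m => by
    rw [map_mul, MulAut.mul_apply, ← h1, ← h2]
    group
  have ainv : ∀ y k, (∀ m, y * φ m * y⁻¹ = φ (H321.Ker.cj k m)) →
      ∀ m, y⁻¹ * φ m * y⁻¹⁻¹ = φ (H321.Ker.cj k⁻¹ m) := fun y k h1 m => by
    have h2 := h1 (H321.Ker.cj k⁻¹ m)
    rw [← MulAut.mul_apply, ← map_mul, mul_inv_cancel, cj1] at h2
    rw [← h2]
    group
  refine H r p c hp2 hpr n (f * G.e) Dm uni X Q G.loc a ha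
    (fun y k => G.π y ∈ DZ hp r {G.π a} ∧ ∀ m, G.π y * φ m * (G.π y)⁻¹ = φ (H321.Ker.cj k m)) ν
    ⟨Nat.mul_pos hf G.he, ⟨T_le_DZ ht, fun m => ?_⟩, fun y k y' k' h1 h2 => ?_, fun y k h1 => ?_,
      fun y k k' h1 h2 => ?_, fun y k z h1 => ⟨h1.1, fun m => ?_⟩, fun y k h1 => ?_, fun m => ?_,
      fun y k m m' h1 h2 => ?_, fun y h1 h2 => ?_⟩ d hd d' hd' h h' ⟨hD, hh⟩ ⟨hD', hh'⟩
  · rw [cj1, comm_DZ ht (fun b hb => ((mem_Ps_one ht).1 hb).2) (y := φ m) (Mz_le_DZ (hM 0 m)), mul_inv_cancel_right]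
  · rw [map_mul]
    exact ⟨mul_mem h1.1 h2.1, amul _ _ _ _ h1.2 h2.2⟩
  · rw [map_inv]
    exact ⟨inv_mem h1.1, ainv _ _ h1.2⟩
  · refine scalar_of_psi (by omega) hne fun m => ?_
    rw [← amul _ _ _ _ (ainv _ _ h1.2) h2.2]
    group
  · rw [h1.2]
    refine congrArg φ (toGL_inj' ?_)
    rw [toGL_cj, toGL_cj, mul_assoc k (sc _ z), sc_comm]
    group
  · exact stG_eq_sc (comm_stm (by omega) hne (σ := (G.σ ^ f).toMonoidHom) hσ (fx f y) h1.2)
  · rw [hν]
    refine ⟨nm_mem (H := (DZ hp r {G.π a}).comap θ) fun i _ => ?_, fun u => ?_⟩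
    · show θ _ ∈ DZ hp r {G.π a}
      rw [lf, hφ']
      exact Mz_le_DZ (hM i _)
    · rw [← hφ', ← map_inv, ← map_mul, ← map_mul, nm_act hc' hf, hφ']
      exact congrArg φ (toGL_inj' (by rw [toGL_cj, map_mul, map_mul, map_inv]))
  · obtain ⟨w, hw⟩ := C.surj (G.π y)
    obtain ⟨h3, h4⟩ := G.eqv y w hw ⟨nmH hc' m, hL m m.2⟩
    refine h4.symm.trans (congrArg G.ψ (Subtype.ext (nm_conj fun i _ => ?_)))
    have h5 := act w k (by rw [hw]; exact h1.2) m
    rw [show H321.Ker.cj k m.1 = m'.1 from toGL_inj' (by rw [toGL_cj, h2])] at h5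
    show w * (G.σL ^ i) (φ' m) * w⁻¹ = (G.σL ^ i) (φ' m')
    rw [← h5, map_mul, map_mul, map_inv]
    exact C.conj_eq (by rw [lf, hw, fx]) _
  · obtain ⟨k, hk⟩ := G.pelt_π ha
    have h3 : G.π y ∈ DZ hp r {G.π a} := mem_DZ_of_coprime (Set.finite_singleton _) (Set.singleton_subset_iff.2 ht)
      Fact.out (fun s hs => ⟨k, hs ▸ hk⟩) (fun s hs => by rw [hs, ← map_mul, ← map_mul, h1])
      ((Nat.Prime.coprime_iff_not_dvd Fact.out).2 h2) (by rw [← map_pow, pow_orderOf_eq_one, map_one])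
    obtain ⟨k', hk'⟩ := exists_cj hev hφ hn hC h3
    exact ⟨k', h3, hk'⟩

end Cfsg.Agent.BHZ.Exc
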