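import Cfsg.Agent.BHZ.Exc.Tools0
import Cfsg.Agent.BHZ.Nil.Cut3

/-!
# S4806, box TA, group theoretic half: the abstract argument
-/

set_option autoImplicit false

namespace Cfsg.Agent.BHZ.Exc.TAG

open Cfsg.Agent.BHZ.Nil
open scoped commutatorElement

section Heis

variable {p : ℕ}

theorem heis_of_injective {H G : Type*} [Group H] [Group G] {f : H →* G} (hf : Function.Injective f)
    {a b z u v : H} (h : Heis p (f a) (f b) (f z) (f u) (f v)) : Heis p a b z u v where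
  ha := hf (by rw [map_pow, h.ha, map_one])
  hb := hf (by rw [map_pow, h.hb, map_one])
  hz := hf (by rw [map_pow, h.hz, map_one])
  hz1 := fun e => h.hz1 (by rw [e, map_one])
  hab := hf (by simpa only [map_mul] using h.hab)
  za := Commute.of_map hf h.za
  zb := Commute.of_map hf h.zb
  zu := Commute.of_map hf h.zu
  zv := Commute.of_map hf h.zv
  ua := hf (by simpa only [map_mul] using h.ua)
  ub := Commute.of_map hf h.ub
  vb := hf (by simpa only [map_mul] using h.vb)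
  va := Commute.of_map hf h.va

/-- every nonabelian `p`-subgroup yields the Heisenberg configuration inside its bicentralizer -/
def HasHeis (p : ℕ) (H : Type*) [Group H] : Prop :=
  ∀ P : Subgroup H, IsPGroup p P → ¬ IsMulCommutative P → ∃ a b z u v : H, Heis p a b z u v ∧
    (∀ h : H, (∀ g ∈ P, g * h = h * g) → h * a = a * h ∧ h * b = b * h) ∧
    ∀ h : H, a * h = h * a → b * h = h * b → ∀ n ∈ Subgroup.closure ({a, b, u, v} : Set H), h * n = n * h

theorem hasHeis_of_cut [hp : Fact p.Prime] {A : Type*} [Ring A] {F : Type*} [Field F] [Algebra F A]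
    {Γ : Subgroup Aˣ} [Finite Γ] (hp2 : p ≠ 2) (hF : (p : F) ≠ 0) (hΓ : CutClosed p F Γ) : HasHeis p Γ := by
  intro P hP hn
  obtain ⟨a, b, c, hcz, hc1, hc, hab⟩ := exists_triple hP hn
  obtain ⟨n, hcard⟩ := hP.exists_card_eq
  let f : P →* Aˣ := Γ.subtype.comp P.subtype
  have hf : Function.Injective f := Γ.subtype_injective.comp P.subtype_injective
  have hΓ' := hΓ.inf_centralizer ((Subgroup.centralizer (P : Set Γ)).map Γ.subtype : Set Aˣ)
  set Γ' := Γ ⊓ Subgroup.centralizer ((Subgroup.centralizer (P : Set Γ)).map Γ.subtype : Set Aˣ)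
  have hm : ∀ d : P, f d ∈ Γ' := fun d => ⟨d.1.2, Subgroup.mem_centralizer_iff.2 (by
    rintro _ ⟨s, hs, rfl⟩
    exact (congrArg Subtype.val (Subgroup.mem_centralizer_iff.1 hs d d.2)).symm)⟩
  have hpw : ∀ d : P, f d ^ p ^ n = 1 := fun d => by
    rw [← map_pow, ← hcard, pow_card_eq_one', map_one]
  obtain ⟨a', b', z, u, v, hh, hle⟩ := exists_heis hp2 hF hΓ' (hm a) (hm b) (hm c)
    (Commute.map (Subgroup.mem_center_iff.1 hcz a).symm f)
    (Commute.map (Subgroup.mem_center_iff.1 hcz b).symm f)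
    (by rw [← map_pow, hc, map_one]) (fun h => hc1 (hf (h.trans (map_one f).symm)))
    (by rw [← map_mul, hab, map_mul, map_mul]) (hpw a) (hpw b)
  have ha := hle (Subgroup.subset_closure (show a' ∈ ({a', b', u, v} : Set Aˣ) by simp))
  have hb := hle (Subgroup.subset_closure (show b' ∈ ({a', b', u, v} : Set Aˣ) by simp))
  have hu := hle (Subgroup.subset_closure (show u ∈ ({a', b', u, v} : Set Aˣ) by simp))
  have hv := hle (Subgroup.subset_closure (show v ∈ ({a', b', u, v} : Set Aˣ) by simp))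
  have hz : z ∈ Γ := by
    rw [hh.z_eq, commutatorElement_def]
    exact mul_mem (mul_mem (mul_mem ha.1.1 hb.1.1) (inv_mem ha.1.1)) (inv_mem hb.1.1)
  refine ⟨⟨a', ha.1.1⟩, ⟨b', hb.1.1⟩, ⟨z, hz⟩, ⟨u, hu.1.1⟩, ⟨v, hv.1.1⟩,
    heis_of_injective Γ.subtype_injective hh, fun h hc => ?_, fun h h1 h2 m hm => ?_⟩
  · have h1 : (h : Aˣ) ∈ (Subgroup.centralizer (P : Set Γ)).map Γ.subtype :=
      ⟨h, Subgroup.mem_centralizer_iff.2 hc, rfl⟩
    exact ⟨Subtype.ext (Subgroup.mem_centralizer_iff.1 ha.1.2 _ h1),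
      Subtype.ext (Subgroup.mem_centralizer_iff.1 hb.1.2 _ h1)⟩
  · have h3 : (h : Aˣ) ∈ Subgroup.centralizer ({a', b'} : Set Aˣ) := by
      refine Subgroup.mem_centralizer_iff.2 ?_
      rintro _ (rfl | rfl)
      exacts [congrArg Subtype.val h1, congrArg Subtype.val h2]
    refine (Subgroup.mem_centralizer_singleton_iff.1
      ((Subgroup.closure_le (Subgroup.centralizer {h})).2 ?_ hm)).symm
    rintro _ (rfl | rfl | rfl | rfl)
    exacts [Subgroup.mem_centralizer_singleton_iff.2 h1, Subgroup.mem_centralizer_singleton_iff.2 h2,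
      Subgroup.mem_centralizer_singleton_iff.2 (Subtype.ext (Subgroup.mem_centralizer_iff.1 hu.2 _ h3).symm),
      Subgroup.mem_centralizer_singleton_iff.2 (Subtype.ext (Subgroup.mem_centralizer_iff.1 hv.2 _ h3).symm)]

end Heis

section Core

variable {p c : ℕ} {H W S : Type*} {X : Type} [Group H] [Group W] [Group S] [Group X]

/-- the abstract datum -/
structure Dat (p : ℕ) (π : H →* W) (ι : S →* H) (ν : S →* X) (a : X) (Act : X → H → Prop) : Prop where
  surj : Function.Surjective π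
  cent : π.ker ≤ Subgroup.center H
  inj : Function.Injective ι
  der : ∀ N : Subgroup H, ⁅N, N⁆ ≤ ι.range
  one : Act a 1
  mul : ∀ {y h y' h'}, Act y h → Act y' h' → Act (y * y') (h * h')
  inv : ∀ {y h}, Act y h → Act y⁻¹ h⁻¹
  uniq : ∀ {y h h'}, Act y h → Act y h' → π h = π h'
  smul : ∀ {y h h'}, Act y h → π h = π h' → Act y h'
  self : ∀ m, Act (ν m) (ι m)
  conj : ∀ {y h m m'}, Act y h → h * ι m * h⁻¹ = ι m' → y * ν m * y⁻¹ = ν m'
  reg : ∀ y, y * a = a * y → ¬ p ∣ orderOf y → ∃ h, Act y h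

variable {π : H →* W} {ι : S →* H} {ν : S →* X} {a : X} {Act : X → H → Prop} (D : Dat p π ι ν a Act)
include D

theorem Dat.act_one : Act 1 1 := by
  have := D.mul D.one (D.inv D.one)
  rwa [mul_inv_cancel, mul_inv_cancel] at this

theorem Dat.pow {y : X} {h : H} (e : Act y h) (n : ℕ) : Act (y ^ n) (h ^ n) := by
  induction n with
  | zero => rw [pow_zero, pow_zero]; exact D.act_one
  | succ n ih => rw [pow_succ, pow_succ]; exact D.mul ih e

theorem Dat.pow_one {y : X} {h : H} (e : Act y h) {n : ℕ} (hn : y ^ n = 1) : π h ^ n = 1 := by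
  rw [← map_pow, D.uniq (D.pow e n) (hn ▸ D.act_one), map_one]

theorem Dat.comm_π {y y' : X} {h h' : H} (e : Act y h) (e' : Act y' h') (hc : y * y' = y' * y) :
    π h * π h' = π h' * π h := by
  rw [← map_mul, ← map_mul]
  exact D.uniq (D.mul e e') (hc ▸ D.mul e' e)

theorem Dat.comm_ν {y : X} {h : H} (e : Act y h) {m : S} (hc : h * ι m = ι m * h) : y * ν m = ν m * y :=
  mul_inv_eq_iff_eq_mul.1 (D.conj e (mul_inv_eq_iff_eq_mul.2 hc))

variable [hp : Fact p.Prime] [Finite H]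

theorem Dat.exists_reg {y : X} (hy : y * a = a * y) (hr : ¬ p ∣ orderOf y) : ∃ h, Act y h ∧ ¬ p ∣ orderOf h := by
  obtain ⟨h, e⟩ := D.reg y hy hr
  obtain ⟨n, h1, h2⟩ := exists_reg_lift (π := π) h fun h3 =>
    hr (h3.trans (orderOf_dvd_of_pow_eq_one (D.pow_one e (pow_orderOf_eq_one y))))
  exact ⟨_, D.smul e h2.symm, h1⟩

theorem Dat.not_heis [Finite X] (hp2 : p ≠ 2) {Q : Subgroup X} (L : LocX p c X Q) (ha : a ∈ Q) {a' b' z u v : H}
    (hh : Heis p a' b' z u v)
    (h1 : ∀ y ∈ Subgroup.centralizer (Q : Set X), ∀ h, Act y h → ¬ p ∣ orderOf h → h * a' = a' * h ∧ h * b' = b' * h)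
    (h2 : ∀ h : H, a' * h = h * a' → b' * h = h * b' →
      ∀ n ∈ Subgroup.closure ({a', b', u, v} : Set H), h * n = n * h) : False := by
  obtain ⟨x, hx, hxr, hxa⟩ := hh.exists_reg hp2
  have hE := hh.isPGroup
  have hEN := hh.le_commutator
  have hNE := hh.le_normalizer
  have haE : a' ∈ Subgroup.closure ({a', b'} : Set H) := Subgroup.subset_closure (by simp)
  have hbE : b' ∈ Subgroup.closure ({a', b'} : Set H) := Subgroup.subset_closure (by simp)
  have hap : a' ^ p ^ 1 = 1 := by rw [_root_.pow_one, hh.ha]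
  have hbp : b' ^ p ^ 1 = 1 := by rw [_root_.pow_one, hh.hb]
  have hcE : ∀ h : H, h * a' = a' * h → h * b' = b' * h → ∀ g ∈ Subgroup.closure ({a', b'} : Set H),
      h * g = g * h := by
    intro h e1 e2 g hg
    refine (Subgroup.mem_centralizer_singleton_iff.1
      ((Subgroup.closure_le (Subgroup.centralizer {h})).2 ?_ hg)).symm
    rintro _ (rfl | rfl)
    exacts [Subgroup.mem_centralizer_singleton_iff.2 e1.symm, Subgroup.mem_centralizer_singleton_iff.2 e2.symm]
  set N := Subgroup.closure ({a', b', u, v} : Set H)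
  set E := Subgroup.closure ({a', b'} : Set H)
  have hNN : ⁅N, N⁆ ≤ N := Subgroup.commutator_le_self N
  have hr : ⁅N, N⁆ ≤ ι.range := D.der N
  rw [← Subgroup.map_comap_eq_self hr, ← Subgroup.map_commutator] at hx
  obtain ⟨x, hx, rfl⟩ := hx
  obtain ⟨a₀, rfl⟩ := hr (hEN haE)
  obtain ⟨b₀, rfl⟩ := hr (hEN hbE)
  have haν : ∀ m, a * ν m = ν m * a := fun m => D.comm_ν D.one (by rw [one_mul, mul_one])
  let R := (E.comap ι).map ν ⊔ Subgroup.zpowers a
  have haR : a ∈ R := Subgroup.mem_sup_right (Subgroup.mem_zpowers a)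
  have hER : ∀ m, ι m ∈ E → ν m ∈ R := fun m hm => Subgroup.mem_sup_left ⟨m, hm, rfl⟩
  obtain ⟨n, hn⟩ := L.pg ⟨a, ha⟩
  have hR : IsPGroup p R := by
    refine IsPGroup.to_sup_of_normal_left' ((hE.comap_of_injective ι D.inj).map ν)
      (isPGroup_zpowers_of_pow (n := n) (congrArg Subtype.val hn)) ?_
    refine (Subgroup.zpowers_le.2 (Subgroup.mem_centralizer_iff.2 ?_)).trans (Subgroup.centralizer_le_normalizer _)
    rintro _ ⟨m, -, rfl⟩
    exact (haν m).symm
  have hRK : R ≤ KK p Q := by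
    refine sup_le ?_ (Subgroup.zpowers_le.2 (self_le_KK Q ha))
    rintro _ ⟨m, hm, rfl⟩
    refine mem_KK_iff.2 fun y hy hyr => ?_
    obtain ⟨h, e, hhr⟩ := D.exists_reg (Subgroup.mem_centralizer_iff.1 hy a ha).symm hyr
    exact D.comm_ν e (hcE h (h1 y hy h e hhr).1 (h1 y hy h e hhr).2 _ hm)
  have hNK : (⁅N, N⁆.comap ι).map ν ≤ KK p R := by
    rintro _ ⟨m, hm, rfl⟩
    refine mem_KK_iff.2 fun y hy hyr => ?_
    obtain ⟨h, e, hhr⟩ := D.exists_reg (Subgroup.mem_centralizer_iff.1 hy a haR).symm hyr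
    exact D.comm_ν e (h2 h
      (comm_of_coprime D.cent hap hhr (D.comm_π (D.self a₀) e (Subgroup.mem_centralizer_iff.1 hy _ (hER _ haE))))
      (comm_of_coprime D.cent hbp hhr (D.comm_π (D.self b₀) e (Subgroup.mem_centralizer_iff.1 hy _ (hER _ hbE))))
      _ (hNN hm))
  have h3 := L.fus' hR hRK (x := ν x) ?_ (Subgroup.commutator_mono hNK hNK (by
    rw [← Subgroup.map_commutator]
    exact ⟨x, hx, rfl⟩)) fun h => hxr (by
      rw [orderOf_injective ι D.inj]
      exact h.trans (orderOf_map_dvd ν x))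
  · exact hxa (comm_of_coprime D.cent hap hxr
      (D.comm_π (D.self a₀) (D.self x) (Subgroup.mem_centralizer_iff.1 h3 _ (hER _ haE)))).symm
  · have : Finite S := Finite.of_injective ι D.inj
    refine Subgroup.normalizer_inf_normalizer_le_normalizer_sup _ _ ⟨map_mem_normalizer (π := ν)
      (Subgroup.le_normalizer_comap ι (hNE (hNN (Subgroup.commutator_le_self (⁅N, N⁆.comap ι) hx)))), ?_⟩
    refine Subgroup.centralizer_le_normalizer _ (Subgroup.mem_centralizer_iff.2 ?_)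
    rintro _ ⟨k, rfl⟩
    exact (Commute.zpow_left (haν x) k).eq

theorem Dat.comm [Finite X] (hp2 : p ≠ 2) (hH : HasHeis p H) {Q : Subgroup X} (L : LocX p c X Q) (ha : a ∈ Q)
    {d d' : X} (hd : d ∈ Q) (hd' : d' ∈ Q) {h h' : H} (e : Act d h) (e' : Act d' h') : h * h' = h' * h := by
  let P' : Subgroup H :=
    { carrier := {g | ∃ d ∈ Q, Act d g}
      one_mem' := ⟨1, one_mem _, D.act_one⟩
      mul_mem' := fun ⟨x, hx, e⟩ ⟨y, hy, e'⟩ => ⟨_, mul_mem hx hy, D.mul e e'⟩
      inv_mem' := fun ⟨x, hx, e⟩ => ⟨_, inv_mem hx, D.inv e⟩ }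
  have hP' : IsPGroup p (P'.map π) := by
    rintro ⟨_, g, ⟨x, hx, e⟩, rfl⟩
    obtain ⟨n, hn⟩ := L.pg ⟨x, hx⟩
    exact ⟨n, Subtype.ext (D.pow_one e (congrArg Subtype.val hn))⟩
  obtain ⟨P, hP, -, hm⟩ := exists_sat_lift D.surj D.cent hP'
  by_cases hc : IsMulCommutative P
  · obtain ⟨g, hg, e1⟩ := hm.ge ⟨h, ⟨d, hd, e⟩, rfl⟩
    obtain ⟨g', hg', e2⟩ := hm.ge ⟨h', ⟨d', hd', e'⟩, rfl⟩
    exact comm_of_eq D.cent e1.symm (comm_of_eq D.cent e2.symm
      (congrArg Subtype.val (hc.is_comm.comm ⟨g', hg'⟩ ⟨g, hg⟩))).symm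
  · obtain ⟨a', b', z, u, v, hh, h1, h2⟩ := hH P hP hc
    refine (D.not_heis hp2 L ha hh (fun y hy k ek hk => h1 k fun g hg => ?_) h2).elim
    obtain ⟨g', ⟨x, hx, ex⟩, e1⟩ := hm.le ⟨g, hg, rfl⟩
    obtain ⟨n, hn⟩ := hP ⟨g, hg⟩
    exact comm_of_coprime D.cent (n := n) (congrArg Subtype.val hn) hk
      (D.comm_π (D.smul ex e1) ek (Subgroup.mem_centralizer_iff.1 hy x hx))

end Core

end Cfsg.Agent.BHZ.Exc.TAG
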