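import Cfsg.Agent.BHZ.Exc.TRB

/-!
# S4806, exceptional groups: `boxTR` (helper34)
-/

set_option autoImplicit false
set_option linter.unusedSectionVars false
set_option maxRecDepth 100000

namespace Cfsg.Agent.BHZ.Exc

open CoxeterSystem Cfsg Cfsg.Lie Cfsg.Lie.ChevalleyDatum
open Cfsg.Agent.ChevalleyStructure Cfsg.Agent.ChevalleyStructure.Elts Cfsg.Agent.ChevalleyStructure.CoxeterGeom
  Cfsg.Agent.ChevalleyStructure.CoxeterGeomTypes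
open Cfsg.Agent.Tits.Roots Cfsg.Agent.Tits.Core Cfsg.Agent.Nodes Cfsg.Agent.Nodes.Reps Cfsg.Agent.Nodes.BNOf
  Cfsg.Agent.Nodes.RGDChev Cfsg.Agent.Nodes.Bruhat
open Cfsg.Agent.KFacts.RgdField Cfsg.Agent.KFacts.RgdChevCoord
open Cfsg.Agent.BpExc Cfsg.Agent.BpExc.TorCent Cfsg.Agent.BpExc.TorChev Cfsg.Agent.BpExc.Tow
  Cfsg.Agent.BpExc.TowChev Cfsg.Agent.BpExc.Fr Cfsg.Agent.BpExc.LangFr
open Cfsg.Agent.H469.Exc Cfsg.Agent.H795.SetCent Cfsg.Agent.H129.TorusChar Cfsg.Agent.DS.Ex Cfsg.Agent.DS.Nt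
open Cfsg.Agent.H46.Gen (AFr Rt xf)
open Cfsg.Agent.H321.Ker (cj stG stm sc)
open Cfsg.Agent.H931.KC (al)
open Cfsg.Agent.H665.NoPQ (HasDZ)
open scoped MatrixGroups
open Matrix.SpecialLinearGroup (transvection)
set_option maxHeartbeats 800000

namespace TR

open AA CovII
open Cfsg.Agent.H46.Gen (rt_iff afr_of_pair)
open Cfsg.Agent.H92.NE (bl FormOK bl_root bl_comm)
open Cfsg.Agent.H931.KC (ok_E8)
open Cfsg.Agent.H321.Ker (toGL_inj')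
open Matrix.SpecialLinearGroup (toGL)

theorem eq7 {M : CoxeterMatrix (Fin 7)} (hp : IsType chevE7 7 M) : M = CoxeterMatrix.E₇ := by
  simp only [IsType, typeList, List.mem_cons, List.not_mem_nil, or_false, Prod.mk.injEq] at hp
  rcases hp with ⟨h1, h⟩ | ⟨h1, h⟩ | ⟨h1, h⟩ | ⟨h1, h⟩ | ⟨h1, h⟩ | ⟨h1, h⟩ | ⟨h1, h⟩ <;>
    first
    | exact eq_of_heq (Sigma.mk.inj h).2
    | exact absurd (congrArg Sigma.fst h) (by simp)

theorem eq8 {M : CoxeterMatrix (Fin 8)} (hp : IsType chevE8 8 M) : M = CoxeterMatrix.E₈ := by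
  simp only [IsType, typeList, List.mem_cons, List.not_mem_nil, or_false, Prod.mk.injEq] at hp
  rcases hp with ⟨h1, h⟩ | ⟨h1, h⟩ | ⟨h1, h⟩ | ⟨h1, h⟩ | ⟨h1, h⟩ | ⟨h1, h⟩ | ⟨h1, h⟩ <;>
    first
    | exact eq_of_heq (Sigma.mk.inj h).2
    | exact absurd (congrArg Sigma.fst h) (by simp)

theorem ex7_inj : Function.Injective ex7 := fun x y h => by
  funext i
  fin_cases i
  exacts [congrFun h 0, congrFun h 1, congrFun h 2, congrFun h 3, congrFun h 4, congrFun h 5]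

theorem ex8_inj : Function.Injective ex8 := fun x y h => by
  funext i
  fin_cases i
  exacts [congrFun h 0, congrFun h 1, congrFun h 2, congrFun h 3, congrFun h 4, congrFun h 5]

theorem chk7 : ∀ s : Fin chevE7.nroots, (3 : ℤ) ∣ vec chevE7 7 s 6 →
    ∃ s' : Fin chevE6.nroots, ∀ m, vec chevE7 7 s m = ex7 (vec chevE6 6 s') m := by decide +kernel

/-- the frame of the second component in `E₈` -/
def ev8 : Fin 3 → Fin 8 → ℤ := ![![-2, -3, -4, -6, -5, -4, -3, -2], ![0, 0, 0, 0, 0, 0, 0, 0], ![0, 0, 0, 0, 0, 0, 0, -1]]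

/-- the invariant form of `E₈` -/
def B8 : Fin 8 → Fin 8 → ℤ := ![![2, 0, -1, 0, 0, 0, 0, 0], ![0, 2, 0, -1, 0, 0, 0, 0], ![-1, 0, 2, -1, 0, 0, 0, 0],
    ![0, -1, -1, 2, -1, 0, 0, 0], ![0, 0, 0, -1, 2, -1, 0, 0], ![0, 0, 0, 0, -1, 2, -1, 0],
    ![0, 0, 0, 0, 0, -1, 2, -1], ![0, 0, 0, 0, 0, 0, -1, 2]]

theorem okB8 : FormOK chevE8 8 B8 := ok_E8.1

theorem chk8 : ∀ s : Fin chevE8.nroots, (3 : ℤ) ∣ vec chevE8 8 s 6 →
    (∃ s' : Fin chevE6.nroots, ∀ m, vec chevE8 8 s m = ex8 (vec chevE6 6 s') m) ∨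
      ∃ i i' : Fin 3, i ≠ i' ∧ ∀ m, vec chevE8 8 s m = ev8 i m - ev8 i' m := by decide +kernel

theorem chk8a : ∀ i i' : Fin 3, i ≠ i' → (3 : ℤ) ∣ ev8 i 6 - ev8 i' 6 ∧ ev8 i 7 - ev8 i' 7 ≠ 0 ∧
    ∃ s : Fin chevE8.nroots, ∀ m, vec chevE8 8 s m = ev8 i m - ev8 i' m := by decide +kernel

theorem chk8b : ∀ i : Fin 3, ∀ s : Fin chevE6.nroots, bl B8 (ex8 (vec chevE6 6 s)) (ev8 i) = 0 := by decide +kernel

theorem chk8c : bl B8 (ev8 0 - ev8 1) (ev8 1 - ev8 2) = -1 := by decide +kernel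

theorem chk3 : ∀ i i' k k' : Fin 3, i ≠ i' → k ≠ k' → (i = k ∧ i' = k') ∨ (i = k' ∧ i' = k) ∨ (i' = k ∧ i ≠ k') ∨
    (i = k' ∧ k ≠ i') ∨ (i' = k' ∧ i ≠ k) ∨ (i = k ∧ k' ≠ i') := by
  intro i i' k k'
  omega

theorem bl8 {a : Fin 8 → ℤ} (ha : Rt chevE8 8 a) : bl B8 a a = 2 :=
  bl_root hpE8 okB8 (c := 2) (by decide) ((rt_iff hpE8 CoxeterMatrix.E₈.toCoxeterSystem).1 ha)

theorem bl8_comb (a b : Fin 8 → ℤ) (m n : ℤ) :
    bl B8 (m • a + n • b) (m • a + n • b) = m * m * bl B8 a a + 2 * m * n * bl B8 a b + n * n * bl B8 b b := by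
  rw [map_add, map_zsmul, map_zsmul, bl_comm okB8.1 a, bl_comm okB8.1 b, map_add, map_add, map_zsmul, map_zsmul,
    map_zsmul, map_zsmul, bl_comm okB8.1 a b]
  simp only [smul_eq_mul]
  ring

theorem rt8 {i i' : Fin 3} (h : i ≠ i') : Rt chevE8 8 (ev8 i - ev8 i') := by
  obtain ⟨-, -, s, hs⟩ := chk8a i i' h
  exact ⟨s, s.2, funext hs⟩

theorem so8 {a b : Fin 8 → ℤ} (ha : Rt chevE8 8 a) (hb : Rt chevE8 8 b) (h : bl B8 a b = 0) : SO chevE8 8 a b := by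
  refine ⟨fun e => ?_, fun m n hm hn hR => ?_⟩
  · rw [e, map_neg, bl8 ha] at h
    omega
  · have h1 := bl8 hR
    rw [bl8_comb, bl8 ha, bl8 hb, h] at h1
    have h2 : (1 : ℤ) ≤ m := by exact_mod_cast hm
    have h3 : (1 : ℤ) ≤ n := by exact_mod_cast hn
    nlinarith

theorem afr8 : AFr chevE8 8 ev8 := by
  have ha := rt8 (show (0 : Fin 3) ≠ 1 by decide)
  have hb := rt8 (show (1 : Fin 3) ≠ 2 by decide)
  have key : ∀ m n : ℤ, Rt chevE8 8 (m • (ev8 0 - ev8 1) + n • (ev8 1 - ev8 2)) →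
      m * m * 2 + 2 * m * n * (-1) + n * n * 2 = 2 := fun m n h => by
    have h1 := bl8 h
    rw [bl8_comb, bl8 ha, bl8 hb, chk8c] at h1
    exact h1
  refine afr_of_pair hpE8 ⟨ha, hb, ?_, fun h => ?_, fun h => ?_, fun h => ?_⟩
  · rw [sub_add_sub_cancel]
    exact rt8 (by decide)
  · have h1 := key (-1) 1 (by convert h using 1; module)
    omega
  · have h1 := key 2 1 (by convert h using 1; module)
    omega
  · have h1 := key 1 2 (by convert h using 1; module)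
    omega

variable {r : ℕ} [Fact r.Prime]

section gen

variable {D : ChevalleyDatum} {l : ℕ} {M : CoxeterMatrix (Fin l)} {hp : IsType D l M} {ζ : KK r} {i : Fin l}
  {t : YY D r}

theorem std_mem (hζ : IsPrimitiveRoot ζ 3) (h : Std hp r ζ i t) {a : Fin l → ℤ} :
    a ∈ Ps hp r {t} ↔ IsRoot M.toCoxeterSystem hp.isCartan a ∧ (3 : ℤ) ∣ a i := by
  rw [mem_Ps_one h.1, h.2, hζ.zpow_eq_one_iff_dvd]
  rfl

theorem std_conn (hr3 : r ≠ 3) (hD : D = chevE7 ∨ D = chevE8) (hζ : IsPrimitiveRoot ζ 3) (h : Std hp r ζ i t)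
    (c : YY D r) (hc : c * t = t * c) : c ∈ DZ hp r {t} := by
  have h3 : t ^ 3 = 1 := pow_eq_one_of_cX (hp := hp) h.1 fun x => by
    rw [h.2, ← zpow_natCast, ← zpow_mul, mul_comm, zpow_mul, zpow_natCast, hζ.pow_eq_one, one_zpow]
  rcases (DZ_one hp (Or.inr (Or.inr hD)) Nat.prime_three hr3.symm h.1 h3).2 with h1 | ⟨h1, -⟩ | ⟨-, h1, -⟩
  · exact h1 c hc
  · rcases hD with rfl | rfl
    · exact absurd (congrArg ChevalleyDatum.rank h1) (by decide)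
    · exact absurd (congrArg ChevalleyDatum.rank h1) (by decide)
  · omega

end gen

theorem se7 (hr3 : r ≠ 3) {ζ : KK r} (hζ : IsPrimitiveRoot ζ 3) {t : YY chevE7 r} (h : Std hpE7 r ζ 6 t) :
    SE hpE7 ex7 f7 (j7 r) t ∅ := by
  have key : ∀ a, IsRoot CoxeterMatrix.E₇.toCoxeterSystem hpE7.isCartan a → (3 : ℤ) ∣ a 6 → ∃ b, R6 b ∧ a = ex7 b := by
    intro a ha h3
    obtain ⟨s, hs, rfl⟩ := (isRoot_iff hpE7 _ a).1 ha
    obtain ⟨s', h1⟩ := chk7 ⟨s, hs⟩ h3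
    exact ⟨_, isRoot_vec hpE6 _ s'.2, funext h1⟩
  refine ⟨je7, j7_inj, h.1, std_conn hr3 (Or.inl rfl) hζ h, ex7_inj, fun b hb => ?_,
    fun b hb => (std_mem hζ h).2 ⟨je7 (r := r).isRoot hb, dvd_zero 3⟩,
    fun a ha => Or.inl (key a ((std_mem hζ h).1 ha).1 ((std_mem hζ h).1 ha).2), fun _ ha => ha.elim,
    fun _ ha => ha.elim, fun s _ => ⟨1, one_mem _, one_mem _, fun _ ha => ha.elim, fun u => by rw [one_mul, mul_one]⟩⟩
  obtain ⟨b', h1, h2⟩ := key _ hb (dvd_zero 3)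
  rw [ex7_inj h2]
  exact h1

theorem split8 {a : Fin 8 → ℤ} (ha : IsRoot CoxeterMatrix.E₈.toCoxeterSystem hpE8.isCartan a) (h3 : (3 : ℤ) ∣ a 6) :
    (∃ b, R6 b ∧ a = ex8 b) ∨ a ∈ Rts ev8 := by
  obtain ⟨s, hs, rfl⟩ := (isRoot_iff hpE8 _ a).1 ha
  rcases chk8 ⟨s, hs⟩ h3 with ⟨s', h1⟩ | ⟨i, i', h1, h2⟩
  · exact Or.inl ⟨_, isRoot_vec hpE6 _ s'.2, funext h1⟩
  · exact Or.inr ⟨i, i', h1, funext h2⟩

theorem so8' {a : Fin 8 → ℤ} (ha : a ∈ Rts ev8) {b : Fin 6 → ℤ} (hb : R6 b) : SO chevE8 8 a (ex8 b) := by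
  obtain ⟨i, i', h1, rfl⟩ := ha
  obtain ⟨s, hs, rfl⟩ := (isRoot_iff hpE6 _ b).1 hb
  refine so8 (rt8 h1) ⟨_, StEmbed.emb78.lt _ (StEmbed.emb67.lt s hs), vec8 s hs⟩ ?_
  rw [bl_comm okB8.1, map_sub, chk8b i ⟨s, hs⟩, chk8b i' ⟨s, hs⟩, sub_self]

theorem comm8 {x : YY chevE8 r} (hx : x ∈ RGD.Sup (XX chevE8 8 (KK r)) (Rts ev8)) (u : St6 r) :
    x * j8 r u = j8 r u * x := by
  have h1 : ∀ a ∈ ex8 '' {a | R6 a}, IsRoot CoxeterMatrix.E₈.toCoxeterSystem hpE8.isCartan a := by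
    rintro _ ⟨b, hb, rfl⟩
    exact je8 (r := r).isRoot hb
  refine Mh_comm hpE8 (cov0_id 1) (Nat.coprime_one_right r) (fun _ => Rts_root hpE8 afr8) h1 ?_ ?_ ?_
  · rintro a ha _ ⟨b, hb, rfl⟩
    exact so8' ha hb
  · rw [Mh_id hpE8 fun _ => Rts_root hpE8 afr8]
    exact hx
  · rw [Mh_id hpE8 h1, ← je8.range_eq]
    exact ⟨u, rfl⟩

theorem sub8 {ζ : KK r} (hζ : IsPrimitiveRoot ζ 3) {t : YY chevE8 r} (h : Std hpE8 r ζ 6 t) :
    Rts ev8 ⊆ Ps hpE8 r {t} := by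
  rintro _ ⟨i, i', h1, rfl⟩
  exact (std_mem hζ h).2 ⟨(rt_iff hpE8 _).1 (rt8 h1), (chk8a i i' h1).1⟩

theorem comp8 {ζ : KK r} (hζ : IsPrimitiveRoot ζ 3) {t : YY chevE8 r} (h : Std hpE8 r ζ 6 t) :
    Comp chevE8 8 ev8 (Ps hpE8 r {t}) := by
  refine ⟨sub8 hζ h, fun a ha b hb hn => ?_⟩
  obtain ⟨b', h1, rfl⟩ := (split8 ((std_mem hζ h).1 hb).1 ((std_mem hζ h).1 hb).2).resolve_right hn
  exact so8' ha h1

theorem se8 (hr3 : r ≠ 3) {ζ : KK r} (hζ : IsPrimitiveRoot ζ 3) {t : YY chevE8 r} (h : Std hpE8 r ζ 6 t) :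
    SE hpE8 ex8 f8 (j8 r) t (Rts ev8) := by
  refine ⟨je8, j8_inj, h.1, std_conn hr3 (Or.inr rfl) hζ h, ex8_inj, fun b hb => ?_,
    fun b hb => (std_mem hζ h).2 ⟨je8 (r := r).isRoot hb, dvd_zero 3⟩,
    fun a ha => split8 ((std_mem hζ h).1 ha).1 ((std_mem hζ h).1 ha).2, fun a ha b hb => so8' ha hb, ?_,
    fun s hs => ?_⟩
  · rcases split8 hb (dvd_zero 3) with ⟨b', h1, h2⟩ | ⟨i, i', h1, h2⟩
    · rw [ex8_inj h2]
      exact h1
    · exact absurd (congrFun h2 7).symm (chk8a i i' h1).2.1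
  · rintro _ ⟨i, i', h1, rfl⟩ _ ⟨k, k', h2, rfl⟩
    rcases chk3 i i' k k' h1 h2 with ⟨rfl, rfl⟩ | ⟨rfl, rfl⟩ | ⟨rfl, h3⟩ | ⟨rfl, h3⟩ | ⟨rfl, h3⟩ | ⟨rfl, h3⟩
    · exact Or.inl rfl
    · exact Or.inr (Or.inl (neg_sub _ _).symm)
    · rw [sub_add_sub_cancel]
      exact Or.inr (Or.inr (Or.inl ((rt_iff hpE8 _).1 (rt8 h3))))
    · rw [sub_add_sub_cancel']
      exact Or.inr (Or.inr (Or.inl ((rt_iff hpE8 _).1 (rt8 h3))))
    · rw [sub_sub_sub_cancel_right]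
      exact Or.inr (Or.inr (Or.inr ((rt_iff hpE8 _).1 (rt8 h3))))
    · rw [sub_sub_sub_cancel_left]
      exact Or.inr (Or.inr (Or.inr ((rt_iff hpE8 _).1 (rt8 h3))))
  · obtain ⟨φ, hφ⟩ := exists_frame_hom hpE8 r afr8 le_rfl
    obtain ⟨g, h1, -, h2⟩ := exists_diag afr8 hφ le_rfl hs
    have h3 : φ g ∈ RGD.Sup (XX chevE8 8 (KK r)) (Rts ev8) := by
      rw [← frame_range afr8 hφ (by norm_num)]
      exact ⟨g, rfl⟩
    exact ⟨φ g, RGD.Sup_mono (sub8 hζ h) h3, h1, h2, comm8 h3⟩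

end TR

open TR AA CovII

/-- **[TR]** -/
theorem boxTR (hTA : BoxTA) (h6 : BoxFrob6) (hF : BoxFull6) : BoxTR := by
  intro D l M hp r _ hr3 hD hM c X _ Q G hπ a ha hc ζ i hζ hi hS _
  rcases hD with rfl | rfl
  · obtain rfl := (typ_l hp).2.2.1 rfl
    obtain rfl := eq7 hp
    obtain rfl : i = 6 := Fin.ext hi
    exact ab_of h6 hF hr3 hM (by norm_num) G hπ ha hc (se7 hr3 hζ hS) fun d _ d' _ =>
      ⟨1, 1, rfl, by rw [one_mul, mul_one], by rw [one_mul, mul_one], fun u => by rw [one_mul, mul_one],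
        fun u => by rw [one_mul, mul_one], fun _ h => h.elim, fun _ h => h.elim, fun _ h => h.elim⟩
  · obtain rfl := (typ_l hp).2.2.2 rfl
    obtain rfl := eq8 hp
    obtain rfl : i = 6 := Fin.ext hi
    have := Fact.mk Nat.prime_three
    have E := se8 hr3 hζ hS
    refine ab_of h6 hF hr3 hM (by norm_num) G hπ ha hc E fun d hd d' hd' => ?_
    obtain ⟨φ, hφ⟩ := exists_frame_hom hpE8 r afr8 le_rfl
    have hr := frame_range afr8 hφ (by norm_num)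
    have hQ : ∀ x ∈ Q, G.π x ∈ DZ hpE8 r {G.π a} := fun x hx => E.conn _ (by rw [← map_mul, ← map_mul, hc x hx])
    obtain ⟨g, hg⟩ := exists_inner afr8 hφ le_rfl (comp8 hζ hS) (hQ d hd)
    obtain ⟨g', hg'⟩ := exists_inner afr8 hφ le_rfl (comp8 hζ hS) (hQ d' hd')
    have hcj : ∀ g m : Matrix.SpecialLinearGroup (Fin 3) (KK r),
        cj (Matrix.SpecialLinearGroup.toGL g) m = g * m * g⁻¹ := fun g m =>
      H321.Ker.toGL_inj' (by rw [H321.Ker.toGL_cj, map_mul, map_mul, map_inv])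
    have h1 : g * g' = g' * g := by
      refine H321.Ker.toGL_inj' ?_
      rw [map_mul, map_mul]
      exact hTA chevE8 8 _ hpE8 r 3 c (by norm_num) hr3.symm _ _ (cov0_id 3) X Q G a ha hS.1 2 ev8 afr8 le_rfl
        (fun _ => rfl) (comp8 hζ hS) φ hφ d hd d' hd' (hQ d hd) (hQ d' hd') _ _ (fun m => by rw [hcj]; exact hg m)
        (fun m => by rw [hcj]; exact hg' m)
    have hm : ∀ m, φ m ∈ RGD.Sup (XX chevE8 8 (KK r)) (Rts ev8) := fun m => by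
      rw [← hr]
      exact ⟨m, rfl⟩
    have ht : ∀ m, φ m * G.π a = G.π a * φ m := fun m =>
      Mz_comm (Set.singleton_subset_iff.2 hS.1) (RGD.Sup_mono (sub8 hζ hS) (hm m)) rfl
    have key : ∀ w u, Act φ w u → ∀ b ∈ Rts ev8, ∀ x ∈ XX chevE8 8 (KK r) b, (φ u)⁻¹ * w * x = x * ((φ u)⁻¹ * w) := by
      intro w u hu b hb x hx
      obtain ⟨m, rfl⟩ : x ∈ φ.range := by
        rw [hr]
        exact RGD.le_Sup hb hx
      have h2 := (act_self (φ := φ) u).inv.mul hu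
      rw [inv_mul_cancel] at h2
      exact h2.of_center (one_mem _) m
    exact ⟨φ g, φ g', by rw [← map_mul, ← map_mul, h1], ht g, ht g', comm8 (hm g), comm8 (hm g'), key _ g hg,
      key _ g' hg', fun b hb x hx u => (comm8 (RGD.le_Sup hb hx) u).symm⟩

end Cfsg.Agent.BHZ.Exc
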