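import Cfsg.Agent.BHZ.Exc.AG
import Cfsg.Agent.BHZ.Exc.CovIIA

/-!
# S4806, exceptional groups: a component of type `E₆`, the setting (helper34)
-/

set_option autoImplicit false
set_option linter.unusedSectionVars false
set_option maxRecDepth 100000

namespace Cfsg.Agent.BHZ.Exc

open CoxeterSystem Cfsg Cfsg.Lie Cfsg.Lie.ChevalleyDatum
open Cfsg.Agent.ChevalleyStructure Cfsg.Agent.ChevalleyStructure.Elts Cfsg.Agent.ChevalleyStructure.CoxeterGeom
  Cfsg.Agent.ChevalleyStructure.CoxeterGeomTypes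
open Cfsg.Agent.Tits.Roots Cfsg.Agent.Tits.Core Cfsg.Agent.Nodes Cfsg.Agent.Nodes.Reps Cfsg.Agent.Nodes.BNOf
  Cfsg.Agent.Nodes.RGDChev Cfsg.Agent.Nodes.Bruhat
open Cfsg.Agent.KFacts.RgdField Cfsg.Agent.KFacts.RgdChevCoord
open Cfsg.Agent.BpExc Cfsg.Agent.BpExc.TorCent Cfsg.Agent.BpExc.TorChev Cfsg.Agent.BpExc.Tow
  Cfsg.Agent.BpExc.TowChev Cfsg.Agent.BpExc.Fr Cfsg.Agent.BpExc.LangFr
open Cfsg.Agent.H469.Exc Cfsg.Agent.H795.SetCent Cfsg.Agent.H129.TorusChar Cfsg.Agent.DS.Ex Cfsg.Agent.DS.Nt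
open Cfsg.Agent.H46.Gen (AFr Rt xf)
open Cfsg.Agent.H321.Ker (cj stG stm sc)
open Cfsg.Agent.H931.KC (al)
open Cfsg.Agent.H665.NoPQ (HasDZ)
open scoped MatrixGroups
open Matrix.SpecialLinearGroup (transvection)

namespace TR

open AA CovII
open Cfsg.Agent.H46.Gen (rt_iff)
open Cfsg.Agent.H92.NE (bl)
open Cfsg.Agent.ChevalleyStructure.StTheta (theta_surjective)

/-- the roots of type `E₆` -/
abbrev R6 (b : Fin 6 → ℤ) : Prop := IsRoot CoxeterMatrix.E₆.toCoxeterSystem hpE6.isCartan b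

/-- an automorphism descends along a surjection whose kernel it preserves -/
theorem exists_descend {L Y : Type*} [Group L] [Group Y] {θ : L →* Y} (hs : Function.Surjective θ) (α : MulAut L)
    (h : ∀ x, θ (α x) = 1 ↔ θ x = 1) : ∃ β : MulAut Y, ∀ x, β (θ x) = θ (α x) := by
  have key : ∀ α : MulAut L, (∀ x, θ x = 1 → θ (α x) = 1) → ∃ β : Y →* Y, ∀ x, β (θ x) = θ (α x) := fun α h =>
    ⟨θ.liftOfRightInverse (Function.surjInv hs) (Function.rightInverse_surjInv hs)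
      ⟨θ.comp α.toMonoidHom, fun x hx => h x hx⟩, fun x => θ.liftOfRightInverse_comp_apply _ _ _ x⟩
  obtain ⟨β, hβ⟩ := key α fun x => (h x).2
  obtain ⟨β', hβ'⟩ := key α⁻¹ fun x hx => (h _).1 (by rw [MulAut.apply_inv_self]; exact hx)
  refine ⟨MonoidHom.toMulEquiv β β' (MonoidHom.ext fun y => ?_) (MonoidHom.ext fun y => ?_), hβ⟩
  · obtain ⟨x, rfl⟩ := hs y
    show β' (β (θ x)) = θ x
    rw [hβ, hβ', MulAut.inv_apply_self]
  · obtain ⟨x, rfl⟩ := hs y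
    show β (β' (θ x)) = θ x
    rw [hβ', hβ, MulAut.apply_inv_self]

/-- an automorphism restricts to the range of an injection -/
theorem exists_restrict {L Y : Type*} [Group L] [Group Y] {j : L →* Y} (hj : Function.Injective j) (σ : MulAut Y)
    (h : ∀ y, σ y ∈ j.range ↔ y ∈ j.range) : ∃ α : MulAut L, ∀ x, j (α x) = σ (j x) := by
  have key : ∀ σ : MulAut Y, (∀ y ∈ j.range, σ y ∈ j.range) → ∃ α : L →* L, ∀ x, j (α x) = σ (j x) := fun σ h => by
    choose f hf using fun x => h (j x) ⟨x, rfl⟩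
    exact ⟨MonoidHom.mk' f fun x y => hj (by rw [hf, map_mul, map_mul, map_mul, hf, hf]), hf⟩
  obtain ⟨α, hα⟩ := key σ fun y => (h y).2
  obtain ⟨α', hα'⟩ := key σ⁻¹ fun y hy => (h _).1 (by rw [MulAut.apply_inv_self]; exact hy)
  refine ⟨MonoidHom.toMulEquiv α α' (MonoidHom.ext fun x => hj ?_) (MonoidHom.ext fun x => hj ?_), hα⟩
  · show j (α' (α x)) = j x
    rw [hα', hα, MulAut.inv_apply_self]
  · show j (α (α' x)) = j x
    rw [hα, hα', MulAut.apply_inv_self]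

theorem edges6 : ∀ e ∈ [((0 : Fin 6), (2 : Fin 6)), (2, 0), (2, 3), (3, 2), (1, 3), (3, 1), (4, 3), (5, 4)],
    ∃ s : Fin chevE6.nroots, ∀ m, vec chevE6 6 s m = (sr e.1 + sr e.2 : Fin 6 → ℤ) m := by decide +kernel

theorem non6 : bl TY.B6 (sr 0 + sr 1) (sr 0 + sr 1) = 4 ∧ bl TY.B6 (sr 0 - sr 1) (sr 0 - sr 1) = 4 ∧
    (sr 0 : Fin 6 → ℤ) 0 ≠ (sr 1 : Fin 6 → ℤ) 0 ∧ (sr 0 : Fin 6 → ℤ) 0 ≠ (-sr 1 : Fin 6 → ℤ) 0 := by decide +kernel

variable {D : ChevalleyDatum} {l : ℕ} {M : CoxeterMatrix (Fin l)} {r : ℕ} [Fact r.Prime]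

/-- the setting: the centralizer of `t` has a component of type `E₆`, the other roots are in `R` -/
structure SE (hp : IsType D l M) (ex : (Fin 6 → ℤ) →+ (Fin l → ℤ)) (f : Fin 6 → Fin l) (j : St6 r →* YY D r)
    (t : YY D r) (R : Set (Fin l → ℤ)) : Prop where
  je : JE hp ex f j
  inj : Function.Injective j
  tor : t ∈ TT D (KK r)
  conn : ∀ c, c * t = t * c → c ∈ DZ hp r {t}
  exi : Function.Injective ex
  root : ∀ b, IsRoot M.toCoxeterSystem hp.isCartan (ex b) → R6 b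
  mem : ∀ b, R6 b → ex b ∈ Ps hp r {t}
  split : ∀ a ∈ Ps hp r {t}, (∃ b, R6 b ∧ a = ex b) ∨ a ∈ R
  so : ∀ a ∈ R, ∀ b, R6 b → SO D l a (ex b)
  small : ∀ a ∈ R, ∀ b ∈ R, a = b ∨ a = -b ∨ IsRoot M.toCoxeterSystem hp.isCartan (a + b) ∨
    IsRoot M.toCoxeterSystem hp.isCartan (a - b)
  diag : ∀ s ∈ TT D (KK r), ∃ m ∈ Mz hp r {t}, m ∈ TT D (KK r) ∧ (∀ a ∈ R, cX hp m a = cX hp s a) ∧
    ∀ u, m * j u = j u * m

namespace SE

variable {hp : IsType D l M} {ex : (Fin 6 → ℤ) →+ (Fin l → ℤ)} {f : Fin 6 → Fin l} {j : St6 r →* YY D r}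
  {t : YY D r} {R : Set (Fin l → ℤ)} (E : SE hp ex f j t R)
include E

theorem pres (γ : (Fin l → ℤ) ≃+ (Fin l → ℤ))
    (hγ : ∀ a, IsRoot M.toCoxeterSystem hp.isCartan (γ a) ↔ IsRoot M.toCoxeterSystem hp.isCartan a)
    (hΨ : ∀ a ∈ Ps hp r {t}, γ a ∈ Ps hp r {t}) (x : Fin 6 → ℤ) : γ (ex x) ∈ ex.range := by
  have step : ∀ i k : Fin 6, (i, k) ∈ [((0 : Fin 6), (2 : Fin 6)), (2, 0), (2, 3), (3, 2), (1, 3), (3, 1), (4, 3),
      (5, 4)] → γ (ex (sr i)) ∈ R → γ (ex (sr k)) ∈ R := fun i k he hi => by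
    obtain ⟨s, hs⟩ := edges6 _ he
    have h1 : R6 (sr i + sr k) := by
      rw [← funext hs]
      exact isRoot_vec hpE6 _ s.2
    rcases E.split _ (hΨ _ (E.mem _ (isRoot_sr _ _ k))) with ⟨b, hb, e⟩ | h
    · exfalso
      refine (E.so _ hi b hb).2 1 1 one_pos one_pos ((rt_iff hp M.toCoxeterSystem).2 ?_)
      rw [Nat.cast_one, one_smul, one_smul, ← e, ← map_add, ← map_add]
      exact (hγ _).2 (E.je.isRoot h1)
    · exact h
  have h3 : γ (ex (sr 3)) ∉ R := fun h => by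
    have h0 := step 2 0 (by simp) (step 3 2 (by simp) h)
    have h1 := step 3 1 (by simp) h
    obtain ⟨n1, n2, n3, n4⟩ := non6
    rcases E.small _ h0 _ h1 with e | e | e | e
    · exact n3 (congrFun (E.exi (γ.injective e)) 0)
    · rw [← map_neg, ← map_neg] at e
      exact n4 (congrFun (E.exi (γ.injective e)) 0)
    · rw [← map_add, ← map_add] at e
      have h2 := bl_rt ((rt_iff hpE6 _).2 (E.root _ ((hγ _).1 e)))
      omega
    · rw [← map_sub, ← map_sub] at e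
      have h2 := bl_rt ((rt_iff hpE6 _).2 (E.root _ ((hγ _).1 e)))
      omega
  have hi : ∀ i, γ (ex (sr i)) ∈ ex.range := fun i => by
    rcases E.split _ (hΨ _ (E.mem _ (isRoot_sr _ _ i))) with ⟨b, -, e⟩ | h
    · exact ⟨b, e.symm⟩
    · exfalso
      fin_cases i
      · exact h3 (step 2 3 (by simp) (step 0 2 (by simp) h))
      · exact h3 (step 1 3 (by simp) h)
      · exact h3 (step 2 3 (by simp) h)
      · exact h3 h
      · exact h3 (step 4 3 (by simp) h)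
      · exact h3 (step 4 3 (by simp) (step 5 4 (by simp) h))
  rw [IsMC.eq_sum_sr x, map_sum, map_sum]
  refine sum_mem fun i _ => ?_
  rw [map_zsmul, map_zsmul]
  exact zsmul_mem (hi i) _

theorem exists_g6 (γ : (Fin l → ℤ) ≃+ (Fin l → ℤ))
    (hγ : ∀ a, IsRoot M.toCoxeterSystem hp.isCartan (γ a) ↔ IsRoot M.toCoxeterSystem hp.isCartan a)
    (hΨ : ∀ a, γ a ∈ Ps hp r {t} ↔ a ∈ Ps hp r {t}) :
    ∃ g : (Fin 6 → ℤ) ≃+ (Fin 6 → ℤ), ∀ x, ex (g x) = γ (ex x) := by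
  choose G hG using E.pres γ hγ fun a => (hΨ a).2
  choose G' hG' using E.pres γ.symm (fun a => by rw [← hγ, AddEquiv.apply_symm_apply])
    fun a ha => (hΨ _).1 (by rw [AddEquiv.apply_symm_apply]; exact ha)
  exact ⟨{ toFun := G
           invFun := G'
           left_inv := fun x => E.exi (by rw [hG', hG, AddEquiv.symm_apply_apply])
           right_inv := fun x => E.exi (by rw [hG, hG', AddEquiv.apply_symm_apply])
           map_add' := fun x y => E.exi (by rw [map_add, hG, hG, hG, map_add, map_add]) }, hG⟩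

theorem root_iff {b : Fin 6 → ℤ} : IsRoot M.toCoxeterSystem hp.isCartan (ex b) ↔ R6 b := ⟨E.root b, E.je.isRoot⟩

theorem range_le : j.range ≤ Mz hp r {t} := by
  rw [E.je.range_eq]
  refine RGD.Sup_mono ?_
  rintro _ ⟨b, hb, rfl⟩
  exact E.mem b hb

theorem j_mem (u : St6 r) : j u ∈ DZ hp r {t} := Mz_le_DZ (E.range_le ⟨u, rfl⟩)

theorem j_comm (u : St6 r) : j u * t = t * j u := DZ_comm (Set.singleton_subset_iff.2 E.tor) (E.j_mem u) rfl

theorem comm_j {c : YY D r} (h : ∀ b, R6 b → ∀ y ∈ XX D l (KK r) (ex b), c * y = y * c) (u : St6 r) :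
    c * j u = j u * c := by
  have h1 : j.range ≤ Subgroup.centralizer {c} := by
    rw [E.je.range_eq]
    refine RGD.Sup_le ?_
    rintro _ ⟨b, hb, rfl⟩ y hy
    exact Subgroup.mem_centralizer_singleton_iff.2 (h b hb y hy).symm
  exact (Subgroup.mem_centralizer_singleton_iff.1 (h1 ⟨u, rfl⟩)).symm

theorem X_range {b : Fin 6 → ℤ} (hb : R6 b) : XX D l (KK r) (ex b) ≤ j.range := by
  rw [E.je.range_eq]
  exact RGD.le_Sup (X := XX D l (KK r)) (Set.mem_image_of_mem ex hb)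

/-- the torus -/
theorem T_j {s : YY D r} (hs : s ∈ TT D (KK r)) :
    ∃ u, j u ∈ TT D (KK r) ∧ ∀ b, cX hp ((j u)⁻¹ * s) (ex b) = 1 := by
  obtain ⟨y, hy, h1⟩ := exists_tor' hpE6 (r := r) (φ := fun x => cX hp s (ex x))
    ⟨by rw [map_zero, (isMC_cX hp hs).zero], fun x y => by rw [map_add, (isMC_cX hp hs).add]⟩
  obtain ⟨u, rfl⟩ := theta_surjective hpE6.inList (K := KK r) y
  obtain ⟨h2, h3⟩ := E.je.tor (u := u) hy
  refine ⟨u, h2, fun b => ?_⟩
  rw [cX_mul hp (inv_mem h2) hs, cX_inv h2, h3]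
  have h4 : cX hpE6 (th6 r u) b = cX hp s (ex b) := h1 b
  rw [h4, inv_mul_cancel₀ ((isMC_cX hp hs).ne_zero _)]

theorem act {y : YY D r} (hy : y * t = t * y) : ∃ u, Act j y u := by
  let H : Subgroup (YY D r) :=
    { carrier := {y | ∃ u, Act j y u}
      one_mem' := ⟨1, act_one⟩
      mul_mem' := fun ⟨u, hu⟩ ⟨v, hv⟩ => ⟨u * v, hu.mul hv⟩
      inv_mem' := fun ⟨u, hu⟩ => ⟨u⁻¹, hu.inv⟩ }
  have h1 : j.range ≤ H := by
    rintro _ ⟨u, rfl⟩
    exact ⟨u, act_self u⟩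
  have h2 : DZ hp r {t} ≤ H := by
    refine sup_le (Mz_le fun a ha => ?_) fun s hs => ?_
    · rcases E.split a ha with ⟨b, hb, rfl⟩ | h
      · exact (E.X_range hb).trans h1
      · exact fun x hx => ⟨1, act_of_comm (E.comm_j fun b hb y hy =>
          (E.so a h b hb).comm hp (Ps_root ha) (E.je.isRoot hb) hx hy)⟩
    · obtain ⟨u, h3, h4⟩ := E.T_j hs
      have h5 : (j u)⁻¹ * s ∈ H := ⟨1, act_of_comm (E.comm_j fun b hb y hy =>
        comm_X (mul_mem (inv_mem h3) hs) (E.je.isRoot hb) (h4 b) hy)⟩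
      have h6 := mul_mem (h1 ⟨u, rfl⟩) h5
      rw [mul_inv_cancel_left] at h6
      exact h6
  exact h2 (E.conn y hy)

theorem act_th {y : YY D r} {u v : St6 r} (hu : Act j y u) (hv : Act j y v) : th6 r u = th6 r v := by
  have h1 : u⁻¹ * v ∈ Subgroup.center (St6 r) := Subgroup.mem_center_iff.2 fun m => by
    have h2 := (hu.inv.mul hv) m
    rw [inv_mul_cancel, one_mul, inv_one, mul_one] at h2
    have h3 := E.inj h2
    calc m * (u⁻¹ * v) = u⁻¹ * v * m * (u⁻¹ * v)⁻¹ * (u⁻¹ * v) := by rw [← h3]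
      _ = _ := by group
  have h2 : th6 r (u⁻¹ * v) = 1 := ker6.ge h1
  rw [map_mul, map_inv, inv_mul_eq_one] at h2
  exact h2

omit E in
theorem act_of_th {y : YY D r} {u v : St6 r} (hu : Act j y u) (h : th6 r v = th6 r u) : Act j y v := by
  have h1 : u⁻¹ * v ∈ Subgroup.center (St6 r) := ker6.le (by
    rw [MonoidHom.mem_ker, map_mul, map_inv, h, inv_mul_cancel])
  have h2 := hu.mul_center h1
  rw [mul_inv_cancel_left] at h2
  exact h2

/-- the centre of the connected centralizer -/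
theorem central {c : YY D r} (hc : c * t = t * c) (h1 : ∀ u, c * j u = j u * c)
    (h2 : ∀ a ∈ R, ∀ y ∈ XX D l (KK r) a, c * y = y * c) {y : YY D r} (hy : y * t = t * y) : c * y = y * c := by
  have h3 : Mz hp r {t} ≤ Subgroup.centralizer {c} := Mz_le fun a ha x hx => by
    refine Subgroup.mem_centralizer_singleton_iff.2 ?_
    rcases E.split a ha with ⟨b, hb, rfl⟩ | h
    · obtain ⟨u, rfl⟩ := E.X_range hb hx
      exact (h1 u).symm
    · exact (h2 a h x hx).symm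
  have h4 : c ∈ TT D (KK r) := mem_T_of_comm hp fun s hs => by
    obtain ⟨u, a1, a2⟩ := E.T_j hs
    have hs' := mul_mem (inv_mem a1) hs
    obtain ⟨m, b1, b2, b3, b4⟩ := E.diag _ hs'
    have hT := mul_mem (inv_mem b2) hs'
    have h5 : Commute (m⁻¹ * ((j u)⁻¹ * s)) c := comm_DZ hT (fun a ha => by
      rw [cX_mul hp (inv_mem b2) hs', cX_inv b2]
      rcases E.split a ha with ⟨b, hb, rfl⟩ | h
      · obtain ⟨v, hv⟩ := E.X_range hb (xc_mem (hp := hp) (E.je.isRoot hb) 1)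
        rw [a2, cX_eq_one_of_comm b2 (E.je.isRoot hb) one_ne_zero (by rw [← hv]; exact b4 v), inv_one, one_mul]
      · rw [b3 a h, inv_mul_cancel₀ ((isMC_cX hp hs').ne_zero _)]) (E.conn c hc)
    have h6 : Commute m c := Subgroup.mem_centralizer_singleton_iff.1 (h3 b1)
    have h7 : Commute (j u) c := (h1 u).symm
    have h8 := h7.mul_left (h6.mul_left h5)
    rw [mul_inv_cancel_left, mul_inv_cancel_left] at h8
    exact h8.symm
  refine comm_DZ h4 (fun a ha => cX_eq_one_of_comm h4 (Ps_root ha) one_ne_zero ?_) (E.conn y hy)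
  exact (Subgroup.mem_centralizer_singleton_iff.1 (h3 (X_le_Mz ha (xc_mem (Ps_root ha) 1)))).symm

/-- the Frobenius automorphism on the component -/
theorem frob (h6 : BoxFrob6) {e : ℕ} (he : 0 < e) {σ : MulAut (YY D r)} {γ : (Fin l → ℤ) ≃+ (Fin l → ℤ)}
    (hσ : IsFrob r e σ) (F : Fr M.toCoxeterSystem hp.isCartan (TT D (KK r)) (XX D l (KK r)) σ γ) (ht : σ t = t) :
    ∃ (σL : MulAut (St6 r)) (σ6 : MulAut (YY chevE6 r)) (g : (Fin 6 → ℤ) ≃+ (Fin 6 → ℤ)),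
      (∀ u, j (σL u) = σ (j u)) ∧ (∀ u, th6 r (σL u) = σ6 (th6 r u)) ∧ IsFrob r e σ6 ∧
      Fr CoxeterMatrix.E₆.toCoxeterSystem hpE6.isCartan (TT chevE6 (KK r)) (XX chevE6 6 (KK r)) σ6 g := by
  obtain ⟨g, hg⟩ := E.exists_g6 γ F.root (fr_mem_Ps F E.tor ht)
  have hgr : ∀ b, R6 (g b) ↔ R6 b := fun b => by rw [← E.root_iff, ← E.root_iff, hg, F.root]
  obtain ⟨σL, hL⟩ := exists_restrict E.inj σ fun y => by
    rw [E.je.range_eq]
    refine F.mem_Sup ?_ (fun a => ⟨?_, ?_⟩) y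
    · rintro _ ⟨b, hb, rfl⟩
      exact E.je.isRoot hb
    · rintro ⟨b, hb, e⟩
      refine ⟨g.symm b, (hgr _).1 (by rw [AddEquiv.apply_symm_apply]; exact hb), γ.injective ?_⟩
      rw [← hg, AddEquiv.apply_symm_apply, e]
    · rintro ⟨b, hb, rfl⟩
      exact ⟨g b, (hgr b).2 hb, hg b⟩
  obtain ⟨σ6, h6'⟩ := exists_descend (θ := th6 r) (theta_surjective hpE6.inList) σL fun x => by
    rw [← MonoidHom.mem_ker, ← MonoidHom.mem_ker, ker6]
    exact MulEquivClass.apply_mem_center_iff σL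
  obtain ⟨h1, h2⟩ := h6 r e σ6 g he (fun a => by rw [rt_iff hpE6 CoxeterMatrix.E₆.toCoxeterSystem,
    rt_iff hpE6 CoxeterMatrix.E₆.toCoxeterSystem]; exact hgr a) (by
      rintro _ ⟨s, hs, rfl⟩
      have hb : R6 (vec chevE6 6 s) := isRoot_vec hpE6 _ hs
      obtain ⟨s', hs', e'⟩ := (isRoot_iff hpE6 CoxeterMatrix.E₆.toCoxeterSystem _).1 ((hgr _).2 hb)
      obtain ⟨u, hu, h3⟩ := H508.Dens.frob_form hp M.toCoxeterSystem hσ F (E.je.isRoot hb)
      refine ⟨u, hu, fun c => ?_⟩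
      rw [← th6_gen hs, h6', ← e', ← th6_gen hs']
      congr 1
      refine E.inj ?_
      rw [hL, E.je.gen s hs, E.je.gen s' hs', h3, e', hg])
  exact ⟨σL, σ6, g, hL, fun u => (h6' u).symm, h1, h2⟩

end SE

end TR

end Cfsg.Agent.BHZ.Exc
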