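import Cfsg.Agent.BHZ.Exc.TRA

/-!
# S4806, exceptional groups: a component of type `E₆`, the transfer (helper34)
-/

set_option autoImplicit false
set_option linter.unusedSectionVars false
set_option maxRecDepth 100000

namespace Cfsg.Agent.BHZ.Exc

open CoxeterSystem Cfsg Cfsg.Lie Cfsg.Lie.ChevalleyDatum
open Cfsg.Agent.ChevalleyStructure Cfsg.Agent.ChevalleyStructure.Elts Cfsg.Agent.ChevalleyStructure.CoxeterGeom
  Cfsg.Agent.ChevalleyStructure.CoxeterGeomTypes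
open Cfsg.Agent.Tits.Roots Cfsg.Agent.Tits.Core Cfsg.Agent.Nodes Cfsg.Agent.Nodes.Reps Cfsg.Agent.Nodes.BNOf
  Cfsg.Agent.Nodes.RGDChev Cfsg.Agent.Nodes.Bruhat
open Cfsg.Agent.KFacts.RgdField Cfsg.Agent.KFacts.RgdChevCoord
open Cfsg.Agent.BpExc Cfsg.Agent.BpExc.TorCent Cfsg.Agent.BpExc.TorChev Cfsg.Agent.BpExc.Tow
  Cfsg.Agent.BpExc.TowChev Cfsg.Agent.BpExc.Fr Cfsg.Agent.BpExc.LangFr
open Cfsg.Agent.H469.Exc Cfsg.Agent.H795.SetCent Cfsg.Agent.H129.TorusChar Cfsg.Agent.DS.Ex Cfsg.Agent.DS.Nt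
open Cfsg.Agent.H46.Gen (AFr Rt xf)
open Cfsg.Agent.H321.Ker (cj stG stm sc)
open Cfsg.Agent.H931.KC (al)
open Cfsg.Agent.H665.NoPQ (HasDZ)
open scoped MatrixGroups
open Matrix.SpecialLinearGroup (transvection)
set_option maxHeartbeats 400000

namespace TR

open AA CovII

variable {D : ChevalleyDatum} {l : ℕ} {M : CoxeterMatrix (Fin l)} {r : ℕ} [Fact r.Prime]
  {hp : IsType D l M} {ex : (Fin 6 → ℤ) →+ (Fin l → ℤ)} {f : Fin 6 → Fin l} {j : St6 r →* YY D r}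
  {R : Set (Fin l → ℤ)} {c : ℕ} {X : Type} [Group X] {Q : Subgroup X}

/-- **The transfer to case II.** -/
theorem comm6 (h6 : BoxFrob6) (hF : BoxFull6) (hr3 : r ≠ 3) (hM : Main6 r) (hl : 6 ≤ l)
    (G : GS hp 3 c (MonoidHom.id (YY D r)) X Q) (hπ : Function.Injective G.π) {a : X} (ha : a ∈ Q)
    (hc : ∀ d ∈ Q, d * a = a * d) (E : SE hp ex f j (G.π a) R) {d d' : X} (hd : d ∈ Q) (hd' : d' ∈ Q) {u u' : St6 r}
    (hu : Act j (G.π d) u) (hu' : Act j (G.π d') u') : u * u' = u' * u := by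
  have := Fact.mk Nat.prime_three
  have := G.fin
  obtain ⟨σL, σ6, g, hL, hθ, h1, h2⟩ := E.frob h6 G.he G.frob G.fr (G.fixπ a)
  have hσ : ∀ x, G.σL x = G.σ x := G.lift
  have hX : ∀ x : Subgroup.centralizer ({a} : Set X), G.π x * G.π a = G.π a * G.π x := fun x => by
    rw [← map_mul, ← map_mul, Subgroup.mem_centralizer_singleton_iff.1 x.2]
  choose lf hlf using fun x : Subgroup.centralizer ({a} : Set X) => E.act (hX x)
  let π' : Subgroup.centralizer ({a} : Set X) →* YY chevE6 r := MonoidHom.mk' (fun x => th6 r (lf x)) fun x y => by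
    rw [← map_mul]
    refine E.act_th (hlf (x * y)) ?_
    rw [Subgroup.coe_mul, map_mul]
    exact (hlf x).mul (hlf y)
  have hπ' : ∀ x u, th6 r u = π' x ↔ Act j (G.π x) u := fun x u =>
    ⟨fun h => SE.act_of_th (hlf x) h, fun h => E.act_th h (hlf x)⟩
  let L0 : Subgroup (St6 r) := σL.toMonoidHom.eqLocus (MonoidHom.id _)
  have hL0 : ∀ m, m ∈ L0 ↔ σL m = m := fun _ => Iff.rfl
  have hj : ∀ m : L0, j m ∈ G.L0 := fun m => by
    have h3 := hF r hr3 G.e σ6 g G.he h1 h2 σL hθ m m.2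
    have h4 : Subgroup.closure {u : St6 r | σL u = u ∧ ∃ n : ℕ, u ^ r ^ n = 1} ≤ G.L0.comap j := by
      rw [Subgroup.closure_le]
      rintro v ⟨h5, n, hn⟩
      exact G.rel _ (by rw [hσ, ← hL, h5]) ⟨n, by rw [← map_pow, hn, map_one]⟩
    exact h4 h3
  have hπψ : ∀ m : L0, G.π (G.ψ ⟨j m, hj m⟩) = j m := fun m => G.πψ _
  let ψ' : L0 →* Subgroup.centralizer ({a} : Set X) :=
    (G.ψ.comp ((j.comp L0.subtype).codRestrict G.L0 hj)).codRestrict _ fun m =>
      Subgroup.mem_centralizer_singleton_iff.2 (hπ (by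
        show G.π (G.ψ ⟨j m, hj m⟩ * a) = G.π (a * G.ψ ⟨j m, hj m⟩)
        rw [map_mul, map_mul, hπψ]
        exact E.j_comm m))
  have hψ' : ∀ m : L0, G.π (ψ' m) = j m := hπψ
  let G' : GS hpE6 3 c (th6 r) (Subgroup.centralizer ({a} : Set X))
      (Q.subgroupOf (Subgroup.centralizer ({a} : Set X))) :=
    { e := G.e
      σ := σ6
      g := g
      σL := σL
      π := π'
      L0 := L0
      ψ := ψ'
      he := G.he
      frob := h1
      fr := h2
      lift := hθ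
      fixπ := fun x => by
        have h3 : σ6 (π' x) = th6 r (σL (lf x)) := (hθ _).symm
        rw [h3, hπ']
        intro m
        obtain ⟨m, rfl⟩ := σL.surjective m
        rw [← map_inv σL, ← map_mul σL, ← map_mul σL, hL, hL, ← hlf x m, map_mul G.σ, map_mul G.σ, map_inv G.σ, G.fixπ]
      fixL := fun m hm => hm
      πψ := fun m => ((hπ' _ _).2 (by rw [hψ']; exact act_self _)).symm
      eqv := fun x y hy m => by
        have h3 := (hπ' x y).1 hy m
        have h4 : y * m * y⁻¹ ∈ L0 := (hL0 _).2 (E.inj (by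
          rw [hL, ← h3, map_mul G.σ, map_mul G.σ, map_inv G.σ, G.fixπ, ← hL, (hL0 _).1 m.2]))
        refine ⟨h4, Subtype.ext (hπ ?_)⟩
        rw [hψ', Subgroup.coe_mul, Subgroup.coe_mul, Subgroup.coe_inv, map_mul G.π, map_mul G.π, map_inv G.π, hψ']
        exact h3.symm
      rel := fun u hu _ => hu
      full2 := fun _ _ u hu => hu
      hc := fun _ _ => G.hc hl rfl
      fin := inferInstance
      loc := G.loc.cent ha hc }
  have hA : G'.Ab := hM c _ _ G' fun u hu => hu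
  have hm : ∀ x ∈ Q, ∀ v, Act j (G.π x) v → v ∈ G'.Dh := fun x hx v hv =>
    G'.mem_Dh_of (d := ⟨x, Subgroup.mem_centralizer_singleton_iff.2 (hc x hx)⟩) (Subgroup.mem_subgroupOf.2 hx)
      ((hπ' ⟨x, Subgroup.mem_centralizer_singleton_iff.2 (hc x hx)⟩ v).2 hv)
  exact hA u (hm d hd u hu) u' (hm d' hd' u' hu')

/-- **The conclusion** from the commutation of the other components. -/
theorem ab_of (h6 : BoxFrob6) (hF : BoxFull6) (hr3 : r ≠ 3) (hM : Main6 r) (hl : 6 ≤ l)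
    (G : GS hp 3 c (MonoidHom.id (YY D r)) X Q) (hπ : Function.Injective G.π) {a : X} (ha : a ∈ Q)
    (hc : ∀ d ∈ Q, d * a = a * d) (E : SE hp ex f j (G.π a) R)
    (hR : ∀ d ∈ Q, ∀ d' ∈ Q, ∃ y y' : YY D r, y * y' = y' * y ∧ y * G.π a = G.π a * y ∧ y' * G.π a = G.π a * y' ∧
      (∀ u, y * j u = j u * y) ∧ (∀ u, y' * j u = j u * y') ∧
      (∀ b ∈ R, ∀ x ∈ XX D l (KK r) b, y⁻¹ * G.π d * x = x * (y⁻¹ * G.π d)) ∧
      (∀ b ∈ R, ∀ x ∈ XX D l (KK r) b, y'⁻¹ * G.π d' * x = x * (y'⁻¹ * G.π d')) ∧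
      ∀ b ∈ R, ∀ x ∈ XX D l (KK r) b, ∀ u, j u * x = x * j u) : G.Ab := by
  rintro _ ⟨d, hd, rfl⟩ _ ⟨d', hd', rfl⟩
  have hQ : ∀ x ∈ Q, G.π x * G.π a = G.π a * G.π x := fun x hx => by rw [← map_mul, ← map_mul, hc x hx]
  obtain ⟨u, hu⟩ := E.act (hQ d hd)
  obtain ⟨u', hu'⟩ := E.act (hQ d' hd')
  have h1 := comm6 h6 hF hr3 hM hl G hπ ha hc E hd hd' hu hu'
  obtain ⟨y, y', c0, c1, c1', c2, c2', c3, c3', c4⟩ := hR d hd d' hd'
  have key : ∀ (w y : YY D r) (u : St6 r), w * G.π a = G.π a * w → Act j w u → y * G.π a = G.π a * y →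
      (∀ u, y * j u = j u * y) → (∀ b ∈ R, ∀ x ∈ XX D l (KK r) b, y⁻¹ * w * x = x * (y⁻¹ * w)) →
      ∀ z, z * G.π a = G.π a * z → Commute ((j u)⁻¹ * (y⁻¹ * w)) z := by
    intro w y u k1 k2 k3 k4 k5 z hz
    refine E.central ((Commute.inv_left (E.j_comm u)).mul_left ((Commute.inv_left k3).mul_left k1)).eq (fun v => ?_)
      (fun b hb x hx => ((Commute.inv_left (c4 b hb x hx u)).mul_left (k5 b hb x hx)).eq) hz
    have k6 := (act_self (φ := j) u).inv.mul ((act_of_comm k4).inv.mul k2)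
    rw [inv_one, one_mul, inv_mul_cancel] at k6
    exact k6.of_center (one_mem _) v
  have z1 := key _ y u (hQ d hd) hu c1 c2 c3
  have z2 := key _ y' u' (hQ d' hd') hu' c1' c2' c3'
  have e1 : G.π d = y * (j u * ((j u)⁻¹ * (y⁻¹ * G.π d))) := by group
  have e2 : G.π d' = y' * (j u' * ((j u')⁻¹ * (y'⁻¹ * G.π d'))) := by group
  have k1 : Commute y (G.π d') := by
    rw [e2]
    exact Commute.mul_right c0 (Commute.mul_right (c2 u') (z2 y c1).symm)
  have k2 : Commute (j u) (G.π d') := by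
    rw [e2]
    refine Commute.mul_right (c2' u).symm (Commute.mul_right ?_ (z2 _ (E.j_comm u)).symm)
    show j u * j u' = j u' * j u
    rw [← map_mul, ← map_mul, h1]
  have k3 : Commute (G.π d) (G.π d') := by
    rw [e1]
    exact k1.mul_left (k2.mul_left (z1 _ (hQ d' hd')))
  exact k3

end TR

end Cfsg.Agent.BHZ.Exc
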